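import Cfsg.Agent.H7.TameF
import Cfsg.Agent.H7.FrobAb
import Cfsg.Agent.H7.Klein
import Cfsg.Agent.H8.AD3

/-! Principal blocks with abelian Sylow subgroup (`AS`): inertial index `ei`, the class formula
`AS.card_mul`, transfer to centralizers and quotients (`AS.map`, `QH`), the case of a normal Sylow
subgroup with free abelian action (`FA.rank_of_normal`). -/

open H5 Cfsg MonoidAlgebra Subgroup
open H8 (cC nN c1 cA mp io St Le Sp BP b0)
open scoped ComplexConjugate commutatorElement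

namespace H7

variable {M : Ideal AlgInt} {G H : Type*} [Group G] [Finite G] [Group H] [Finite H] {p : ℕ}

theorem blockRank_mono {A B : Set (IrrCharacter G)} (h : A ⊆ B) : blockRank p A ≤ blockRank p B :=
  Submodule.finrank_mono (Submodule.span_mono (Set.image_mono h))

theorem ncard_cls (N : Subgroup G) (t : G) :
    {y | ∃ h ∈ N, h * t * h⁻¹ = y}.ncard = (c1 t).relIndex N := by
  letI : MulAction N G := MulAction.compHom G ((MulAut.conj (G := G)).comp N.subtype)
  have h1 : {y | ∃ h ∈ N, h * t * h⁻¹ = y} = MulAction.orbit N t := by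
    ext y
    exact ⟨fun ⟨h, hh, e⟩ => ⟨⟨h, hh⟩, e⟩, fun ⟨h, e⟩ => ⟨h, h.2, e⟩⟩
  have h2 : MulAction.stabilizer N t = (c1 t).subgroupOf N := by
    ext n
    rw [MulAction.mem_stabilizer_iff, mem_subgroupOf, mem_centralizer_singleton_iff]
    exact mul_inv_eq_iff_eq_mul
  rw [h1, ← MulAction.index_stabilizer, h2, relIndex]

omit [Finite G] in
theorem mem_c1' {x y : G} : x ∈ c1 y ↔ x * y * x⁻¹ = y :=
  mem_centralizer_singleton_iff.trans mul_inv_eq_iff_eq_mul.symm

omit [Finite G] in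
theorem mem_cC' {P : Subgroup G} {x : G} : x ∈ cC P ↔ ∀ y ∈ P, x * y * x⁻¹ = y :=
  mem_centralizer_iff.trans (forall₂_congr fun _ _ => eq_comm.trans mul_inv_eq_iff_eq_mul.symm)

theorem conj_mem_nN {P : Subgroup G} {n y : G} (hn : n ∈ nN P) (hy : y ∈ P) : n * y * n⁻¹ ∈ P :=
  (mem_normalizer_iff.1 hn y).1 hy

/-- inertial index -/
noncomputable abbrev ei (P : Subgroup G) : ℕ := (cC P).relIndex (nN P)

/-- inertial index in the centralizer of `v` -/
noncomputable abbrev es (P : Subgroup G) (v : G) : ℕ := (cC P).relIndex (c1 v ⊓ nN P)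

/-- index of the fixed points of the normalizer -/
noncomputable abbrev iz (P : Subgroup G) : ℕ := (cC (nN P)).relIndex P

omit [Finite G] in
theorem es_mul {P : Subgroup G} {v : G} (hv : v ∈ P) :
    es P v * (c1 v).relIndex (nN P) = ei P := by
  rw [← inf_relIndex_right (c1 v)]
  exact relIndex_mul_relIndex _ _ _ (le_inf (fun _ h => mem_c1'.2 (mem_cC'.1 h v hv))
    (H8.cC_le_nN P)) inf_le_right

theorem ei_ne_zero (P : Subgroup G) : ei P ≠ 0 := index_ne_zero_of_finite

omit [Finite G] in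
theorem es_of_le {P : Subgroup G} {v : G} (h : nN P ≤ c1 v) : es P v = ei P := by
  rw [es, inf_eq_right.2 h]

/-- `π` does not identify an element of `P` with a different `N(P)`-conjugate -/
def QH (π : G →* H) (P : Subgroup G) : Prop :=
  ∀ n ∈ nN P, ∀ v ∈ P, π (n * v * n⁻¹) = π v → n * v * n⁻¹ = v

section QH
variable {π : G →* H} {P K : Subgroup G}

omit [Finite G] [Finite H] in
theorem qh_of_inj (h : Function.Injective π) (P : Subgroup G) : QH π P := fun _ _ _ _ e => h e

omit [Finite H] in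
theorem qh_of_inf (h : P ⊓ π.ker = ⊥) : QH π P := fun n hn v hv e => by
  have : n * v * n⁻¹ * v⁻¹ ∈ P ⊓ π.ker := mem_inf.2
    ⟨mul_mem (conj_mem_nN hn hv) (inv_mem hv), by rw [MonoidHom.mem_ker, map_mul, e]; simp⟩
  rwa [h, mem_bot, mul_inv_eq_one] at this

omit [Finite G] [Finite H] in
theorem QH.c1_iff (h : QH π P) {n v : G} (hn : n ∈ nN P) (hv : v ∈ P) :
    π n ∈ c1 (π v) ↔ n ∈ c1 v := by
  rw [mem_c1', mem_c1']
  exact ⟨fun e => h n hn v hv (by simpa using e), fun e => by simpa using congrArg π e⟩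

omit [Finite G] [Finite H] in
theorem QH.cC_iff (h : QH π P) {n : G} (hn : n ∈ nN P) : π n ∈ cC (P.map π) ↔ n ∈ cC P := by
  rw [← le_centralizer_singleton_iff, ← le_centralizer_singleton_iff, map_le_iff_le_comap]
  refine forall₂_congr fun v hv => ?_
  have := h.c1_iff hn hv
  simp only [mem_centralizer_singleton_iff, mem_comap] at this ⊢
  rw [eq_comm, this, eq_comm]

omit [Finite G] [Finite H] in
theorem QH.rel (h : QH π P) (hK : K ≤ nN P) :
    (cC (P.map π)).relIndex (K.map π) = (cC P).relIndex K := by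
  rw [← relIndex_comap, ← inf_relIndex_right, ← inf_relIndex_right (cC P)]
  congr 1
  ext n
  exact and_congr_left fun hn => h.cC_iff (hK hn)

omit [Finite G] [Finite H] in
theorem QH.map_inf (h : QH π P) {v : G} (hv : v ∈ P) :
    (c1 v ⊓ nN P).map π = c1 (π v) ⊓ (nN P).map π := by
  ext x
  constructor
  · rintro ⟨n, hn, rfl⟩
    exact ⟨(h.c1_iff hn.2 hv).2 hn.1, n, hn.2, rfl⟩
  · rintro ⟨h1, n, hn, rfl⟩
    exact ⟨n, ⟨(h.c1_iff hn hv).1 h1, hn⟩, rfl⟩

omit [Finite G] [Finite H] in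
theorem QH.iz (h : QH π P) : (cC ((nN P).map π)).relIndex (P.map π) = iz P := by
  rw [← relIndex_comap, ← inf_relIndex_right, H7.iz, ← inf_relIndex_right (cC _)]
  congr 1
  ext v
  rw [mem_inf, mem_inf]
  refine and_congr_left fun hv => ?_
  rw [mem_comap, ← le_centralizer_singleton_iff,
    ← le_centralizer_singleton_iff, map_le_iff_le_comap]
  exact forall₂_congr fun n hn => h.c1_iff hn hv

omit [Finite G] in
theorem map_nN_sub (h : P ≤ K) : (nN (P.subgroupOf K)).map K.subtype = K ⊓ nN P := by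
  have e : (P.subgroupOf K).map K.subtype = P := by rw [subgroupOf_map_subtype, inf_eq_left.2 h]
  ext x
  constructor
  · rintro ⟨n, hn, rfl⟩
    exact ⟨n.2, e ▸ (H8.mem_nN_map _ K.subtype_injective).2 hn⟩
  · rintro ⟨h1, h2⟩
    exact ⟨⟨x, h1⟩, (H8.mem_nN_map _ K.subtype_injective).1 (e.symm ▸ h2), rfl⟩

omit [Finite G] in
theorem ei_sub (h : P ≤ K) : ei (P.subgroupOf K) = (cC P).relIndex (K ⊓ nN P) := by
  rw [ei, ← (qh_of_inj K.subtype_injective _).rel le_rfl, map_nN_sub h, subgroupOf_map_subtype,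
    inf_eq_left.2 h]

end QH

variable [hp : Fact p.Prime]

theorem blockRank_icomp {π : G →* H} (hπ : Function.Surjective π) (A : Set (IrrCharacter H)) :
    blockRank p (icomp π hπ '' A) = blockRank p A := by
  let L : (H → ℂ) →ₗ[ℂ] G → ℂ := ⟨⟨fun f => reg p fun x => f (π x), fun f g => funext fun x => by
    simp only [reg, Pi.add_apply]; split_ifs <;> simp⟩, fun c f => funext fun x => by
    simp only [reg, Pi.smul_apply]; split_ifs <;> simp⟩
  have h1 : ∀ f : H → ℂ, L (reg p f) = reg p fun x => f (π x) := fun f => funext fun x => by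
    by_cases e : p ∣ orderOf x
    · simp [L, reg, e]
    · simp [L, reg, e, show ¬ p ∣ orderOf (π x) from fun e' => e (e'.trans (orderOf_map_dvd _ _))]
  have h2 : (fun χ : IrrCharacter G => pRegularPart p (χ : G → ℂ)) '' (icomp π hπ '' A) =
      L '' ((fun χ : IrrCharacter H => pRegularPart p (χ : H → ℂ)) '' A) := by
    rw [Set.image_image, Set.image_image]
    exact Set.image_congr fun χ _ => by rw [pRegularPart_eq, pRegularPart_eq, h1]; rfl
  rw [blockRank, h2, ← Submodule.map_span, ← LinearMap.range_domRestrict]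
  refine LinearMap.finrank_range_of_inj ((injective_iff_map_eq_zero _).2 fun f e => ?_)
  refine Subtype.ext (funext fun y => ?_)
  by_cases hy : p ∣ orderOf y
  · refine Submodule.span_induction (p := fun f _ => f y = 0) ?_ rfl ?_ ?_ f.2
    · rintro _ ⟨χ, -, rfl⟩
      simp only [pRegularPart_eq, reg_of_dvd _ hy]
    · intro a b _ _ ha hb
      simp [ha, hb]
    · intro c a _ ha
      simp [ha]
  · obtain ⟨x, hx, rfl⟩ := exists_pRegular_lift hπ hy
    simpa [L, reg, hx] using congrFun e x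

theorem blockRank_univ (h : ¬ p ∣ Nat.card G) :
    blockRank p (Set.univ : Set (IrrCharacter G)) = Nat.card (IrrCharacter G) := by
  have := Fintype.ofFinite G
  rw [blockRank, Set.image_univ, Nat.card_eq_fintype_card,
    ← finrank_span_eq_card linearIndependent_irr, show (fun χ : IrrCharacter G =>
      pRegularPart p (χ : G → ℂ)) = fun χ : IrrCharacter G => (χ : G → ℂ) from funext fun χ => ?_]
  funext x
  rw [pRegularPart_eq, reg_of_not_dvd _ fun e => h (e.trans (orderOf_dvd_natCard _))]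

theorem SylIn.not_dvd {P K : Subgroup G} (h : SylIn p P K) : ¬ p ∣ P.relIndex K := by
  obtain ⟨Q, rfl⟩ := h
  rw [relIndex, subgroupOf, comap_map_eq_self_of_injective K.subtype_injective]
  exact Q.not_dvd_index

theorem SylIn.map_nN {P : Subgroup G} (h : SylIn p P ⊤) {π : G →* H} (hπ : Function.Surjective π) :
    (nN P).map π = nN (P.map π) := by
  refine le_antisymm (le_normalizer_map π) fun y hy => ?_
  obtain ⟨g, rfl⟩ := hπ y
  obtain ⟨x, hx, e⟩ := (h.of_le (le_comap_map π P) le_top).exists_cj_le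
    (isPGroup_cj h.isPGroup g) (cj_le_iff'.2 fun d hd => by
      simpa using conj_mem_nN hy (mem_map_of_mem π hd))
  obtain ⟨z, hz, e2⟩ := hx
  rw [cj_cj] at e
  exact ⟨z⁻¹ * (x * g), mul_mem (inv_mem (le_normalizer hz))
    (mem_normalizer_fintype (cj_le_iff'.1 e)), by simp [e2]⟩

/-- abelian Sylow subgroup -/
structure AS (p : ℕ) (P : Subgroup G) : Prop where
  syl : SylIn p P ⊤
  ab : P ≤ cC P

omit [Finite G] hp in
theorem as_sylow (P : Sylow p G) (h : IsMulCommutative P) : AS p (P : Subgroup G) :=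
  ⟨sylIn_top P, fun a ha b hb => congrArg Subtype.val (h.is_comm.comm ⟨b, hb⟩ ⟨a, ha⟩)⟩

namespace AS
variable {P K : Subgroup G} (h : AS p P) {π : G →* H} {v w : G}
include h

omit [Finite G] hp in
theorem le_c1 (hv : v ∈ P) : P ≤ c1 v := le_centralizer_singleton_iff.2 (h.ab hv)

theorem sub (hK : P ≤ K) : AS p (P.subgroupOf K) :=
  ⟨subgroupOf_self K ▸ H8.sylIn_subgroupOf (h.syl.of_le hK le_top) le_rfl,
    fun _ ha _ hb => Subtype.ext (h.ab ha _ hb)⟩

omit [Finite H] in
theorem map (hπ : Function.Surjective π) : AS p (P.map π) :=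
  ⟨map_top_of_surjective π hπ ▸ h.syl.map π, by
    rintro _ ⟨a, ha, rfl⟩ _ ⟨b, hb, rfl⟩
    rw [← map_mul, ← map_mul, h.ab ha b hb]⟩

theorem not_dvd : ¬ p ∣ ei P := fun e =>
  (h.syl.of_le le_normalizer le_top).not_dvd (e.trans (relIndex_dvd_of_le_left _ h.ab))

theorem pow_mem {n : G} (hn : n ∈ nN P) : n ^ ei P ∈ cC P :=
  haveI : ((cC P).subgroupOf (nN P)).Normal := normal_subgroupOf_centralizer_normalizer _
  pow_index_mem ((cC P).subgroupOf (nN P)) ⟨n, hn⟩

omit [Finite H] in
theorem qh (h1 : IsPGroup p π.ker) (h2 : ∀ z ∈ π.ker, ∀ g, g * z = z * g) : QH π P := by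
  intro n hn v hv e
  set z := v⁻¹ * (n * v * n⁻¹) with hz
  have z1 : z ∈ π.ker := by rw [MonoidHom.mem_ker, hz, map_mul, e]; simp
  have e1 : n * v * n⁻¹ = v * z := by rw [hz]; group
  have e2 : ∀ k : ℕ, n ^ k * v * (n ^ k)⁻¹ = v * z ^ k := fun k => by
    induction k with
    | zero => simp
    | succ k ih =>
      calc _ = n * (n ^ k * v * (n ^ k)⁻¹) * n⁻¹ := by group
        _ = n * v * n⁻¹ * z ^ k := by
          rw [ih, mul_assoc (n * v), h2 _ (π.ker.pow_mem z1 k) n⁻¹, ← mul_assoc, ← mul_assoc]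
        _ = _ := by rw [e1]; group
  have e3 := e2 (ei P)
  rw [mem_cC'.1 (h.pow_mem hn) v hv, left_eq_mul] at e3
  rw [e1, (isPE_of_mem h1 z1).eq_one (not_dvd_orderOf_of_pow h.not_dvd e3), mul_one]

theorem isConj_iff' (hv : v ∈ P) (hw : w ∈ P) : IsConj v w ↔ ∃ n ∈ nN P, n * v * n⁻¹ = w :=
  ⟨fun e => exists_normalizer_conj (h.syl.of_le (h.le_c1 hv) le_top) e (h.ab hw),
    fun ⟨n, _, e⟩ => isConj_iff.2 ⟨n, e⟩⟩

theorem pnil (hv : v ∈ P) (e : es P v = 1) : PNil p (c1 v) :=
  pnil_of_sylIn (h.syl.of_le (h.le_c1 hv) le_top) (relIndex_eq_one.1 e)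

variable [PM p M]

theorem nonempty_mp : Nonempty (MP p M (principalBlock M G) P) := by
  obtain ⟨Q, rfl⟩ := h.syl.exists_sylow
  exact H7.nonempty_mp isPBlock_principalBlock ((isDefectGroup_sylow_iff isPBlock_principalBlock Q).2
    (blockDefect_principal (M := M)).ge)

theorem ei_eq_one (e : blockRank p (principalBlock M G) = 1) : ei P = 1 := by
  have h1 : reg p (irrOne G : G → ℂ) ≠ 0 := fun h => by
    simpa [reg_of_not_dvd _ not_dvd_orderOf_one] using congrFun h 1
  have h2 : ∀ χ ∈ principalBlock M G, ∀ x, ¬ p ∣ orderOf x → x ∈ charKer (χ : G → ℂ) := by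
    intro χ hχ x hx
    obtain ⟨c, hc⟩ := (finrank_eq_one_iff_of_nonzero' (⟨_, Submodule.subset_span
      ⟨_, irrOne_mem_principalBlock, rfl⟩⟩ : Submodule.span ℂ ((fun χ : IrrCharacter G =>
        pRegularPart p (χ : G → ℂ)) '' principalBlock M G))
      (fun e => h1 ((pRegularPart_eq _).symm.trans (congrArg Subtype.val e)))).1 e
        ⟨_, Submodule.subset_span ⟨χ, hχ, rfl⟩⟩
    have h3 := congrArg Subtype.val hc
    have h4 := congrFun h3 x
    have h5 := congrFun h3 1
    simp only [Submodule.coe_smul, Pi.smul_apply, pRegularPart_eq, reg_of_not_dvd _ hx,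
      reg_of_not_dvd _ not_dvd_orderOf_one, irrOne_apply] at h4 h5
    rw [χ.2.isCharacter.mem_charKer, ← h4, ← h5]
  refine relIndex_eq_one.2 fun n hn => ?_
  rw [← pp_mul_pr (p := p) n]
  refine mul_mem (h.ab (mem_of_pe_normalizer h.syl (isPE_pp n) trivial (pp_mem hn)))
    (mem_cC'.2 fun v hv => mul_inv_eq_one.1 ?_)
  refine (isPE_of_mem h.syl.isPGroup (mul_mem (conj_mem_nN (pr_mem hn) hv) (inv_mem hv))).eq_one
    (not_dvd_of_forall_eq (M := M) (isSat_of_isPBlock isPBlock_principalBlock)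
      ⟨_, irrOne_mem_principalBlock⟩ fun χ hχ => apply_eq_of_mem_charKer ?_)
  have := h2 χ hχ (v * (pr p n)⁻¹ * v⁻¹) (by rw [orderOf_conj', orderOf_inv]; exact not_dvd_orderOf_pr n)
  simpa only [mul_assoc] using mul_mem (h2 χ hχ _ (not_dvd_orderOf_pr n)) this

end AS

variable [PM p M]

namespace MP
variable {P : Subgroup G} (m : MP p M (principalBlock M G) P) {v w : P}

theorem bu_pr (v : P) : m.bu v = principalBlock M (c1 (v : G)) :=
  ((m.indB_bu v).third_main (subtype_injective _)).1 rfl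

theorem fv_pr (v : P) : m.fv v = b0 M (c1 (v : G)) := by rw [← io_bu, bu_pr]; rfl

theorem fc_pr : m.FC v w ↔ IsConj (v : G) w := ⟨FC.isConj, fun h => by
  obtain ⟨x, hx⟩ := isConj_iff.1 h
  exact ⟨x, (m.gd_iff hx).2 (by rw [fv_pr, fv_pr, H8.cA_b0, cj_c1, hx]), hx⟩⟩

theorem cl_pr (h : AS p P) (v : P) : m.cl v = (c1 (v : G)).relIndex (nN P) := by
  rw [cl, ← ncard_cls, ← Nat.card_coe_set_eq]
  refine Nat.card_congr (Equiv.ofBijective (fun w => ⟨w.1, (h.isConj_iff' v.2 w.1.2).1 w.2.isConj⟩)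
    ⟨fun a b e => Subtype.ext (Subtype.ext (Subtype.mk.inj e)), ?_⟩)
  rintro ⟨_, n, hn, rfl⟩
  exact ⟨⟨⟨_, conj_mem_nN hn v.2⟩, m.fc_pr.2 (isConj_iff.2 ⟨n, rfl⟩)⟩, rfl⟩

end MP

theorem AS.card_mul {P : Subgroup G} [Fintype P] (h : AS p P) :
    Nat.card (principalBlock M G) * ei P =
      ∑ v : P, es P v * blockRank p (principalBlock M (c1 (v : G))) := by
  obtain ⟨m⟩ := h.nonempty_mp (M := M)
  refine Nat.cast_injective (R := ℂ) ?_
  rw [Nat.cast_mul, m.card_eq, Finset.sum_mul, Nat.cast_sum]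
  refine Finset.sum_congr rfl fun v _ => ?_
  have := m.cl_ne_zero v
  rw [← es_mul v.2, ← m.cl_pr h, m.bu_pr]
  push_cast
  field_simp

theorem principal_odd {π : G →* H} (hπ : Function.Surjective π) (h : ¬ p ∣ Nat.card π.ker) :
    principalBlock M G = icomp π hπ '' principalBlock M H := by
  rw [← preimage_principal hπ fun _ _ => sameBlock_of_comp' hπ h, (bijOn_icomp hπ _).image_eq,
    Set.inter_eq_left.2 (principalBlock_subset_kerSet h)]

theorem FA.as {P : Subgroup G} (h : FA p P) : AS p P := ⟨h.syl, h.ab⟩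

theorem FA.rank_le {P : Subgroup G} [Nontrivial P] (h : FA p P) :
    blockRank p (principalBlock M G) ≤ ei P ∧ Nat.card (principalBlock M G) * ei P + 1 =
      blockRank p (principalBlock M G) * ei P + Nat.card P := by
  have := Fintype.ofFinite G
  have := Fintype.ofFinite P
  have hB := isSat_of_isPBlock (isPBlock_principalBlock (M := M) (G := G))
  obtain ⟨ζ, δ, d, α, x⟩ := (h.fam (M := M)).exists_exc
  rw [ei, ← card_autN]
  exact ⟨x.card_rank h.fam hB ▸ x.card_le h.fam, h.fam.card_eq hB⟩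

theorem FA.rank_of_normal {P : Subgroup G} [P.Normal] [Nontrivial P] (h : FA p P)
    (hc : ∀ a b : G, ⁅a, b⁆ ∈ cC P) : blockRank p (principalBlock M G) = ei P := by
  classical
  have := Fintype.ofFinite G
  refine le_antisymm h.rank_le.1 ?_
  have hπ := QuotientGroup.mk'_surjective (cC P)
  have e : ei P = Nat.card (G ⧸ cC P) := by rw [ei, nN, normalizer_eq_top, relIndex_top_right]; rfl
  rw [e, ← card_irr_of_comm, ← blockRank_univ (e ▸ h.as.not_dvd), ← blockRank_icomp hπ]
  · refine blockRank_mono ?_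
    rintro _ ⟨χ, -, rfl⟩
    by_cases h1 : χ = irrOne _
    · exact h1 ▸ irrOne_mem_principalBlock
    rw [mem_principal_iff (p := p)]
    intro h2
    set ψ := icomp _ hπ χ
    have h3 : classInner (ψ : G → ℂ) (irrOne G) = 0 := by
      rw [classInner_irr, if_neg fun e => h1 (icomp_injective _ hπ (e.trans rfl))]
    have hN : ∀ g, g ∈ nN P := fun g => by rw [nN, normalizer_eq_top]; trivial
    have h4 : ∀ g, (ψ : G → ℂ) g = reg p (ψ : G → ℂ) g +
        (if p ∣ orderOf g then 1 else 0) * (ψ : G → ℂ) 1 := fun g => by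
      rw [reg]
      split_ifs with e
      · have := h.free _ (mem_of_pe_normalizer h.syl (isPE_pp g) trivial (hN _))
          (mt pp_eq_one_iff.1 (not_not.2 e)) ⟨mem_centralizer_pp_self g, hN _⟩
        simp [ψ, (QuotientGroup.eq_one_iff _).2 this]
      · simp
    rw [show (irrOne G : G → ℂ) = fun _ => 1 from rfl, classInner_one_right,
      Finset.sum_congr rfl fun g _ => h4 g, Finset.sum_add_distrib, h2, zero_add, ← Finset.sum_mul,
      Finset.sum_boole] at h3
    obtain ⟨v, hv⟩ := exists_ne (1 : P)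
    have h5 : p ∣ orderOf (v : G) := by_contra fun e =>
      hv (Subtype.ext ((isPE_of_mem h.syl.isPGroup v.2).eq_one e))
    simp only [mul_eq_zero, inv_eq_zero, Nat.card_pos.ne', Nat.cast_eq_zero, false_or,
      Finset.card_eq_zero, ψ.2.apply_one_ne_zero, or_false, Finset.filter_eq_empty_iff] at h3
    exact h3 (Finset.mem_univ _) h5
  · intro a b
    obtain ⟨a, rfl⟩ := hπ a
    obtain ⟨b, rfl⟩ := hπ b
    rw [← commutatorElement_eq_one_iff_mul_comm, ← map_commutatorElement]
    exact (QuotientGroup.eq_one_iff _).2 (hc a b)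

end H7
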