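import Mathlib
import Cfsg.Agent.H28.AmG
import Cfsg.Agent.H16.AmD
import Cfsg.Agent.H14.AmN

set_option autoImplicit false

namespace H7.AmC

theorem level {K : Type*} [Field K] [CharZero K] (s η : K) (hs : s ^ 2 = 5) (l : ℕ) (hl : l.Prime)
    (h2 : l ≠ 2) (h5 : l ≠ 5) (hη : η ^ l = 1) (h1 : η ≠ 1) : ∃ a b : K, a ^ 2 + b ^ 2 = -1 := by
  obtain ⟨p, hp, h3, hsq, k, hk⟩ := H16.AmD.pD l hl h2 h5
  obtain ⟨A, B, hAB⟩ := H28.AmG.pG p hp h3 η
  obtain ⟨u, v, c, d, hcd, huv⟩ := H14.AmN.pN p hp hsq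
  have hp1 : η ^ (p + 1) = 1 := by rw [hk, pow_mul, hη, one_pow]
  have hsum : ∑ i ∈ Finset.range (p + 1), η ^ i = 0 := by
    have := mul_geom_sum η (p + 1)
    rw [hp1, sub_self] at this
    exact (mul_eq_zero.1 this).resolve_left (sub_ne_zero.2 h1)
  rw [Finset.sum_range_succ] at hsum
  obtain ⟨m, hm⟩ : Even (p + l) := by
    have ho : Odd l := hl.odd_of_ne_two h2
    have hpo : Odd p := by rw [Nat.odd_iff]; omega
    exact hpo.add_odd ho
  have hξ : η ^ p = (η ^ m) ^ 2 := by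
    have : η ^ (p + l) = η ^ p := by rw [pow_add, hη, mul_one]
    rw [← this, hm]; ring
  have hη0 : η ≠ 0 := by
    rintro rfl
    rw [zero_pow hl.ne_zero] at hη
    exact zero_ne_one hη
  set ξ := η ^ m with hξd
  have hξ0 : ξ ≠ 0 := pow_ne_zero _ hη0
  have hp0 : (p : K) ≠ 0 := Nat.cast_ne_zero.2 hp.ne_zero
  have e1 : (p : K) * (A ^ 2 + (2 * ξ) ^ 2) + B ^ 2 = 0 := by
    have : ∑ i ∈ Finset.range p, η ^ i = -ξ ^ 2 := by rw [← hξ]; linear_combination hsum
    rw [this] at hAB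
    linear_combination -hAB
  have e2 : (p : K) * ((c : K) ^ 2 + (d : K) ^ 2) = (u : K) ^ 2 + (s * v) ^ 2 := by
    have := congrArg (Int.cast : ℤ → K) huv
    push_cast at this
    rw [this, mul_pow, hs]
  have hcd' : (c : K) ^ 2 + (d : K) ^ 2 ≠ 0 := by exact_mod_cast hcd
  by_cases hB : B = 0
  · have : A ^ 2 + (2 * ξ) ^ 2 = 0 := by
      rw [hB] at e1
      have : (p : K) * (A ^ 2 + (2 * ξ) ^ 2) = 0 := by linear_combination e1
      exact (mul_eq_zero.1 this).resolve_left hp0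
    refine ⟨A / (2 * ξ), 0, ?_⟩
    field_simp
    linear_combination this
  · set x := A * u - 2 * ξ * (s * v) with hx
    set y := A * (s * v) + 2 * ξ * u with hy
    set N := (c : K) ^ 2 + (d : K) ^ 2 with hN
    have e3 : x ^ 2 + y ^ 2 = -B ^ 2 * N := by
      have : x ^ 2 + y ^ 2 = (A ^ 2 + (2 * ξ) ^ 2) * ((u : K) ^ 2 + (s * v) ^ 2) := by
        rw [hx, hy]; ring
      rw [this, ← e2]
      linear_combination N * e1
    refine ⟨(x * c - y * d) / (B * N), (x * d + y * c) / (B * N), ?_⟩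
    have e4 : (x * c - y * d) ^ 2 + (x * d + y * c) ^ 2 = -(B * N) ^ 2 := by
      have : (x * c - y * d) ^ 2 + (x * d + y * c) ^ 2 = (x ^ 2 + y ^ 2) * N := by rw [hN]; ring
      rw [this, e3]; ring
    have hBN : B * N ≠ 0 := mul_ne_zero hB hcd'
    rw [div_pow, div_pow, ← add_div, e4, neg_div, div_self (pow_ne_zero _ hBN)]

/-- the centre of the centralizer of a set, as a subfield -/
def zc {D : Type*} [DivisionRing D] (S : Set D) : Subfield D where
  carrier := {z | (∀ s ∈ S, Commute z s) ∧ ∀ w, (∀ s ∈ S, Commute w s) → Commute z w}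
  mul_mem' := fun ha hb => ⟨fun s hs => (ha.1 s hs).mul_left (hb.1 s hs),
    fun w hw => (ha.2 w hw).mul_left (hb.2 w hw)⟩
  one_mem' := ⟨fun s _ => Commute.one_left s, fun w _ => Commute.one_left w⟩
  add_mem' := fun ha hb => ⟨fun s hs => (ha.1 s hs).add_left (hb.1 s hs),
    fun w hw => (ha.2 w hw).add_left (hb.2 w hw)⟩
  zero_mem' := ⟨fun s _ => Commute.zero_left s, fun w _ => Commute.zero_left w⟩
  neg_mem' := fun ha => ⟨fun s hs => (ha.1 s hs).neg_left, fun w hw => (ha.2 w hw).neg_left⟩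
  inv_mem' := fun _ ha => ⟨fun s hs => (ha.1 s hs).inv_left₀, fun w hw => (ha.2 w hw).inv_left₀⟩

theorem lev2 {D : Type*} [DivisionRing D] [CharZero D] (A J t x : D)
    (htA : Commute t A) (htJ : Commute t J) (hxA : Commute x A) (hxJ : Commute x J)
    (hxt : Commute x t) (ht : t * t + t - 1 = 0) (l : ℕ) (hl : l.Prime)
    (h2 : l ≠ 2) (h5 : l ≠ 5) (hη : x ^ l = 1) (h1 : x ≠ 1) :
    ∃ a b : D, Commute a A ∧ Commute a J ∧ Commute b A ∧ Commute b J ∧ Commute a b ∧
      a * a + b * b = -1 := by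
  let S : Set D := {A, J, t, x}
  letI : Field (zc S) := { (inferInstance : DivisionRing (zc S)) with
    mul_comm := fun a b => Subtype.ext (a.2.2 b b.2.1).eq }
  haveI : CharZero (zc S) := ⟨fun a b h => by
    have := congrArg Subtype.val h
    simpa using this⟩
  have hxm : x ∈ zc S := by
    refine ⟨?_, fun w hw => (hw x (by simp [S])).symm⟩
    intro s hs
    simp only [S, Set.mem_insert_iff, Set.mem_singleton_iff] at hs
    rcases hs with rfl | rfl | rfl | rfl
    exacts [hxA, hxJ, hxt, Commute.refl _]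
  have htm : t ∈ zc S := by
    refine ⟨?_, fun w hw => (hw t (by simp [S])).symm⟩
    intro s hs
    simp only [S, Set.mem_insert_iff, Set.mem_singleton_iff] at hs
    rcases hs with rfl | rfl | rfl | rfl
    exacts [htA, htJ, Commute.refl _, hxt.symm]
  have ht' : (⟨t, htm⟩ : zc S) * ⟨t, htm⟩ + ⟨t, htm⟩ - 1 = 0 := Subtype.ext ht
  obtain ⟨a, b, hab⟩ := level (K := zc S) (2 * ⟨t, htm⟩ + 1) ⟨x, hxm⟩
    (by linear_combination 4 * ht') l hl h2 h5 (Subtype.ext (by simpa using hη))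
    (fun h => h1 (congrArg Subtype.val h))
  refine ⟨a, b, a.2.1 A (by simp [S]), a.2.1 J (by simp [S]), b.2.1 A (by simp [S]),
    b.2.1 J (by simp [S]), a.2.2 b b.2.1, ?_⟩
  rw [sq, sq] at hab
  exact congrArg Subtype.val hab

theorem nolev {D : Type*} [DivisionRing D] [CharZero D] (A J a b : D) (hA : A * A = -1)
    (hJ : J * J = -1) (hAJ : A * J = -(J * A)) (h1 : Commute a A) (h2 : Commute a J)
    (h3 : Commute b A) (h4 : Commute b J) (h5 : Commute a b) (h : a * a + b * b = -1) : False := by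
  have hA0 : A ≠ 0 := by rintro rfl; simp at hA
  have hJ0 : J ≠ 0 := by rintro rfl; simp at hJ
  have e1 : (a * A) * (a * A) = -(a * a) := by
    rw [mul_assoc, ← mul_assoc A, ← h1.eq, mul_assoc, hA]; simp
  have e2 : (b * J) * (b * J) = -(b * b) := by
    rw [mul_assoc, ← mul_assoc J, ← h4.eq, mul_assoc, hJ]; simp
  have e3 : (a * A) * (b * J) = a * b * (A * J) := by
    rw [mul_assoc, ← mul_assoc A, ← h3.eq, mul_assoc, mul_assoc]
  have e4 : (b * J) * (a * A) = a * b * (J * A) := by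
    rw [mul_assoc, ← mul_assoc J, ← h2.eq, mul_assoc, ← mul_assoc, h5.eq]
  have hw : (a * A + b * J) * (a * A + b * J) = 1 := by
    rw [add_mul, mul_add, mul_add, e1, e2, e3, e4, hAJ, mul_neg]
    have : a * a = -1 - b * b := eq_sub_of_add_eq h
    rw [this]; abel
  have hk : (A * J) * (a * A + b * J) = -((a * A + b * J) * (A * J)) := by
    have c1 : Commute a (A * J) := h1.mul_right h2
    have c2 : Commute b (A * J) := h3.mul_right h4
    have k1 : (A * J) * A = -(A * (A * J)) := by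
      rw [mul_assoc, ← mul_neg, hAJ, neg_neg]
    have k2 : (A * J) * J = -(J * (A * J)) := by
      rw [← mul_assoc J, ← neg_mul, ← hAJ]
    rw [mul_add, add_mul, ← mul_assoc _ a, ← mul_assoc _ b, ← c1.eq, ← c2.eq, mul_assoc a,
      mul_assoc b, k1, k2, mul_assoc a, mul_assoc b, mul_neg, mul_neg, neg_add]
  have hk0 : A * J ≠ 0 := mul_ne_zero hA0 hJ0
  rcases mul_self_eq_one_iff.1 hw with h' | h'
  · rw [h', mul_one, one_mul] at hk
    exact hk0 (CharZero.eq_neg_self_iff.1 hk)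
  · rw [h', mul_neg, neg_mul, mul_one, one_mul] at hk
    exact hk0 (CharZero.eq_neg_self_iff.1 (neg_injective hk))

abbrev SL := Matrix.SpecialLinearGroup (Fin 2) (ZMod 5)

def ma : SL := ⟨!![0, 1; -1, 0], by rw [Matrix.det_fin_two]; decide⟩
def mb : SL := ⟨!![0, -1; 1, 1], by rw [Matrix.det_fin_two]; decide⟩
def mj : SL := (ma * mb) ^ 2 * (ma * (ma * mb) * ma ^ 3) ^ 3 * (ma * mb) ^ 2

theorem r1 : (ma * ma) * (ma * ma) = 1 := by decide
theorem r2 : ma * ma ≠ 1 := by decide
theorem r3 : mb * mb * mb = ma * ma := by decide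
theorem r4 : mb ≠ ma * ma := by decide
theorem r5 : (ma * mb) ^ 5 = 1 := by decide
theorem r6 : ma * mb ≠ 1 := by decide
theorem r7 : mj * mj = ma * ma := by decide
theorem r8 : ma * mj = (ma * ma) * (mj * ma) := by decide

theorem cent {D : Type*} [DivisionRing D] [CharZero D]
    (f : Matrix.SpecialLinearGroup (Fin 2) (ZMod 5) →* Dˣ) (hf : Function.Injective f) (x : Dˣ)
    (l : ℕ) (hl : l.Prime) (h2 : l ≠ 2) (h5 : l ≠ 5) (hx : orderOf x = l)
    (hc : ∀ g, Commute x (f g)) : False := by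
  let F : SL →* D := (Units.coeHom D).comp f
  have hF : Function.Injective F := Units.val_injective.comp hf
  have hcF : ∀ g, Commute (x : D) (F g) := fun g => (hc g).map (Units.coeHom D)
  have hz : F (ma * ma) = -1 := by
    have h1 : F (ma * ma) * F (ma * ma) = 1 := by rw [← map_mul, r1, map_one]
    refine (mul_self_eq_one_iff.1 h1).resolve_left fun h => r2 (hF (by rw [h, map_one]))
  obtain ⟨A, hA⟩ : ∃ A, A = F ma := ⟨_, rfl⟩
  obtain ⟨B, hB⟩ : ∃ B, B = F mb := ⟨_, rfl⟩
  have hAA : A * A = -1 := by rw [hA, ← map_mul, hz]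
  have hB3 : B * B * B = -1 := by rw [hB, ← map_mul, ← map_mul, r3, hz]
  have hB1 : B + 1 ≠ 0 := fun h => r4 (hF (by rw [hz, ← hB]; exact eq_neg_of_add_eq_zero_left h))
  have hBB : B * B = B - 1 := by
    have : (B + 1) * (B * B - B + 1) = B * B * B + 1 := by noncomm_ring
    rw [hB3, neg_add_cancel] at this
    have := (mul_eq_zero.1 this).resolve_left hB1
    have h' : B * B = (B * B - B + 1) + (B - 1) := by abel
    rw [h', this, zero_add]
  have hG5 : (A * B) ^ 5 = 1 := by rw [hA, hB, ← map_mul, ← map_pow, r5, map_one]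
  have hG1 : A * B - 1 ≠ 0 := fun h =>
    r6 (hF (by rw [map_one, map_mul, ← hA, ← hB]; exact sub_eq_zero.1 h))
  have hinv : (A * B) * (B * A - A) = 1 := by
    have : (A * B) * (B * A - A) = A * (B * B) * A - A * B * A := by noncomm_ring
    rw [this, hBB]
    have : A * (B - 1) * A - A * B * A = -(A * A) := by noncomm_ring
    rw [this, hAA, neg_neg]
  have hG4 : (A * B) ^ 4 = B * A - A := by
    calc (A * B) ^ 4 = (A * B) ^ 4 * ((A * B) * (B * A - A)) := by rw [hinv, mul_one]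
      _ = (A * B) ^ 5 * (B * A - A) := by rw [← mul_assoc, ← pow_succ]
      _ = _ := by rw [hG5, one_mul]
  have hsum : (A * B) ^ 4 + (A * B) ^ 3 + (A * B) ^ 2 + A * B + 1 = 0 := by
    generalize A * B = G at hG5 hG1
    have : (G - 1) * (G ^ 4 + G ^ 3 + G ^ 2 + G + 1) = G ^ 5 - 1 := by noncomm_ring
    rw [hG5, sub_self] at this
    exact (mul_eq_zero.1 this).resolve_left hG1
  have ht : (A * B + (B * A - A)) * (A * B + (B * A - A)) + (A * B + (B * A - A)) - 1 = 0 := by
    rw [← hG4]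
    generalize A * B = G at hG5 hsum
    have : (G + G ^ 4) * (G + G ^ 4) + (G + G ^ 4) - 1
        = G ^ 2 + G ^ 5 + G ^ 5 + G ^ 5 * G ^ 3 + G + G ^ 4 - 1 := by noncomm_ring
    rw [this, hG5, one_mul, ← hsum]; abel
  have htA : Commute (A * B + (B * A - A)) A := by
    have e1 : (A * B + (B * A - A)) * A = A * B * A + B * (A * A) - A * A := by noncomm_ring
    have e2 : A * (A * B + (B * A - A)) = A * B * A + (A * A) * B - A * A := by noncomm_ring
    show _ = _
    rw [e1, e2, hAA]; simp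
  have htB : Commute (A * B + (B * A - A)) B := by
    have e1 : (A * B + (B * A - A)) * B = A * (B * B) + B * A * B - A * B := by noncomm_ring
    have e2 : B * (A * B + (B * A - A)) = B * A * B + (B * B) * A - B * A := by noncomm_ring
    show _ = _
    rw [e1, e2, hBB]; noncomm_ring
  have hxA : Commute (x : D) A := hA ▸ hcF ma
  have hxB : Commute (x : D) B := hB ▸ hcF mb
  have htJ : Commute (A * B + (B * A - A)) (F mj) := by
    have hG := htA.mul_right htB
    have : F mj = (A * B) ^ 2 * (A * (A * B) * A ^ 3) ^ 3 * (A * B) ^ 2 := by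
      simp only [mj, map_mul, map_pow, ← hA, ← hB]
    rw [this]
    exact ((hG.pow_right 2).mul_right
      (((htA.mul_right hG).mul_right (htA.pow_right 3)).pow_right 3)).mul_right (hG.pow_right 2)
  have hxl : (x : D) ^ l = 1 := by
    rw [← Units.val_pow_eq_pow_val, ← hx, pow_orderOf_eq_one, Units.val_one]
  have hx1 : (x : D) ≠ 1 := fun h => by
    have : x = 1 := Units.val_injective h
    rw [this, orderOf_one] at hx
    exact hl.one_lt.ne hx
  obtain ⟨a, b, c1, c2, c3, c4, c5, hab⟩ := lev2 A (F mj) _ x htA htJ hxA (hcF mj)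
    ((hxA.mul_right hxB).add_right ((hxB.mul_right hxA).sub_right hxA)) ht l hl h2 h5 hxl hx1
  refine nolev A (F mj) a b hAA (by rw [← map_mul, r7, hz]) ?_ c1 c2 c3 c4 c5 hab
  rw [hA, ← map_mul, r8, map_mul, hz, map_mul, neg_one_mul]

end H7.AmC
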