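import Cfsg.Agent.H2.Gd0

/-! Solvable groups with four character degrees: the piece `H2.Gd.PY`. -/

set_option autoImplicit false

namespace H7.GdY

open Subgroup Cfsg H18 H5 H6 H8 H2.Gd
open scoped commutatorElement

universe u

theorem inertia_det {G : Type*} [Group G] [Finite G] {M : Subgroup G} [M.Normal] {φ : M → ℂ} (h : IsCharacter M φ)
    (n : ℕ) : inertia φ ≤ inertia fun m => ((detHom φ ^ n) m : ℂ) := fun g hg => by
  have := detChar_comp (MulAut.conjNormal (H := M) g).toMonoidHom h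
  rw [show (fun x => φ ((MulAut.conjNormal (H := M) g).toMonoidHom x)) = φ from hg] at this
  funext m
  have e : detChar φ m = detChar φ ⟨g * m * g⁻¹, _⟩ := congrFun this m
  simp only [cj_apply, MonoidHom.pow_apply, Units.val_pow_eq_pow_val, coe_detHom, e]

theorem pY : PY.{u} := by
  intro G _ _ R M nR nM r x y hr pR RM MR MM ri h2 xy ho
  classical
  haveI := Fintype.ofFinite G
  haveI := Fintype.ofFinite R
  haveI := Fintype.ofFinite M
  haveI := Fact.mk hr
  suffices h : commutator R = ⊥ by rw [← map_subtype_commutator, h, Subgroup.map_bot]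
  refine comm_of_forall_deg fun θ hθ => by_contra fun θ1 => ?_
  obtain ⟨k, hk⟩ := deg_eq_pow pR.isPGroup hθ
  have rθ : r ∣ charDegree θ := hk ▸ dvd_pow_self r fun e => θ1 (by rw [hk, e, pow_zero])
  have ovr : ∀ (N : Subgroup G) [N.Normal], N ≤ M → ∀ φ : N → ℂ, IsIrrCharacter N φ → r ∣ charDegree φ →
      (inertia φ).index * charDegree φ ∣ x := fun N _ l φ hφ d => by
    haveI := Fintype.ofFinite N
    obtain ⟨χ, hχ, o⟩ := exists_irr_over (G := G) hφ
    have dv := index_inertia_mul_dvd hχ hφ o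
    rcases h2 χ hχ fun k => hr.one_lt.ne' (Nat.dvd_one.1 (by
      rwa [hφ.charKer_eq_top_iff.1 (top_le_iff.1 fun v _ => ker_le_of_constituent hχ.isCharacter hφ o (k (l v.2))),
        charDegree_of_eq (n := 1) (by simp)] at d)) with e | e
    · exact e ▸ dv
    · exact absurd (e ▸ (d.mul_left _).trans dv) ho.1
  have x0 : 0 < x := by
    obtain ⟨m, hm, mR⟩ := SetLike.not_le_iff_exists.1 MR
    obtain ⟨χ, h1, h3, h4⟩ := exists_irr_le_charKer_not_mem R mR
    exact ((h2 χ h1 fun k => h4 (k hm)).resolve_right (ho.2.1 χ h1 h3)) ▸ h1.charDegree_pos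
  have MI : M ≤ inertia θ := le_of_small_ker fun ξ hξ hl => by_contra fun k => by
    have := Nat.le_of_dvd x0 ((Dvd.intro _ rfl).trans (ovr R RM θ hθ rθ))
    rcases h2 ξ hξ k with e | e <;> omega
  have cR : (Nat.card R).Coprime (R.relIndex M) := PiNat.coprime pR ((piNat_compl_iff hr).2 ri)
  obtain ⟨ψ, hψ, he⟩ := ext_of_coprime_card (G := M) (N := R.subgroupOf M) (isIrr_sOf RM hθ)
    (fun g => by rw [cj_sOf, MI g.2]) (by rwa [H1.card_subgroupOf_of_le RM])
  have dψ : charDegree ψ = charDegree θ := charDegree_congr (he 1)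
  obtain ⟨φ, hφ, dφ, d1⟩ : ∃ φ : M → ℂ, IsIrrCharacter M φ ∧ charDegree φ = charDegree θ ∧
      detHom φ ^ Nat.card R ≠ 1 := by
    by_cases e : detHom ψ ^ Nat.card R = 1
    · obtain ⟨m, hm, mR⟩ := SetLike.not_le_iff_exists.1 MR
      obtain ⟨σ, s1, s2⟩ := exists_lin_ne_one (N := R.subgroupOf M) (g := ⟨m, hm⟩) (fun z hz =>
        MM (map_subtype_commutator M ▸ mem_map_of_mem M.subtype hz)) mR
      refine ⟨ψ * fun g => (σ g : ℂ), hψ.mul_hom σ, by rw [charDegree_mul_hom, dψ], fun z => s2 ?_⟩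
      have z1 := congrArg Units.val (DFunLike.congr_fun z ⟨m, hm⟩)
      have e1 := congrArg Units.val (DFunLike.congr_fun e ⟨m, hm⟩)
      simp only [MonoidHom.pow_apply, Units.val_pow_eq_pow_val, coe_detHom, MonoidHom.one_apply, Units.val_one] at z1 e1
      rw [mul_comm, detChar_hom_mul σ hψ.isCharacter hψ.coe_charDegree.symm, mul_pow, e1, mul_one, ← pow_mul] at z1
      have z2 : σ ⟨m, hm⟩ ^ (charDegree ψ * Nat.card R) = 1 := Units.ext (by simpa using z1)
      have z3 := pow_index_eq_one_of_trivial (R.subgroupOf M) σ (fun n => s1 n n.2) ⟨m, hm⟩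
      have c : (charDegree ψ * Nat.card R).Coprime (R.relIndex M) := Nat.Coprime.mul_left
        (by rw [dψ, hk]; exact ((hr.coprime_iff_not_dvd).2 ri).pow_left _) cR
      rw [← orderOf_eq_one_iff]
      exact Nat.eq_one_of_dvd_coprimes c (orderOf_dvd_of_pow_eq_one z2) (orderOf_dvd_of_pow_eq_one z3)
    · exact ⟨ψ, hψ, dψ, e⟩
  set d := detHom φ ^ Nat.card R with hd
  have dR : ∀ n : R.subgroupOf M, d n = 1 := fun n => by
    rw [hd, MonoidHom.pow_apply, ← map_pow, show (n : M) ^ Nat.card R = 1 from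
      Subtype.ext (congrArg (Subtype.val : R → G) (pow_card_eq_one' (x := (⟨n.1.1, n.2⟩ : R)))), map_one]
  have v1 : (inertia fun m => (d m : ℂ)).index * charDegree θ ∣ x :=
    (Nat.mul_dvd_mul (index_dvd_of_le (inertia_det hφ.isCharacter _)) dφ.symm.dvd).trans
      (ovr M le_rfl φ hφ (dφ ▸ rθ))
  obtain ⟨S, hS⟩ := H18.exists_sylow hr (inertia fun m => (d m : ℂ))
  have UI : M ⊔ S ≤ inertia fun m => (d m : ℂ) := sup_le (le_inertia (isCharacter_hom d).isClassFunction) hS.le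
  haveI := Fintype.ofFinite ↥(M ⊔ S)
  obtain ⟨ζ, hζ, -⟩ := exists_ext_of_coprime (M.subgroupOf (M ⊔ S)) (d.comp (sOfHom M _))
    (fun g n => Units.ext (mem_inertia'.1 (UI g.2) ⟨n.1.1, n.2⟩))
    (fun n => pow_index_eq_one_of_trivial (R.subgroupOf M) d dR _) (by
      change (M.relIndex (M ⊔ S)).Coprime (R.relIndex M)
      rw [relIndex_sup_left]
      exact (PiNat.coprime hS.pi ((piNat_compl_iff hr).2 ri)).coprime_dvd_left (relIndex_dvd_card _ _))
  obtain ⟨m, hm, e⟩ := deg_eq_sum (isCharacter_ind _ (isCharacter_hom ζ))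
  have v2 : x ∣ (M ⊔ S).index := by
    rw [deg_ind (isCharacter_hom ζ), charDegree_of_eq (n := 1) (by simp), mul_one] at e
    rw [e]
    refine Finset.dvd_sum fun ξ _ => ?_
    by_cases h0 : m ξ = 0
    · simp [h0]
    have o : classInner (fun s : ↥(M ⊔ S) => ξ.1 s) (fun s => (ζ s : ℂ)) ≠ 0 := by
      rw [Ne, classInner_eq_zero_comm, ← inner_ind_left _ _ ξ.2.isClassFunction, hm]
      exact_mod_cast h0
    refine Dvd.dvd.mul_left ((h2 _ ξ.2 fun k => d1 (MonoidHom.ext fun n => ?_)).resolve_right (ho.2.1 _ ξ.2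
      (le_ker_of_constituent (RM.trans le_sup_left) ξ.2 (isCharacter_hom ζ) o fun n hn => ?_))).symm.dvd _
    · have := ker_le_of_constituent ξ.2.isCharacter (isIrrCharacter_hom ζ) o
        (show (⟨n, mem_sup_left n.2⟩ : ↥(M ⊔ S)) ∈ (charKer ξ.1).subgroupOf _ from k n.2)
      rw [charKer_hom] at this
      exact (hζ ⟨⟨n, mem_sup_left n.2⟩, n.2⟩).symm.trans this
    · rw [charKer_hom]
      exact (hζ ⟨n, RM hn⟩).trans (dR ⟨⟨n, RM hn⟩, hn⟩)
  rw [← relIndex_mul_index UI, mul_comm] at v2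
  exact hS.idx_of_le le_sup_right r hr (rθ.trans (Nat.dvd_of_mul_dvd_mul_left
    (Nat.pos_of_ne_zero index_ne_zero_of_finite) (v1.trans v2))) rfl

end H7.GdY
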