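import Mathlib

/-! Integral lattice combinatorics for tame blocks: sign patterns on a four-element set (`Pt`,
`exists_compl`: Hadamard completion), vectors of norm three (`N3`), the shape `Shp` of the
decomposition columns (`exists_shp`, `faith`), and the exceptional configuration (`Exo`). -/

open Finset

namespace H7.Had

variable {ι κ : Type*} [Fintype ι] [DecidableEq ι] {S : Finset ι} {a b c d W U U' : ι → ℤ}
  {e e' : ι}

/-- The standard inner product. -/
def ip (a b : ι → ℤ) : ℤ := ∑ i, a i * b i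

omit [DecidableEq ι] in
theorem ip_comm (a b : ι → ℤ) : ip a b = ip b a := sum_congr rfl fun _ _ => mul_comm _ _

omit [DecidableEq ι] in
theorem ip_add (a b c : ι → ℤ) : ip (a + b) c = ip a c + ip b c := by
  simp [ip, add_mul, sum_add_distrib]

omit [DecidableEq ι] in
theorem ip_sub (a b c : ι → ℤ) : ip (a - b) c = ip a c - ip b c := by
  simp [ip, sub_mul, sum_sub_distrib]

omit [DecidableEq ι] in
theorem ip_neg (a c : ι → ℤ) : ip (-a) c = -ip a c := by simp [ip]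

omit [DecidableEq ι] in
theorem ip_smul (n : ℤ) (a c : ι → ℤ) : ip (n • a) c = n * ip a c := by
  simp [ip, mul_sum, mul_assoc]

omit [DecidableEq ι] in
theorem ip_sum (s : Finset κ) (f : κ → ι → ℤ) (c : ι → ℤ) :
    ip (∑ k ∈ s, f k) c = ∑ k ∈ s, ip (f k) c := by
  simp only [ip, Finset.sum_apply, sum_mul]; exact sum_comm

theorem ip_single (i : ι) (n : ℤ) (c : ι → ℤ) : ip (Pi.single i n) c = n * c i := by
  simp [ip, Pi.single_apply]

omit [DecidableEq ι] in
theorem ip_add' (a b c : ι → ℤ) : ip c (a + b) = ip c a + ip c b := by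
  simp only [ip_comm c, ip_add]

omit [DecidableEq ι] in
theorem ip_sub' (a b c : ι → ℤ) : ip c (a - b) = ip c a - ip c b := by
  simp only [ip_comm c, ip_sub]

omit [DecidableEq ι] in
theorem ip_smul' (n : ℤ) (a c : ι → ℤ) : ip c (n • a) = n * ip c a := by
  simp only [ip_comm c, ip_smul]

theorem ip_single' (i : ι) (n : ℤ) (c : ι → ℤ) : ip c (Pi.single i n) = n * c i := by
  rw [ip_comm, ip_single]

omit [DecidableEq ι] in
theorem sum_sq_le (a : ι → ℤ) (s : Finset ι) : ∑ i ∈ s, a i ^ 2 ≤ ip a a := by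
  simp only [ip, ← sq]
  exact sum_le_sum_of_subset_of_nonneg (subset_univ s) fun _ _ _ => sq_nonneg _

omit [DecidableEq ι] in
theorem sq_le (a : ι → ℤ) (i : ι) : a i ^ 2 ≤ ip a a := by simpa using sum_sq_le a {i}

theorem eq_zero_of_sum_sq {s : Finset ι} (h : ip a a ≤ ∑ i ∈ s, a i ^ 2) {j : ι} (hj : j ∉ s) :
    a j = 0 := by
  have := sum_sq_le a (insert j s)
  rw [sum_insert hj] at this
  exact pow_eq_zero_iff two_ne_zero |>.1 (le_antisymm (by linarith) (sq_nonneg _))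

theorem ip_of_single (h : ip a a ≤ a e ^ 2) (d : ι → ℤ) : ip a d = a e * d e :=
  sum_eq_single e (fun j _ hj => by
    rw [eq_zero_of_sum_sq (a := a) (s := {e}) (by simpa using h) (by simpa using hj), zero_mul])
    (by simp)

theorem one_le_sq {n : ℤ} (h : n ≠ 0) : 1 ≤ n ^ 2 := by
  have := sq_pos_of_ne_zero h; omega

theorem one_le_sq_of_odd {n : ℤ} (h : Odd n) : 1 ≤ n ^ 2 :=
  one_le_sq fun e => by simp [e] at h

theorem four_le_sq {n : ℤ} (h : Even n) (h0 : n ≠ 0) : 4 ≤ n ^ 2 := by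
  obtain ⟨m, rfl⟩ := h
  have := one_le_sq (n := m) (by omega); nlinarith

theorem sq_eq_one_of_odd {n : ℤ} (h : Odd n) (h8 : n ^ 2 ≤ 8) : n ^ 2 = 1 := by
  obtain ⟨m, rfl⟩ := h
  have : m = 0 ∨ m = -1 := by
    by_contra h'
    rcases (by omega : 1 ≤ m ∨ m ≤ -2) with h | h <;> nlinarith
  rcases this with rfl | rfl <;> norm_num

theorem odd_of_sq {n : ℤ} (h : n ^ 2 = 1) : Odd n := by
  rcases sq_eq_one_iff_of_ne_zero_or_eq h with rfl | rfl <;> decide
where sq_eq_one_iff_of_ne_zero_or_eq {n : ℤ} (h : n ^ 2 = 1) : n = 1 ∨ n = -1 := sq_eq_one_iff.1 h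

theorem even_of_sq {n : ℤ} (h : n ^ 2 = 4) : Even n :=
  (Int.even_pow.1 (h ▸ (by decide : Even (4 : ℤ)))).1

/-- A sign pattern with support `S`. -/
def Pt (S : Finset ι) (a : ι → ℤ) : Prop := (∀ i ∈ S, a i ^ 2 = 1) ∧ ∀ i ∉ S, a i = 0

omit [Fintype ι] [DecidableEq ι] in
theorem Pt.sq (h : Pt S a) {i : ι} (hi : i ∈ S) : a i ^ 2 = 1 := h.1 i hi

omit [Fintype ι] [DecidableEq ι] in
theorem Pt.mul_self (h : Pt S a) {i : ι} (hi : i ∈ S) : a i * a i = 1 := by rw [← _root_.sq, h.sq hi]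

omit [Fintype ι] [DecidableEq ι] in
theorem Pt.zero (h : Pt S a) {i : ι} (hi : i ∉ S) : a i = 0 := h.2 i hi

omit [Fintype ι] [DecidableEq ι] in
theorem pt_of (h1 : ∀ i ∈ S, a i ^ 2 = 1) (h0 : ∀ i ∉ S, a i = 0) : Pt S a := ⟨h1, h0⟩

omit [Fintype ι] in
theorem pt_iff : Pt S a ↔ ∀ i, a i ^ 2 = if i ∈ S then 1 else 0 :=
  ⟨fun h i => by split_ifs with e; exacts [h.sq e, by rw [h.zero e]; rfl],
    fun h => ⟨fun i e => (h i).trans (if_pos e),
      fun i e => pow_eq_zero_iff two_ne_zero |>.1 ((h i).trans (if_neg e))⟩⟩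

omit [DecidableEq ι] in
theorem Pt.ip_self (h : Pt S a) : ip a a = S.card := by
  classical
  simp only [ip, ← _root_.sq, pt_iff.1 h _]; simp

omit [DecidableEq ι] in
theorem Pt.ip_eq (h : Pt S a) (b : ι → ℤ) : ip a b = ∑ i ∈ S, a i * b i :=
  (sum_subset (subset_univ S) fun i _ hi => by rw [h.zero hi, zero_mul]).symm

theorem pt_of_odd (h : ip a a ≤ S.card) (ho : ∀ i ∈ S, Odd (a i)) : Pt S a := by
  have h1 : ∀ i ∈ S, (1 : ℤ) ≤ a i ^ 2 := fun i hi => one_le_sq_of_odd (ho i hi)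
  have h2 : ∑ i ∈ S, (1 : ℤ) ≤ ∑ i ∈ S, a i ^ 2 := sum_le_sum h1
  have h3 := sum_sq_le a S
  simp only [sum_const, nsmul_eq_mul, mul_one] at h2
  refine pt_of (fun i hi => ((sum_eq_sum_iff_of_le h1).1 (by simp; linarith) i hi).symm)
    fun i hi => eq_zero_of_sum_sq (h.trans h2) hi

theorem exists_pt (h : ip W W = 4) {i : ι} (hi : Odd (W i)) : ∃ S, S.card = 4 ∧ Pt S W := by
  have h1 : ∀ j, W j ≠ 0 → W j ^ 2 = 1 := fun j hj => by
    rcases Int.even_or_odd (W j) with e | e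
    · have := eq_zero_of_sum_sq (a := W) (s := {j}) (j := i) (by simpa [h] using four_le_sq e hj)
        (by rintro h'; rw [mem_singleton.1 h'] at hi; exact Int.not_odd_iff_even.2 e hi)
      simp [this] at hi
    · exact sq_eq_one_of_odd e (by have := sq_le W j; omega)
  have h2 : Pt (univ.filter (W · ≠ 0)) W :=
    pt_of (fun j hj => h1 j (mem_filter.1 hj).2) fun j hj => by simpa using hj
  exact ⟨_, by have := h2.ip_self; omega, h2⟩

section family

variable [Fintype κ] {f : κ → ι → ℤ}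

theorem bessel (hS : S.card = 4) (hf : ∀ k, Pt S (f k)) (ho : Pairwise fun k l => ip (f k) (f l) = 0)
    {i : ι} (hi : i ∈ S) : ip (Pi.single i 4 - ∑ k, f k i • f k) (Pi.single i 4 - ∑ k, f k i • f k) =
      16 - 4 * Fintype.card κ := by
  classical
  have h1 : ∀ k, ip (f k) (∑ l, f l i • f l) = 4 * f k i := fun k => by
    rw [ip_comm, ip_sum, sum_eq_single k (fun l _ hl => by rw [ip_smul, ho hl, mul_zero]) (by simp),
      ip_smul, (hf k).ip_self, hS]
    push_cast; ring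
  have h2 : ∀ k, f k i * f k i = 1 := fun k => (hf k).mul_self hi
  have h3 : (∑ k, f k i • f k) i = Fintype.card κ := by simp [Finset.sum_apply, h2]
  rw [ip_sub, ip_sub', ip_sub', ip_single, ip_single, ip_single', h3, ip_sum]
  simp only [ip_smul, h1, mul_left_comm _ (4 : ℤ), h2, Pi.single_eq_same, sum_const, card_univ,
    nsmul_eq_mul]
  ring

theorem card_le (hS : S.card = 4) (hf : ∀ k, Pt S (f k))
    (ho : Pairwise fun k l => ip (f k) (f l) = 0) : Fintype.card κ ≤ 4 := by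
  obtain ⟨i, hi⟩ : S.Nonempty := card_pos.1 (by omega)
  have h1 := bessel hS hf ho hi
  have h2 := sum_sq_le (Pi.single i 4 - ∑ k, f k i • f k) ∅
  rw [sum_empty] at h2
  omega

theorem resolution (hS : S.card = 4) (hf : ∀ k, Pt S (f k))
    (ho : Pairwise fun k l => ip (f k) (f l) = 0) (h4 : Fintype.card κ = 4) {i : ι} (hi : i ∈ S) :
    ∑ k, f k i • f k = Pi.single i 4 := by
  have h1 := bessel hS hf ho hi
  exact (sub_eq_zero.1 (funext fun j => eq_zero_of_sum_sq (s := ∅) (by rw [h1, h4]; simp)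
    (notMem_empty j))).symm

theorem Pt.flip (h : Pt S a) {i j : ι} (hij : i ≠ j) :
    ∃ c, Pt S c ∧ ∀ b, ip c b = ip a b - 2 * (a i * b i + a j * b j) := by
  refine ⟨a - Pi.single i (2 * a i) - Pi.single j (2 * a j), pt_iff.2 fun x => ?_, fun b => ?_⟩
  · rw [← pt_iff.1 h x]
    by_cases h1 : x = i
    · subst h1; simp [hij]; ring
    · by_cases h2 : x = j
      · subst h2; simp [h1]; ring
      · simp [h1, h2]
  · simp only [ip_sub, ip_single]; ring

theorem exists_orth (hS : S.card = 4) (hf : ∀ k, Pt S (f k))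
    (ho : Pairwise fun k l => ip (f k) (f l) = 0) (h3 : Fintype.card κ ≤ 3) :
    ∃ a, Pt S a ∧ ∀ k, ip a (f k) = 0 := by
  have h0 : ∃ a, Pt S a := ⟨fun i => if i ∈ S then 1 else 0, pt_iff.2 fun i => by split_ifs <;> simp⟩
  have h1 : ∀ a, Pt S a → ∃ c, Pt S c ∧ ip c a = 0 := fun a ha => by
    obtain ⟨i, hi, j, hj, hij⟩ := one_lt_card.1 (by omega : 1 < S.card)
    obtain ⟨c, hc, e⟩ := ha.flip hij
    exact ⟨c, hc, by rw [e, ha.ip_self, ha.mul_self hi, ha.mul_self hj, hS]; rfl⟩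
  have h2 : ∀ a b, Pt S a → Pt S b → ip a b = 0 → ∃ c, Pt S c ∧ ip c a = 0 ∧ ip c b = 0 :=
    fun a b ha hb e => by
      have key : ∀ ε : ℤ, ε = 1 ∨ ε = -1 → ∃ i ∈ S, a i * b i = ε := fun ε hε => by
        by_contra! h
        rw [ha.ip_eq, sum_congr rfl (g := fun _ => -ε) fun i hi => ?_] at e
        · rcases hε with rfl | rfl <;> simp [hS] at e
        · have := h i hi
          rcases sq_eq_one_iff.1 (ha.sq hi) with h1 | h1 <;>
            rcases sq_eq_one_iff.1 (hb.sq hi) with h2 | h2 <;>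
              rcases hε with rfl | rfl <;> simp_all
      obtain ⟨i, hi, e1⟩ := key 1 (.inl rfl)
      obtain ⟨j, hj, e2⟩ := key (-1) (.inr rfl)
      obtain ⟨c, hc, e'⟩ := ha.flip (i := i) (j := j) (by rintro rfl; omega)
      exact ⟨c, hc, by rw [e', ha.ip_self, ha.mul_self hi, ha.mul_self hj, hS]; rfl,
        by rw [e', e, e1, e2]; rfl⟩
  have h3' : ∀ a b c, Pt S a → Pt S b → Pt S c → ip b c = 0 → ip (a * b * c) a = 0 :=
    fun a b c ha hb hc e => by
      rw [← e, hb.ip_eq, ip_comm, ha.ip_eq]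
      exact sum_congr rfl fun i hi => by
        simp only [Pi.mul_apply]; linear_combination (b i * c i) * ha.mul_self hi
  obtain ⟨n, ⟨σ⟩⟩ := Finite.exists_equiv_fin κ
  have hn : n ≤ 3 := by rwa [Fintype.card_congr σ, Fintype.card_fin] at h3
  simp only [σ.symm.surjective.forall] at hf ⊢
  have ho' : Pairwise fun k l => ip (f (σ.symm k)) (f (σ.symm l)) = 0 :=
    fun _ _ h => ho (σ.symm.injective.ne h)
  generalize (fun k => f (σ.symm k)) = g at *
  interval_cases n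
  · simpa using h0
  · simpa using h1 _ (hf 0)
  · simpa [Fin.forall_fin_two] using h2 _ _ (hf 0) (hf 1) (ho' (by decide))
  · refine ⟨f (σ.symm 0) * f (σ.symm 1) * f (σ.symm 2), pt_iff.2 fun i => ?_, fun k => ?_⟩
    · simp only [Pi.mul_apply, mul_pow, pt_iff.1 (hf _) i]; split_ifs <;> simp
    · fin_cases k
      · exact h3' _ _ _ (hf 0) (hf 1) (hf 2) (ho' (by decide))
      · rw [mul_comm (f _)]; exact h3' _ _ _ (hf 1) (hf 0) (hf 2) (ho' (by decide))
      · rw [mul_comm, ← mul_assoc]; exact h3' _ _ _ (hf 2) (hf 0) (hf 1) (ho' (by decide))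

end family

/-- Hadamard completion. -/
theorem exists_compl (hS : S.card = 4) (n : ℕ) : ∀ {κ : Type} [Fintype κ] {f : κ → ι → ℤ},
    (∀ k, Pt S (f k)) → (Pairwise fun k l => ip (f k) (f l) = 0) → Fintype.card κ + n = 4 →
    ∃ g : Fin n → ι → ℤ, (∀ a, Pt S (g a)) ∧ (Pairwise fun a b => ip (g a) (g b) = 0) ∧
      (∀ a k, ip (g a) (f k) = 0) ∧
      ∀ i ∈ S, ∑ k, f k i • f k + ∑ a, g a i • g a = Pi.single i 4 := by
  induction n with
  | zero => exact fun hf ho h => ⟨Fin.elim0, fun a => a.elim0, fun a => a.elim0, fun a => a.elim0,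
      fun i hi => by simpa using resolution hS hf ho h hi⟩
  | succ n ih =>
    intro κ _ f hf ho h
    obtain ⟨a, ha, e⟩ := exists_orth hS hf ho (by omega)
    obtain ⟨g, h1, h2, h3, h4⟩ := ih (κ := Option κ) (f := fun k => k.elim a f)
      (fun k => by cases k <;> simp [ha, hf]) (fun k l hkl => by
        cases k <;> cases l
        · exact absurd rfl hkl
        · exact e _
        · exact (ip_comm _ _).trans (e _)
        · exact ho (by simpa using hkl)) (by simp; omega)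
    refine ⟨Fin.cons a g, fun b => ?_, fun b c hbc => ?_, fun b k => ?_, fun i hi => ?_⟩
    · cases b using Fin.cases <;> simp [ha, h1]
    · cases b using Fin.cases <;> cases c using Fin.cases
      · exact absurd rfl hbc
      · exact (ip_comm _ _).trans (h3 _ none)
      · exact h3 _ none
      · exact h2 (by simpa using hbc)
    · cases b using Fin.cases
      · exact e k
      · exact h3 _ (some k)
    · rw [← h4 i hi, Fintype.sum_option, Fin.sum_univ_succ]; simp; abel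

/-- A symmetric integral matrix with `C² = 4C` and trace four, odd on `S × S`, has rank one. -/
theorem exists_pat (hS : S.card = 4) {C : ι → ι → ℤ} (h1 : ∀ i j, ip (C i) (C j) = 4 * C i j)
    (h2 : ∑ i, C i i = 4) (h3 : ∀ i ∈ S, ∀ j ∈ S, Odd (C i j)) :
    ∃ p, Pt S p ∧ ∀ i j, C i j = p i * p j := by
  have h0 : ∀ i, 0 ≤ C i i := fun i => by have := sum_sq_le (C i) ∅; rw [h1, sum_empty] at this; omega
  have h4 : ∀ i, (if i ∈ S then 1 else 0) ≤ C i i := fun i => by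
    split_ifs with h
    · have := h0 i; obtain ⟨m, hm⟩ := h3 i h i h; omega
    · exact h0 i
  have h5 := (sum_eq_sum_iff_of_le (s := univ) fun i _ => h4 i).1 (by simp [h2, hS])
  have h6 : ∀ i ∈ S, Pt S (C i) := fun i hi =>
    pt_of_odd (by rw [h1, ← h5 i (mem_univ i), if_pos hi, hS]; rfl) (h3 i hi)
  have sy : ∀ i j, C i j = C j i := fun i j => by have := h1 i j; rw [ip_comm, h1] at this; omega
  obtain ⟨s, hs⟩ : S.Nonempty := card_pos.1 (by omega)
  refine ⟨C s, h6 s hs, fun i j => ?_⟩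
  by_cases hi : i ∈ S
  · have := eq_zero_of_sum_sq (a := C i - C s i • C s) (s := ∅) (j := j) (by
      simp only [ip_sub, ip_sub', ip_smul, ip_smul', h1, ← h5 i (mem_univ i), ← h5 s (mem_univ s),
        if_pos hi, if_pos hs, sy i s, sum_empty]
      nlinarith [(h6 s hs).mul_self hi]) (notMem_empty j)
    simpa [sub_eq_zero] using this
  · rw [(h6 s hs).zero hi, zero_mul]
    exact eq_zero_of_sum_sq (s := ∅) (by rw [h1, ← h5 i (mem_univ i), if_neg hi]; simp)
      (notMem_empty j)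

theorem exists_row (hS : S.card = 4) {C : ι → ι → ℤ} (h1 : ∀ i, ip (C i) (C i) = 8 * C i i)
    (h2 : ∑ i, C i i = 8) (h3 : ∀ i ∈ S, ∀ j ∈ S, Odd (C i j)) :
    ∃ s ∈ S, ∀ j ∈ S, C s j ^ 2 = 1 := by
  have h0 : ∀ i, 0 ≤ C i i := fun i => by have := sum_sq_le (C i) ∅; rw [h1, sum_empty] at this; omega
  obtain ⟨s, hs, e⟩ : ∃ s ∈ S, C s s ≤ 1 := by
    by_contra! h
    have h4 : ∑ i ∈ S, (3 : ℤ) ≤ ∑ i ∈ S, C i i := sum_le_sum fun i hi => by
      have := h i hi; obtain ⟨m, hm⟩ := h3 i hi i hi; omega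
    have h5 : ∑ i ∈ S, C i i ≤ ∑ i, C i i :=
      sum_le_sum_of_subset_of_nonneg (subset_univ S) fun i _ _ => h0 i
    simp [hS] at h4; omega
  exact ⟨s, hs, fun j hj => sq_eq_one_of_odd (h3 s hs j hj) (by have := sq_le (C s) j; have := h1 s; omega)⟩

/-- A vector of norm three: half of the pattern `W` and one further point. -/
structure N3 (S : Finset ι) (W U : ι → ℤ) (e : ι) : Prop where
  on : ∀ i ∈ S, U i = 0 ∨ U i = W i
  nm : e ∉ S
  sq : U e ^ 2 = 1
  off : ∀ i ∉ S, i ≠ e → U i = 0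

theorem exists_n3 (hW : Pt S W) (h3 : ip U U = 3) (h2 : ip U W = 2) : ∃ e, N3 S W U e := by
  have h0 : ∀ i, 0 ≤ U i * (U i - W i) := fun i => by
    by_cases h : i ∈ S
    · rcases sq_eq_one_iff.1 (hW.sq h) with e | e <;> rw [e] <;>
        rcases le_or_gt (U i) 0 with h' | h' <;> rcases le_or_gt 0 (U i) with h'' | h'' <;> nlinarith
    · rw [hW.zero h, sub_zero]; exact mul_self_nonneg _
  have h1 : ∑ i, U i * (U i - W i) = 1 := by
    simp only [mul_sub, sum_sub_distrib]; exact (congrArg₂ (· - ·) h3 h2).trans rfl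
  have h4 : ∀ i ∈ S, U i * (U i - W i) = 0 := fun i hi => by
    have h5 := single_le_sum (fun i _ => h0 i) (mem_univ i)
    have h6 := h0 i
    obtain ⟨m, hm⟩ : Even (U i * (U i - W i)) := by
      have := odd_of_sq (hW.sq hi)
      grind
    omega
  obtain ⟨e, -, he⟩ := exists_ne_zero_of_sum_ne_zero (h1.trans_ne one_ne_zero)
  have h7 : e ∉ S := fun h => he (h4 e h)
  have h8 : ∀ i, i ≠ e → U i * (U i - W i) = 0 ∧ U e * (U e - W e) = 1 := fun i hi => by
    have := sum_le_sum_of_subset_of_nonneg (subset_univ {i, e}) fun j _ _ => h0 j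
    rw [sum_pair hi, h1] at this
    have := h0 i; have := h0 e; omega
  refine ⟨e, fun i hi => by simpa [sub_eq_zero] using h4 i hi, h7, ?_, fun i hi hie => by
    simpa [hW.zero hi] using (h8 i hie).1⟩
  have h5 := single_le_sum (fun i _ => h0 i) (mem_univ e)
  have h6 := h0 e
  rw [hW.zero h7, sub_zero] at h5 h6 he
  rw [_root_.sq]; omega

/-- The sign pattern attached to a vector of norm three. -/
def q3 (W U : ι → ℤ) (e : ι) : ι → ℤ := (2 : ℤ) • U - W - Pi.single e (2 * U e)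

omit [Fintype ι] in
theorem N3.q3_of_mem (h : N3 S W U e) {i : ι} (hi : i ∈ S) : q3 W U e i = 2 * U i - W i := by
  simp [q3, Pi.single_eq_of_ne (ne_of_mem_of_not_mem hi h.nm)]

omit [Fintype ι] in
theorem N3.pt (h : N3 S W U e) (hW : Pt S W) : Pt S (q3 W U e) := by
  refine pt_of (fun i hi => ?_) fun i hi => ?_
  · rw [h.q3_of_mem hi, ← hW.sq hi]; rcases h.on i hi with e | e <;> rw [e] <;> ring
  · by_cases e1 : i = e
    · subst e1; simp [q3, hW.zero hi]
    · simp [q3, hW.zero hi, h.off i hi e1, e1]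

theorem ip_q3 (c : ι → ℤ) : ip (q3 W U e) c = 2 * ip U c - ip W c - 2 * U e * c e := by
  simp only [q3, ip_sub, ip_smul, ip_single]

theorem N3.ne_of_one (h : N3 S W U e) (h' : N3 S W U' e') (hW : Pt S W) (h4 : ip W W = 4)
    (h3 : ip U U = 3) (h3' : ip U' U' = 3) (h2 : ip U W = 2) (h2' : ip U' W = 2) (h1 : ip U U' = 1)
    (hd : d e ≠ 0) (d1 : ip W d = 0) (d2 : ip U d = 0) (d3 : ip U' d = 0) : e ≠ e' := by
  rintro rfl
  have key : ∀ D : ι → ℤ, ip D D = 4 → D e = 2 * U e → ip D d ≠ 0 := fun D h1 h2 => by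
    rw [ip_of_single (e := e) (by rw [h1, h2, mul_pow, h.sq]; rfl), h2]
    exact mul_ne_zero (mul_ne_zero two_ne_zero fun e => by simpa [e] using h.sq) hd
  rcases sq_eq_sq_iff_eq_or_eq_neg.1 (h'.sq.trans h.sq.symm) with e1 | e1
  · exact key (U + U' - W) (by
      simp only [ip_sub, ip_sub', ip_add, ip_add', ip_comm U' U, ip_comm W U, ip_comm W U', *]; rfl)
      (by simp [e1, hW.zero h.nm]; ring) (by simp [ip_sub, ip_add, *])
  · exact key (U - U') (by simp only [ip_sub, ip_sub', ip_comm U' U, *]; rfl)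
      (by simp [e1]; ring) (by simp [ip_sub, *])

theorem N3.eq_of_two (h : N3 S W U e) (h' : N3 S W U' e') (h3 : ip U U = 3) (h3' : ip U' U' = 3)
    (h2 : ip U U' = 2) (hne : e ≠ e') {i : ι} (hi : i ∈ S) : U i = U' i :=
  sub_eq_zero.1 <| eq_zero_of_sum_sq (a := U - U') (s := {e, e'}) (by
    simp only [sum_pair hne, ip_sub, ip_sub', ip_comm U' U, Pi.sub_apply, h'.off e h.nm hne,
      h.off e' h'.nm hne.symm, sub_zero, zero_sub, neg_sq, h.sq, h'.sq, *]; rfl)
    (by simp [ne_of_mem_of_not_mem hi h.nm, ne_of_mem_of_not_mem hi h'.nm])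

theorem N3.sign_eq (h : N3 S W U e) (h' : N3 S W U' e) (h3 : ip U U = 3) (h3' : ip U' U' = 3)
    (h2 : ip U U' = 2) : U e = U' e := by
  rcases sq_eq_sq_iff_eq_or_eq_neg.1 (h'.sq.trans h.sq.symm) with e1 | e1
  · exact e1.symm
  · have := sq_le (U - U') e
    simp only [ip_sub, ip_sub', ip_comm U' U, Pi.sub_apply, *] at this
    nlinarith [h.sq]

/-- The shape of the decomposition columns of the central involution. -/
structure Shp {A : Type*} (S E : Finset ι) (ξ : A → ι) (T : ι → ℤ) (Y : A → ι → ℤ) : Prop where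
  card : S.card = 4
  disj : ∀ i ∈ E, i ∉ S
  nS : ∀ a, ξ a ∉ S
  nE : ∀ a, ξ a ∉ E
  inj : Function.Injective ξ
  tS : ∀ i ∈ S, T i ^ 2 = 1
  tE : ∀ i ∈ E, T i ^ 2 = 4
  t0 : ∀ i ∉ S, i ∉ E → T i = 0
  yS : ∀ a, ∀ i ∈ S, Y a i ^ 2 = 1
  yξ : ∀ a, Y a (ξ a) ^ 2 = 4
  y0 : ∀ a, ∀ i ∉ S, i ≠ ξ a → Y a i = 0

/-- The exceptional configuration. -/
def Exo (S : Finset ι) (T d : ι → ℤ) : Prop := ∃ e, (∀ i ∉ S, i ≠ e → T i = 0) ∧ ∃ s ∈ S,
  ∀ c : ι → ℤ, (∀ i ∈ S, c i ^ 2 = 1) → (∀ i ∉ S, i ≠ e → c i = 0) → ip c d = 0 →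
    ∃ a b : ℤ, a ^ 2 = 1 ∧ b ^ 2 = 1 ∧
      3 * (d s : ℂ) * ∑ i, c i * (T i ^ 2 / d i : ℂ) = 8 * (3 * a - b)

omit [Fintype ι] [DecidableEq ι] in
theorem exists_nine (hS : S.card = 4) {f : ι → ℤ} (h : ∀ i ∈ S, f i = 1 ∨ f i = 9)
    (h12 : ∑ i ∈ S, f i = 12) : ∃ s ∈ S, ∀ c : ι → ℤ, ∑ i ∈ S, c i * (f i - 1) = 8 * c s := by
  classical
  obtain ⟨s, hs, e⟩ : ∃ s ∈ S, f s = 9 := by
    by_contra! h'
    rw [sum_congr rfl fun i hi => (h i hi).resolve_right (h' i hi)] at h12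
    simp [hS] at h12
  refine ⟨s, hs, fun c => ?_⟩
  rw [sum_eq_single s (fun i hi his => ?_) (fun h => absurd hs h), e]
  · ring
  · have h1 := sum_le_sum_of_subset_of_nonneg (s := {i, s}) (t := S) (f := fun i => f i - 1)
      (by simp [insert_subset_iff, hi, hs]) fun j hj _ => by rcases h j hj with e | e <;> simp [e]
    rw [sum_pair his, sum_sub_distrib, h12] at h1
    rcases h i hi with e' | e'
    · simp [e']
    · simp [hS, e, e'] at h1

theorem exo (hS : S.card = 4) (hW : Pt S W) {q : Fin 3 → ι → ℤ} (hq : ∀ j, Pt S (q j))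
    (ho : Pairwise fun j l => ip (q j) (q l) = 0) (hw : ∀ j, ip (q j) W = 0) (hd : ∀ i, 0 < d i)
    (he : e ∉ S) {δ : ℤ} (hδ : δ ^ 2 = 1) (d1 : ip W d = 0) (d2 : ∀ j, ip (q j) d = -2 * δ * d e)
    {T : ι → ℤ} (hT : ∀ i ∈ S, T i = q 1 i + q 2 i - q 0 i) (h4 : T e ^ 2 = 4)
    (h0 : ∀ i ∉ S, i ≠ e → T i = 0) : Exo S T d := by
  set Q : ι → ℤ := fun i => -δ * (q 0 i + q 1 i + q 2 i) with hQ
  have h1 : ∀ i ∈ S, 2 * d i = d e * Q i := fun i hi => by
    have := congrArg (ip · d) (resolution (f := fun k : Option (Fin 3) => k.elim W q) hS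
      (fun k => by cases k <;> simp [hW, hq]) (fun k l hkl => by
        cases k <;> cases l
        · exact absurd rfl hkl
        · exact (ip_comm _ _).trans (hw _)
        · exact hw _
        · exact ho (by simpa using hkl)) (by simp) hi)
    simp only [ip_add, ip_smul, ip_single, Fintype.sum_option, Option.elim, d1, d2,
      Fin.sum_univ_three] at this
    simp only [hQ]; linarith
  have h2 : ∀ i ∈ S, (Q i = 1 ∧ (T i ^ 2 = 1 ∨ T i ^ 2 = 9)) ∨ (Q i = 3 ∧ T i ^ 2 = 1) :=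
    fun i hi => by
      have h3 : 0 < Q i := by have := hd i; have := hd e; nlinarith [h1 i hi]
      rw [hT i hi]
      simp only [hQ] at h3 ⊢
      rcases sq_eq_one_iff.1 hδ with rfl | rfl <;>
        rcases sq_eq_one_iff.1 ((hq 0).sq hi) with e0 | e0 <;>
        rcases sq_eq_one_iff.1 ((hq 1).sq hi) with e1 | e1 <;>
        rcases sq_eq_one_iff.1 ((hq 2).sq hi) with e2 | e2 <;> simp [e0, e1, e2] at h3 ⊢
  have s12 : ∀ (x y z : ℤ) (f : ι → ℤ), x ^ 2 = 1 → y ^ 2 = 1 → z ^ 2 = 1 →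
      (∀ i ∈ S, f i = x * q 0 i + y * q 1 i + z * q 2 i) → ∑ i ∈ S, f i ^ 2 = 12 :=
    fun x y z f hx hy hz hf => by
      have o1 := ho (by decide : (0 : Fin 3) ≠ 1)
      have o2 := ho (by decide : (0 : Fin 3) ≠ 2)
      have o3 := ho (by decide : (1 : Fin 3) ≠ 2)
      simp only [(hq _).ip_eq] at o1 o2 o3
      rw [sum_congr rfl (g := fun i => 3 + 2 * x * y * (q 0 i * q 1 i) + 2 * x * z * (q 0 i * q 2 i) +
        2 * y * z * (q 1 i * q 2 i)) fun i hi => by
          rw [hf i hi]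
          linear_combination q 0 i ^ 2 * hx + q 1 i ^ 2 * hy + q 2 i ^ 2 * hz + (hq 0).sq hi +
            (hq 1).sq hi + (hq 2).sq hi]
      simp [sum_add_distrib, ← mul_sum, o1, o2, o3, hS]
  obtain ⟨s1, hs1, e1⟩ := exists_nine hS (f := fun i => T i ^ 2) (fun i hi =>
    (h2 i hi).elim (·.2) fun h => .inl h.2) (s12 (-1) 1 1 T (by simp) (by simp) (by simp)
      fun i hi => by rw [hT i hi]; ring)
  have hQ2 := s12 (-δ) (-δ) (-δ) Q (by rw [neg_sq, hδ]) (by rw [neg_sq, hδ]) (by rw [neg_sq, hδ])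
    fun i _ => by simp only [hQ]; ring
  obtain ⟨s2, hs2, e2⟩ := exists_nine hS (f := fun i => Q i ^ 2) (fun i hi => by
    rcases h2 i hi with h | h <;> simp [h]) hQ2
  obtain ⟨s, hs, e3⟩ : ∃ s ∈ S, Q s = 1 := by
    by_contra! h
    rw [sum_congr rfl (g := fun _ => 9) fun i hi => by
      rw [((h2 i hi).resolve_left fun h' => h i hi h'.1).1]; rfl] at hQ2
    simp [hS] at hQ2
  have e4 : d e = 2 * d s := by rw [h1 s hs, e3, mul_one]
  have h5 : ∀ i ∈ S, d i = d s * Q i := fun i hi => by have := h1 i hi; rw [e4] at this; linarith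
  refine ⟨e, h0, s, hs, fun c c1 c0 cd => ⟨c s1, c s2, c1 _ hs1, c1 _ hs2, ?_⟩⟩
  have sp : ∀ {R : Type} [CommRing R] (f : ι → R), ∑ i, c i * f i = c e * f e + ∑ i ∈ S, c i * f i :=
    fun f => by
      rw [← sum_insert (f := fun i => c i * f i) he]
      exact (sum_subset (subset_univ _) fun i _ hi => by
        rw [mem_insert, not_or] at hi; simp [c0 i hi.2 hi.1]).symm
  have d0 : (d s : ℂ) ≠ 0 := Int.cast_ne_zero.2 (hd s).ne'
  have e5 : 2 * c e + ∑ i ∈ S, c i * Q i = 0 := by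
    have := sp d
    simp only [Int.cast_id] at this
    rw [ip, this, e4, sum_congr rfl fun i hi => by rw [h5 i hi, mul_left_comm], ← mul_sum] at cd
    exact (mul_eq_zero.1 (by linear_combination cd : d s * _ = 0)).resolve_left (hd s).ne'
  rw [sp, mul_add, mul_sum, sum_congr rfl (g := fun i => ((3 * (c i * Q i) +
    3 * (c i * (T i ^ 2 - 1)) - c i * (Q i ^ 2 - 1) : ℤ) : ℂ)) fun i hi => ?_, ← Int.cast_sum,
    sum_sub_distrib, sum_add_distrib, ← mul_sum, ← mul_sum, e1, e2, ← Int.cast_pow, h4, e4,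
    eq_neg_of_add_eq_zero_right e5]
  · push_cast; field_simp; ring
  · rw [← Int.cast_pow, h5 i hi]
    rcases h2 i hi with ⟨h, h' | h'⟩ | ⟨h, h'⟩ <;> rw [h, h'] <;> push_cast <;> field_simp <;> ring

theorem N3.ip_q3 (h : N3 S W U e) (h' : N3 S W U' e') (hW : Pt S W) (h4 : ip W W = 4)
    (h2 : ip U W = 2) (h2' : ip U' W = 2) :
    ip (q3 W U e) (q3 W U' e') = 4 * (ip U U' - 1 - U' e' * U e') := by
  rw [Had.ip_q3, (h'.pt hW).zero h.nm, ip_comm U, ip_comm W, Had.ip_q3, Had.ip_q3, h4, h2',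
    ip_comm W U, h2, hW.zero h'.nm, ip_comm U']
  ring

theorem exists_shp {J A : Type*} [Fintype A] {E₀ : Finset J} {U : J → ι → ℤ} {V : A → ι → ℤ}
    {ω : J → ℤ} (h4 : ip W W = 4) (hodd : ∃ i, Odd (W i)) (u3 : ∀ j ∈ E₀, ip (U j) (U j) = 3)
    (u2 : ∀ j ∈ E₀, ip (U j) W = 2) (uu : ∀ i ∈ E₀, ∀ j ∈ E₀, i ≠ j → ip (U i) (U j) = 2)
    (v3 : ∀ a, ip (V a) (V a) = 3) (v2 : ∀ a, ip (V a) W = 2)
    (vv : Pairwise fun a b => ip (V a) (V b) = 1) (vu : ∀ a, ∀ j ∈ E₀, ip (V a) (U j) = 1)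
    (hd : ∀ i, 0 < d i) (dW : ip W d = 0) (dU : ∀ j ∈ E₀, ip (U j) d = 0) (dV : ∀ a, ip (V a) d = 0)
    (w1 : ∀ j ∈ E₀, ω j ^ 2 = 1) (w2 : ∑ j ∈ E₀, ω j = -1) (hr : E₀.card ≠ 2) {T : ι → ℤ}
    (hT : T = -W - (2 : ℤ) • ∑ j ∈ E₀, ω j • U j) : ∃ S, S.card = 4 ∧ Pt S W ∧
      ((∃ E ξ, Shp S E ξ T (fun a => (2 : ℤ) • V a - W) ∧ E.card = E₀.card ∧ ∃ q t : ι → ℤ, Pt S q ∧
        ip q W = 0 ∧ (∀ i ∈ S, t i = q i) ∧ (∀ i ∈ E, t i ^ 2 = 4) ∧ (∀ i ∉ S, i ∉ E → t i = 0) ∧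
        ∀ i ∈ E, ∃ j ∈ E₀, (2 : ℤ) • U j = W + q - Pi.single i (t i)) ∨
      (E₀.card = 3 ∧ IsEmpty A ∧ Exo S T d)) := by
  classical
  obtain ⟨i₀, hi₀⟩ := hodd
  obtain ⟨S, hS, hW⟩ := exists_pt h4 hi₀
  refine ⟨S, hS, hW, ?_⟩
  have : Nonempty ι := ⟨i₀⟩
  choose! o ho using fun j hj => exists_n3 hW (u3 j hj) (u2 j hj)
  choose ξ hξ using fun a => exists_n3 hW (v3 a) (v2 a)
  have n1 : ∀ a, ∀ j ∈ E₀, ξ a ≠ o j := fun a j hj => (hξ a).ne_of_one (ho j hj) hW h4 (v3 a)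
    (u3 j hj) (v2 a) (u2 j hj) (vu a j hj) (hd _).ne' dW (dV a) (dU j hj)
  have n2 : Function.Injective ξ := fun a b e => by_contra fun h => (hξ a).ne_of_one (hξ b) hW h4
    (v3 a) (v3 b) (v2 a) (v2 b) (vv h) (hd _).ne' dW (dV a) (dV b) e
  have hT' : ∀ i, T i = -W i - 2 * ∑ j ∈ E₀, ω j * U j i := fun i => by simp [hT, Finset.sum_apply]
  have q0 : ∀ {U e}, N3 S W U e → ip U W = 2 → ip (q3 W U e) W = 0 := fun h h2 => by
    rw [ip_q3, h2, h4, hW.zero h.nm]; ring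
  by_cases hi : Set.InjOn o E₀
  · obtain ⟨j₀, h₀⟩ : E₀.Nonempty := nonempty_iff_ne_empty.2 (by rintro rfl; simp at w2)
    have e1 : ∀ j ∈ E₀, ∀ i ∈ S, U j i = U j₀ i := fun j hj i hs => by
      by_cases e : j = j₀
      · rw [e]
      · exact (ho j hj).eq_of_two (ho j₀ h₀) (u3 j hj) (u3 _ h₀) (uu j hj _ h₀ e)
          (fun e' => e (hi hj h₀ e')) hs
    have e2 : ∀ c : J → ℤ, ∀ j ∈ E₀, ∑ l ∈ E₀, c l * U l (o j) = c j * U j (o j) := fun c j hj =>
      sum_eq_single j (fun l hl e => by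
        rw [(ho l hl).off _ (ho j hj).nm fun e' => e (hi hl hj e'.symm), mul_zero])
        fun h => absurd hj h
    have e3 : ∀ c : J → ℤ, ∀ i ∉ S, i ∉ E₀.image o → ∑ l ∈ E₀, c l * U l i = 0 := fun c i h1 h2 =>
      sum_eq_zero fun l hl => by
        rw [(ho l hl).off i h1 fun e => h2 (mem_image.2 ⟨l, hl, e.symm⟩), mul_zero]
    have p0 := (ho j₀ h₀).pt hW
    refine .inl ⟨E₀.image o, ξ, ⟨hS, ?_, fun a => (hξ a).nm, ?_, n2, fun i h => ?_, ?_,
      fun i h1 h2 => by rw [hT', e3 ω i h1 h2, hW.zero h1]; rfl, fun a i h => ?_, fun a => ?_,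
      fun a i h1 h2 => by simp [hW.zero h1, (hξ a).off i h1 h2]⟩, card_image_of_injOn hi,
      q3 W (U j₀) (o j₀), fun i => if i ∈ S then q3 W (U j₀) (o j₀) i else ∑ l ∈ E₀, -2 * U l i,
      p0, q0 (ho _ h₀) (u2 _ h₀), fun i h => if_pos h, ?_,
      fun i h1 h2 => (if_neg h1).trans (e3 _ i h1 h2), ?_⟩
    · simpa using fun j hj => (ho j hj).nm
    · simpa using fun a j hj => (n1 a j hj).symm
    · rw [hT', sum_congr rfl fun j hj => by rw [e1 j hj i h], ← sum_mul, w2]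
      have := p0.sq h
      rw [(ho j₀ h₀).q3_of_mem h] at this
      linear_combination this
    · simp only [mem_image]
      rintro _ ⟨j, hj, rfl⟩
      rw [hT', e2 ω j hj, hW.zero (ho j hj).nm]
      linear_combination 4 * U j (o j) ^ 2 * w1 j hj + 4 * (ho j hj).sq
    · rw [← ((hξ a).pt hW).sq h, (hξ a).q3_of_mem h]; simp
    · simp only [Pi.sub_apply, Pi.smul_apply, smul_eq_mul, hW.zero (hξ a).nm]
      linear_combination 4 * (hξ a).sq
    · simp only [mem_image]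
      rintro _ ⟨j, hj, rfl⟩
      rw [if_neg (ho j hj).nm, e2 _ j hj]
      linear_combination 4 * (ho j hj).sq
    · simp only [mem_image]
      rintro _ ⟨j, hj, rfl⟩
      refine ⟨j, hj, ?_⟩
      have : q3 W (U j₀) (o j₀) = q3 W (U j) (o j) := funext fun i => by
        by_cases h : i ∈ S
        · rw [(ho j hj).q3_of_mem h, (ho j₀ h₀).q3_of_mem h, e1 j hj i h]
        · rw [p0.zero h, ((ho j hj).pt hW).zero h]
      rw [if_neg (ho j hj).nm, e2 _ j hj, this, q3, neg_mul, Pi.single_neg]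
      abel
  · simp only [Set.InjOn, not_forall, mem_coe] at hi
    obtain ⟨i, hi, j, hj, e, hij⟩ := hi
    have e1 : ∀ l ∈ E₀, o l = o i := fun l hl => by_contra fun h => by
      have h' : o l ≠ o j := e ▸ h
      have : U i = U j := funext fun s => by
        by_cases hs : s ∈ S
        · rw [← (ho l hl).eq_of_two (ho i hi) (u3 l hl) (u3 i hi)
            (uu l hl i hi fun e => h (e ▸ rfl)) h hs, (ho l hl).eq_of_two (ho j hj) (u3 l hl)
            (u3 j hj) (uu l hl j hj fun e => h' (e ▸ rfl)) h' hs]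
        · by_cases h2 : s = o i
          · rw [h2, (ho i hi).sign_eq (e ▸ ho j hj) (u3 i hi) (u3 j hj) (uu i hi j hj hij)]
          · rw [(ho i hi).off s hs h2, (ho j hj).off s hs (e ▸ h2)]
      have h3 := uu i hi j hj hij
      rw [← this, u3 i hi] at h3
      omega
    have ho' : ∀ l ∈ E₀, N3 S W (U l) (o i) := fun l hl => e1 l hl ▸ ho l hl
    have e2 : ∀ l ∈ E₀, U l (o i) = U i (o i) := fun l hl => by
      by_cases h : l = i
      · rw [h]
      · exact (ho' l hl).sign_eq (ho i hi) (u3 l hl) (u3 i hi) (uu l hl i hi h)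
    have qq : ∀ l ∈ E₀, ∀ l' ∈ E₀, l ≠ l' → ip (q3 W (U l) (o i)) (q3 W (U l') (o i)) = 0 :=
      fun l hl l' hl' h => by
        rw [(ho' l hl).ip_q3 (ho' l' hl') hW h4 (u2 l hl) (u2 l' hl'), uu l hl l' hl' h, e2 l hl,
          e2 l' hl', ← sq, (ho i hi).sq]; rfl
    have qv : ∀ a, ∀ l ∈ E₀, ip (q3 W (V a) (ξ a)) (q3 W (U l) (o i)) = 0 := fun a l hl => by
      rw [(hξ a).ip_q3 (ho' l hl) hW h4 (v2 a) (u2 l hl), vu a l hl,
        (hξ a).off _ (ho i hi).nm (n1 a i hi).symm]; simp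
    have hc := card_le (κ := Option (E₀ ⊕ A)) (f := fun k => k.elim W
      (Sum.elim (fun l => q3 W (U l) (o i)) fun a => q3 W (V a) (ξ a))) hS (by
        rintro (_ | l | a)
        exacts [hW, (ho' l l.2).pt hW, (hξ a).pt hW]) (by
        rintro (_ | l | a) (_ | l' | a') h
        · exact absurd rfl h
        · exact (ip_comm _ _).trans (q0 (ho' _ l'.2) (u2 _ l'.2))
        · exact (ip_comm _ _).trans (q0 (hξ a') (v2 a'))
        · exact q0 (ho' _ l.2) (u2 _ l.2)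
        · exact qq _ l.2 _ l'.2 fun e => h (by rw [Subtype.ext e])
        · exact (ip_comm _ _).trans (qv _ _ l.2)
        · exact q0 (hξ a) (v2 a)
        · exact qv _ _ l'.2
        · have h' : a ≠ a' := fun e => h (by rw [e])
          simp only [Option.elim, Sum.elim_inr]
          rw [(hξ a).ip_q3 (hξ a') hW h4 (v2 a) (v2 a'), vv h',
            (hξ a).off _ (hξ a').nm (n2.ne h'.symm)]; simp)
    simp only [Fintype.card_option, Fintype.card_sum, Fintype.card_coe] at hc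
    have h2 : 1 < E₀.card := one_lt_card.2 ⟨i, hi, j, hj, hij⟩
    refine .inr ⟨by omega, Fintype.card_eq_zero_iff.1 (by omega), ?_⟩
    have key : ∀ a b c, a ≠ b → a ≠ c → b ≠ c → E₀ = {a, b, c} → ω a = 1 → ω b = -1 → ω c = -1 →
        Exo S T d := fun a b c h1 h2 h3 hE wa wb wc => by
      have hm : ∀ k : Fin 3, ![a, b, c] k ∈ E₀ := fun k => by fin_cases k <;> simp [hE]
      have hT2 : ∀ s, T s = -W s - 2 * (U a s - U b s - U c s) := fun s => by
        rw [hT', hE, sum_insert (by simp [h1, h2]), sum_pair h3, wa, wb, wc]; ring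
      refine exo (q := fun k => q3 W (U (![a, b, c] k)) (o i)) hS hW (fun k => (ho' _ (hm k)).pt hW)
        (fun k l h => qq _ (hm k) _ (hm l) ?_) (fun k => q0 (ho' _ (hm k)) (u2 _ (hm k))) hd
        (ho i hi).nm (ho i hi).sq dW (fun k => by rw [ip_q3, dW, dU _ (hm k), e2 _ (hm k)]; ring)
        (fun s hs => ?_) ?_ fun s h1 h2 => ?_
      · fin_cases k <;> fin_cases l <;> simp [h1, h2, h3, h1.symm, h2.symm, h3.symm] at h ⊢
      · rw [hT2, (ho' _ (hm 0)).q3_of_mem hs, (ho' _ (hm 1)).q3_of_mem hs,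
          (ho' _ (hm 2)).q3_of_mem hs]
        simp; ring
      · rw [hT2, hW.zero (ho i hi).nm, e2 a (hm 0), e2 b (hm 1), e2 c (hm 2)]
        linear_combination 4 * (ho i hi).sq
      · rw [hT2, hW.zero h1, (ho' a (hm 0)).off s h1 h2, (ho' b (hm 1)).off s h1 h2,
          (ho' c (hm 2)).off s h1 h2]; rfl
    obtain ⟨a, b, c, h1, h2, h3, hE⟩ := card_eq_three.1 (by omega : E₀.card = 3)
    rw [hE, sum_insert (by simp [h1, h2]), sum_pair h3] at w2
    rcases sq_eq_one_iff.1 (w1 a (by simp [hE])) with wa | wa <;>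
      rcases sq_eq_one_iff.1 (w1 b (by simp [hE])) with wb | wb <;>
      rcases sq_eq_one_iff.1 (w1 c (by simp [hE])) with wc | wc <;> try omega
    · exact key a b c h1 h2 h3 hE wa wb wc
    · exact key b a c h1.symm h3 h2 (hE.trans (insert_comm _ _ _)) wb wa wc
    · exact key c a b h2.symm h3.symm h1 (by rw [hE]; ext; simp; tauto) wc wa wb

omit [Fintype ι] in
theorem faith {A : Type*} [Fintype A] {F : Finset ι} {t : ι → ℤ} {y : A → ι → ℤ} {m : ℕ}
    (te : ∀ i ∈ F, Even (t i)) (ye : ∀ a, ∀ i ∈ F, Even (y a i)) (tt : ∑ i ∈ F, t i * t i = 4 * m)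
    (yy : ∀ a, ∑ i ∈ F, y a i * y a i = 4) (ty : ∀ a, ∑ i ∈ F, t i * y a i = 0)
    (yo : Pairwise fun a b => ∑ i ∈ F, y a i * y b i = 0)
    (nz : ∀ i ∈ F, t i ≠ 0 ∨ ∃ a, y a i ≠ 0) (hc : m + Fintype.card A ≤ F.card) :
    ∃ ξ : A → ι, Function.Injective ξ ∧ (∀ a, ξ a ∈ F) ∧ F.card = m + Fintype.card A ∧
      (∀ a, t (ξ a) = 0) ∧ (∀ a, y a (ξ a) ^ 2 = 4) ∧ (∀ a, ∀ i ∈ F, i ≠ ξ a → y a i = 0) ∧
      ∀ i ∈ F, (∀ a, i ≠ ξ a) → t i ^ 2 = 4 := by
  have h1 : ∀ a, ∃ s ∈ F, y a s ^ 2 = 4 ∧ ∀ i ∈ F, i ≠ s → y a i = 0 := fun a => by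
    obtain ⟨s, hs, e⟩ := exists_ne_zero_of_sum_ne_zero ((yy a).trans_ne four_ne_zero)
    have h2 := four_le_sq (ye a s hs) (left_ne_zero_of_mul e)
    have h3 := single_le_sum (f := fun i => y a i * y a i) (fun i _ => mul_self_nonneg _) hs
    refine ⟨s, hs, by rw [yy] at h3; nlinarith, fun i hi his => ?_⟩
    have h4 := sum_le_sum_of_subset_of_nonneg (s := {i, s}) (t := F) (f := fun i => y a i * y a i)
      (by simp [insert_subset_iff, hi, hs]) fun i _ _ => mul_self_nonneg _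
    rw [sum_pair his, yy] at h4
    nlinarith
  choose ξ x1 x2 x3 using h1
  have x4 : ∀ a, y a (ξ a) ≠ 0 := fun a e => by simpa [e] using x2 a
  have h2 : ∀ a (c : ι → ℤ), ∑ i ∈ F, c i * y a i = c (ξ a) * y a (ξ a) := fun a c =>
    sum_eq_single _ (fun i hi e => by rw [x3 a i hi e, mul_zero]) fun h => absurd (x1 a) h
  have inj : Function.Injective ξ := fun a b e => by_contra fun h => by
    have := yo h
    simp only [h2] at this
    exact mul_ne_zero (e ▸ x4 a) (x4 b) this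
  have h3 : ∀ i ∈ F \ univ.image ξ, 4 ≤ t i * t i := fun i hi => by
    simp only [mem_sdiff, mem_image, mem_univ, true_and, not_exists] at hi
    rw [← sq]
    exact four_le_sq (te i hi.1) ((nz i hi.1).resolve_right fun ⟨a, h⟩ =>
      h (x3 a i hi.1 (Ne.symm (hi.2 a))))
  have h4 : univ.image ξ ⊆ F := by simpa [subset_iff] using x1
  have h5 := sum_le_sum_of_subset_of_nonneg (sdiff_subset (s := F) (t := univ.image ξ))
    (f := fun i => t i * t i) fun i _ _ => mul_self_nonneg _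
  have h6 := sum_le_sum h3
  have h7 := card_sdiff_add_card_eq_card h4
  rw [card_image_of_injective _ inj, card_univ] at h7
  simp only [sum_const, nsmul_eq_mul] at h6
  refine ⟨ξ, inj, x1, by omega, fun a => (mul_eq_zero.1 ((h2 a t).symm.trans (ty a))).resolve_right
    (x4 a), x2, x3, fun i hi h => ?_⟩
  rw [sq, ← (sum_eq_sum_iff_of_le h3).1 (by simp only [sum_const, nsmul_eq_mul]; omega) i
    (by simpa [hi] using fun a => (h a).symm)]

theorem dh_vec {κ : Type} [Fintype κ] {J : Type*} {E₀ : Finset J} {U : J → ι → ℤ} {E : Finset ι}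
    {q t : ι → ℤ} {p : κ → ι → ℤ} {n : ℕ} (hS : S.card = 4) (hW : Pt S W) (hq : Pt S q)
    (qW : ip q W = 0) (tS : ∀ i ∈ S, t i = q i) (tE : ∀ i ∈ E, t i ^ 2 = 4)
    (t0 : ∀ i ∉ S, i ∉ E → t i = 0) (dj : ∀ i ∈ E, i ∉ S) (hE : E.Nonempty)
    (hU : ∀ i ∈ E, ∃ j ∈ E₀, (2 : ℤ) • U j = W + q - Pi.single i (t i)) (hp : ∀ k, Pt S (p k))
    (pW : ∀ k, ip (p k) W = 0) (pU : ∀ k, ∀ j ∈ E₀, ip (p k) (U j) = 0)
    (pp : Pairwise fun k l => ip (p k) (p l) = 0) (hn : Fintype.card κ + n = 2) :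
    ∃ y : Fin n → ι → ℤ, (∀ a, Pt S (y a)) ∧ (Pairwise fun a b => ip (y a) (y b) = 0) ∧
      (∀ a, ip t (y a) = 0) ∧ ip t t = 4 * (E.card + 1) ∧ ∀ L : (ι → ℤ) →+ ℂ, L W = 0 →
        (∀ j ∈ E₀, L (U j) = 0) → (∀ k, L (p k) = 0) → ∀ i, i ∈ S ∨ i ∈ E →
        4 * (E.card + 1) * L (Pi.single i 1) = t i * L t + (E.card + 1) * ∑ a, y a i * L (y a) := by
  have pq : ∀ k, ip (p k) q = 0 := fun k => by
    obtain ⟨i, hi⟩ := hE
    obtain ⟨j, hj, e⟩ := hU i hi
    have := congrArg (ip (p k)) e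
    rwa [ip_smul', ip_sub', ip_add', ip_single', pU k j hj, pW, (hp k).zero (dj i hi), mul_zero,
      mul_zero, zero_add, sub_zero, eq_comm] at this
  obtain ⟨y, h1, h2, h3, h4⟩ := exists_compl hS n (κ := Option (Option κ))
    (f := fun k => k.elim W fun k => k.elim q p) (by rintro (_ | _ | k); exacts [hW, hq, hp k]) (by
      rintro (_ | _ | k) (_ | _ | l) h
      exacts [absurd rfl h, (ip_comm _ _).trans qW, (ip_comm _ _).trans (pW l), qW, absurd rfl h,
        (ip_comm _ _).trans (pq l), pW k, pq k, pp fun e => h (by rw [e])]) (by simp; omega)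
  have ht : t = q + ∑ i ∈ E, Pi.single i (t i) := funext fun i => by
    simp only [Pi.add_apply, Finset.sum_apply, Pi.single_apply, sum_ite_eq]
    by_cases h : i ∈ S
    · rw [if_neg fun h' => dj i h' h, tS i h, add_zero]
    · split_ifs with h'
      · rw [hq.zero h, zero_add]
      · rw [hq.zero h, t0 i h h', add_zero]
  refine ⟨y, h1, h2, fun a => ?_, ?_, fun L l1 l2 l3 i hi => ?_⟩
  · rw [ip_comm, (h1 a).ip_eq, sum_congr rfl fun i hi => by rw [tS i hi], ← (h1 a).ip_eq]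
    exact h3 a (some none)
  · conv_lhs => enter [1]; rw [ht]
    rw [ip_add, hq.ip_eq, sum_congr rfl fun i hi => by rw [tS i hi], ← hq.ip_eq, hq.ip_self, ip_sum,
      sum_congr rfl fun i hi => by rw [ip_single, ← sq, tE i hi], hS]
    simp; ring
  · have sg : ∀ i (n : ℤ), L (Pi.single i n) = n * L (Pi.single i 1) := fun i n => by
      rw [← zsmul_eq_mul, ← map_zsmul, ← Pi.single_smul', smul_eq_mul, mul_one]
    have e1 : ∀ i ∈ E, L (Pi.single i (t i)) = L q := fun i hi => by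
      obtain ⟨j, hj, e⟩ := hU i hi
      have := congrArg L e
      rw [map_zsmul, map_sub, map_add, l1, l2 j hj, smul_zero, zero_add] at this
      exact (sub_eq_zero.1 this.symm).symm
    have e2 : L t = (E.card + 1) * L q := by
      conv_lhs => rw [ht]
      rw [map_add, map_sum, sum_congr rfl e1]; simp; ring
    rcases hi with hi | hi
    · have := congrArg L (h4 i hi)
      simp only [map_add, map_sum, map_zsmul, Fintype.sum_option, Option.elim, l1, l3, smul_zero,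
        sum_const_zero, sg i 4] at this
      simp only [zsmul_eq_mul] at this
      rw [e2, tS i hi]
      push_cast at this
      linear_combination -(E.card + 1 : ℂ) * this
    · have h5 : (t i : ℂ) ^ 2 = 4 := by exact_mod_cast tE i hi
      simp only [(h1 _).zero (dj i hi), e2, ← e1 i hi, sg i (t i)]
      simp only [Int.cast_zero, zero_mul, sum_const_zero]
      linear_combination -(E.card + 1 : ℂ) * L (Pi.single i 1) * h5

theorem exists_half {w q : ι → ℤ} (hw : Pt S w) (hq : Pt S q) {c : ℤ} (hc : c ^ 2 = 4) (e : ι) :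
    ∃ u : ι → ℤ, (2 : ℤ) • u = w + q - Pi.single e c := by
  refine ⟨fun i => (w + q - Pi.single e c : ι → ℤ) i / 2, funext fun i =>
    Int.mul_ediv_cancel' (even_iff_two_dvd.1 (Even.sub ?_ ?_))⟩
  · by_cases h : i ∈ S
    · exact (odd_of_sq (hw.sq h)).add_odd (odd_of_sq (hq.sq h))
    · simp [hw.zero h, hq.zero h]
  · rw [Pi.single_apply]; split_ifs; exacts [even_of_sq hc, Even.zero]

theorem ip_half {w q q' u u' : ι → ℤ} {c c' : ℤ} (hS : S.card = 4) (hw : Pt S w) (hq : Pt S q)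
    (hq' : Pt S q') (h1 : ip q w = 0) (h2 : ip q' w = 0) (he : e ∉ S) (he' : e' ∉ S)
    (hu : (2 : ℤ) • u = w + q - Pi.single e c) (hu' : (2 : ℤ) • u' = w + q' - Pi.single e' c') :
    4 * ip u u' = 4 + ip q q' + if e = e' then c * c' else 0 := by
  have := congrArg₂ ip hu hu'
  simp only [ip_smul, ip_smul', ip_sub, ip_sub', ip_add, ip_add', ip_single, ip_single', h1,
    ip_comm w q', h2, hw.ip_self, hS, hw.zero he, hw.zero he', hq.zero he', hq'.zero he,
    Pi.add_apply, Pi.sub_apply, Pi.single_apply, eq_comm (a := e')] at this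
  split_ifs at this ⊢ <;> push_cast at this <;> linarith

namespace Shp

variable {A : Type*} [Fintype A] {E : Finset ι} {ξ : A → ι} {t : ι → ℤ} {y : A → ι → ℤ}

omit [Fintype ι] in
theorem sum (h : Shp S E ξ t y) {β : Type*} [AddCommMonoid β] {F : Finset ι}
    (hF : ∀ i, i ∈ F ↔ i ∈ S ∨ i ∈ E ∨ ∃ a, i = ξ a) (f : ι → β) :
    ∑ i ∈ F, f i = ∑ i ∈ S, f i + ∑ i ∈ E, f i + ∑ a, f (ξ a) := by
  rw [← sum_union (disjoint_right.2 h.disj), ← sum_image (g := ξ) fun _ _ _ _ e => h.inj e,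
    ← sum_union (by simp [disjoint_right, h.nS, h.nE])]
  exact sum_congr (ext fun i => by simp [hF, eq_comm]) fun _ _ => rfl

theorem vec (h : Shp S E ξ t y) (ty : ∀ a, ip t (y a) = 0)
    (yy : Pairwise fun a b => ip (y a) (y b) = 0) [Fintype κ] {p : κ → ι → ℤ} (hp : ∀ k, Pt S (p k))
    (pt : ∀ k, ip (p k) t = 0) (py : ∀ k a, ip (p k) (y a) = 0)
    (pp : Pairwise fun k l => ip (p k) (p l) = 0) (hc : Fintype.card A + Fintype.card κ ≤ 2)
    {ω : ι → ℤ} (w1 : ∀ i ∈ S, ω i = 1) (w2 : ∀ a, ω (ξ a) = -1) (w3 : ∑ j ∈ E, ω j = -1)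
    {Gd : (ι → ℤ) → Prop} (hG : ∀ c : ι → ℤ, (∀ i ∉ S, i ∉ E → (∀ a, i ≠ ξ a) → c i = 0) →
      ip c t = 0 → (∀ a, ip c (y a) = 0) → (∀ k, ip c (p k) = 0) → Gd c) :
    ∃ (w : ι → ℤ) (u : ι → ι → ℤ) (v : A → ι → ℤ), ip w w = 4 ∧ (∀ j ∈ E, ip (u j) (u j) = 3) ∧
      (∀ j ∈ E, ip (u j) w = 2) ∧ (∀ i ∈ E, ∀ j ∈ E, i ≠ j → ip (u i) (u j) = 2) ∧
      (∀ a, ip (v a) (v a) = 3) ∧ (∀ a, ip (v a) w = 2) ∧
      (Pairwise fun a b => ip (v a) (v b) = 1) ∧ (∀ a, ∀ j ∈ E, ip (v a) (u j) = 1) ∧ Gd w ∧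
      (∀ j ∈ E, Gd (u j)) ∧ (∀ a, Gd (v a)) ∧ ω * t = -w - (2 : ℤ) • ∑ j ∈ E, ω j • u j ∧
      ∀ a, ω * y a = (2 : ℤ) • v a - w := by
  have hS := h.card
  let rs : (ι → ℤ) → ι → ℤ := fun c i => if i ∈ S then c i else 0
  have r1 : ∀ {c}, (∀ i ∈ S, c i ^ 2 = 1) → Pt S (rs c) := fun hc =>
    ⟨fun i hi => by simp only [rs, if_pos hi, hc i hi], fun i hi => if_neg hi⟩
  have r2 : ∀ {a}, Pt S a → ∀ c, ip a (rs c) = ip a c := fun ha c => by
    simp only [ha.ip_eq]; exact sum_congr rfl fun i hi => by simp only [rs, if_pos hi]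
  have r3 : ∀ a, y a = rs (y a) + Pi.single (ξ a) (y a (ξ a)) := fun a => funext fun i => by
    by_cases h1 : i ∈ S
    · simp [rs, h1, ne_of_mem_of_not_mem h1 (h.nS a)]
    · by_cases h2 : i = ξ a
      · subst h2; simp [rs, h1]
      · simp [rs, h1, h2, h.y0 a i h1 h2]
  have tx : ∀ a, t (ξ a) = 0 := fun a => h.t0 _ (h.nS a) (h.nE a)
  have yE : ∀ a, ∀ j ∈ E, y a j = 0 := fun a j hj => h.y0 a j (h.disj j hj) fun e => h.nE a (e ▸ hj)
  have yx : ∀ a b, a ≠ b → y a (ξ b) = 0 := fun a b e => h.y0 a _ (h.nS b) (h.inj.ne e.symm)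
  have pT := r1 h.tS
  have pY := fun a => r1 (h.yS a)
  have o1 : ∀ a, ip (rs (y a)) t = 0 := fun a => by
    have := ty a; rwa [r3 a, ip_add', ip_single', tx, mul_zero, add_zero, ip_comm] at this
  have o2 : ∀ a b, a ≠ b → ip (rs (y a)) (y b) = 0 := fun a b e => by
    have := yy e
    simp only at this
    rwa [r3 a, ip_add, ip_single, yx b a e.symm, mul_zero, add_zero] at this
  have o3 : ∀ a, ip (rs t) (y a) = 0 := fun a => by rw [← r2 pT, ip_comm, r2 (pY a), o1]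
  obtain ⟨w, hw, e⟩ := exists_orth (κ := Option (A ⊕ κ))
    (f := fun k => k.elim (rs t) (Sum.elim (fun a => rs (y a)) p)) hS
    (by rintro (_ | a | k); exacts [pT, pY a, hp k]) (by
      rintro (_ | a | k) (_ | b | l) hh
      exacts [absurd rfl hh, (r2 pT _).trans (o3 b), (ip_comm _ _).trans ((r2 (hp l) _).trans (pt l)),
        (r2 (pY a) _).trans (o1 a), (r2 (pY a) _).trans (o2 a b fun e => hh (by rw [e])),
        (ip_comm _ _).trans ((r2 (hp l) _).trans (py l a)), (r2 (hp k) _).trans (pt k),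
        (r2 (hp k) _).trans (py k b), pp fun e => hh (by rw [e])]) (by simp; omega)
  have e1 : ip (rs t) w = 0 := (ip_comm _ _).trans (e none)
  have e2 : ∀ a, ip (rs (y a)) w = 0 := fun a => (ip_comm _ _).trans (e (some (.inl a)))
  have e3 : ip w t = 0 := (r2 hw _).symm.trans (e none)
  have e4 : ∀ a, ip w (y a) = 0 := fun a => (r2 hw _).symm.trans (e (some (.inl a)))
  have e5 : ∀ k, ip w (p k) = 0 := fun k => e (some (.inr k))
  have ww : ip w w = 4 := by rw [hw.ip_self, hS]; rfl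
  have s4 : ∀ {c}, Pt S (rs c) → ip (rs c) c = 4 := fun hc => by rw [← r2 hc, hc.ip_self, hS]; rfl
  choose! u hu using fun j hj => exists_half hw pT (h.tE j hj) j
  choose v hv using fun a => exists_half hw (pY a) (h.yξ a) (ξ a)
  have i2 : ∀ {u q e c}, (2 : ℤ) • u = w + q - Pi.single e c → ∀ b,
      2 * ip u b = ip w b + ip q b - c * b e := fun hu b => by
    rw [← ip_smul, hu, ip_sub, ip_add, ip_single]
  have z2 : ∀ {u q e c}, (2 : ℤ) • u = w + q - Pi.single e c → Pt S q → ∀ i ∉ S, i ≠ e → u i = 0 :=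
    fun hu hq i h1 h2 => by simpa [hw.zero h1, hq.zero h1, h2] using congrFun hu i
  refine ⟨w, u, v, ww, fun j hj => ?_, fun j hj => ?_, fun i hi j hj hij => ?_, fun a => ?_,
    fun a => ?_, fun a b hab => ?_, fun a j hj => ?_,
    hG w (fun i h1 _ _ => hw.zero h1) e3 e4 e5, fun j hj => hG _
      (fun i h1 h2 _ => z2 (hu j hj) pT i h1 fun e => h2 (e ▸ hj)) ?_ (fun a => ?_) fun k => ?_,
    fun a => hG _ (fun i h1 _ h2 => z2 (hv a) (pY a) i h1 (h2 a)) ?_ (fun b => ?_) fun k => ?_,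
    ?_, fun a => ?_⟩
  · have := ip_half hS hw pT pT e1 e1 (h.disj j hj) (h.disj j hj) (hu j hj) (hu j hj)
    rw [if_pos rfl, ← sq, h.tE j hj, r2 pT, s4 pT] at this; omega
  · have := i2 (hu j hj) w; rw [ww, e1, hw.zero (h.disj j hj)] at this; omega
  · have := ip_half hS hw pT pT e1 e1 (h.disj i hi) (h.disj j hj) (hu i hi) (hu j hj)
    rw [if_neg hij, r2 pT, s4 pT] at this; omega
  · have := ip_half hS hw (pY a) (pY a) (e2 a) (e2 a) (h.nS a) (h.nS a) (hv a) (hv a)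
    rw [if_pos rfl, ← sq, h.yξ, r2 (pY a), s4 (pY a)] at this; omega
  · have := i2 (hv a) w; rw [ww, e2, hw.zero (h.nS a)] at this; omega
  · have := ip_half hS hw (pY a) (pY b) (e2 a) (e2 b) (h.nS a) (h.nS b) (hv a) (hv b)
    rw [if_neg (h.inj.ne hab), r2 (pY a), o2 a b hab] at this; simp only; omega
  · have := ip_half hS hw (pY a) pT (e2 a) e1 (h.nS a) (h.disj j hj) (hv a) (hu j hj)
    rw [if_neg fun e : ξ a = j => h.nE a (e ▸ hj), r2 (pY a), o1] at this; omega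
  · have := i2 (hu j hj) t; rw [e3, s4 pT, ← sq, h.tE j hj] at this; omega
  · have := i2 (hu j hj) (y a); rw [e4, o3, yE a j hj] at this; omega
  · have := i2 (hu j hj) (p k)
    rw [e5, ip_comm (rs t), r2 (hp k), pt, (hp k).zero (h.disj j hj)] at this; omega
  · have := i2 (hv a) t; rw [e3, o1, tx] at this; omega
  · have := i2 (hv a) (y b)
    by_cases e : a = b
    · subst e; rw [e4, s4 (pY a), ← sq, h.yξ] at this; omega
    · rw [e4, o2 a b e, yx b a (Ne.symm e)] at this; omega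
  · have := i2 (hv a) (p k)
    rw [e5, ip_comm (rs _), r2 (hp k), py, (hp k).zero (h.nS a)] at this; omega
  · rw [smul_sum, sum_congr rfl fun j hj => by rw [smul_comm, hu j hj, smul_sub], sum_sub_distrib,
      ← sum_smul, w3]
    funext i
    simp only [Pi.mul_apply, Pi.sub_apply, Pi.neg_apply, Pi.smul_apply, Pi.add_apply, smul_eq_mul,
      Finset.sum_apply, Pi.single_apply, mul_ite, mul_zero, sum_ite_eq, rs]
    by_cases h1 : i ∈ S
    · simp [h1, w1 i h1, show i ∉ E from fun e => h.disj i e h1]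
    · by_cases h2 : i ∈ E
      · simp [h1, h2]
      · simp [h1, h2, h.t0 i h1 h2]
  · rw [hv]
    funext i
    by_cases h1 : i ∈ S
    · simp [rs, h1, w1 i h1, ne_of_mem_of_not_mem h1 (h.nS a)]
    · by_cases h2 : i = ξ a
      · subst h2; simp [rs, h1, w2]
      · simp [rs, h1, h2, h.y0 a i h1 h2]

end Shp

/-- The weights of the columns. -/
def wt (k : ℕ) {A : Type*} : Option A → ℕ := fun i => i.elim 1 fun _ => 2 ^ k

theorem odd_wt {k n : ℕ} (h : Even (2 ^ k * n)) {τ : Option (Fin n) → ℤ}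
    (e : ∀ a, Even (τ none - τ (some a))) : Odd (∑ i, wt k i * τ i * τ i) ↔ Odd (τ none) := by
  have : Even (∑ a : Fin n, (2 : ℤ) ^ k * τ (some a) * τ (some a)) := by
    rw [← sub_add_cancel (∑ a, _) (∑ _a : Fin n, (2 : ℤ) ^ k * τ none * τ none), ← sum_sub_distrib]
    refine (even_sum _ fun a _ => ?_).add ?_
    · obtain ⟨r, hr⟩ := (e a).mul_left (-2 ^ k * (τ none + τ (some a)))
      exact ⟨r, by rw [← hr]; ring⟩
    · obtain ⟨r, hr⟩ := ((Int.even_coe_nat _).2 h).mul_right (τ none * τ none)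
      exact ⟨r, by rw [← hr]; simp; ring⟩
  simp only [Fintype.sum_option, wt, Option.elim, Nat.cast_one, one_mul, Nat.cast_pow, Nat.cast_ofNat]
  rw [Int.odd_add, iff_true_intro this, iff_true, Int.odd_mul, and_self]

omit [DecidableEq ι] in
open ComplexConjugate in
theorem fix_of_trace [Fintype κ] {A : ι → ι → ℂ} (herm : ∀ i j, conj (A i j) = A j i)
    (idem : ∀ i j, ∑ l, A i l * A l j = A i j) {τ : κ → ι → ℤ} {w : κ → ℕ} (hw : ∀ k, w k ≠ 0)
    {N : ℕ} (hn : ∀ k, w k * ip (τ k) (τ k) = N) (tr : ∑ i, A i i = Fintype.card κ)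
    (h : ∀ i j, N * A i j = ∑ k, w k * τ k i * ∑ l, τ k l * A l j) (i j : ι) :
    N * A i j = ∑ k, (w k : ℂ) * τ k i * τ k j := by
  set μ : κ → ι → ℂ := fun k j => ∑ l, τ k l * A l j with hμ
  have h1 : ∀ k, ∑ j, (Complex.normSq (τ k j - μ k j) : ℂ) =
      ip (τ k) (τ k) - ∑ j, τ k j * μ k j := fun k => by
    have a1 : ∑ j, τ k j * conj (μ k j) = ∑ j, τ k j * μ k j := by
      simp only [hμ, map_sum, map_mul, herm, map_intCast, mul_sum]
      rw [sum_comm]
      exact sum_congr rfl fun _ _ => sum_congr rfl fun _ _ => by ring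
    have a2 : ∑ j, μ k j * conj (μ k j) = ∑ j, τ k j * μ k j := by
      simp only [hμ, map_sum, map_mul, herm, map_intCast, mul_sum, sum_mul]
      rw [sum_comm]
      refine sum_congr rfl fun l _ => ?_
      rw [sum_comm]
      refine sum_congr rfl fun l' _ => ?_
      rw [← idem l' l, mul_sum, mul_sum]
      exact sum_congr rfl fun _ _ => by ring
    simp only [← Complex.mul_conj, map_sub, map_intCast, mul_sub, sub_mul, sum_sub_distrib, a1, a2,
      ip, mul_comm (μ k _) (τ k _ : ℂ)]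
    push_cast; ring
  have h2 : ∑ k, ∑ j, w k * Complex.normSq (τ k j - μ k j) = 0 := by
    apply Complex.ofReal_injective
    push_cast
    simp only [← mul_sum, h1, mul_sub, sum_sub_distrib]
    rw [sum_congr rfl fun k _ => (by exact_mod_cast hn k : (w k : ℂ) * ip (τ k) (τ k) = N)]
    simp only [mul_sum, ← mul_assoc]
    rw [sum_comm, sum_congr rfl fun j _ => (h j j).symm, ← mul_sum, tr]
    simp [mul_comm]
  have n0 : ∀ k j, 0 ≤ w k * Complex.normSq (τ k j - μ k j) := fun k j =>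
    mul_nonneg (Nat.cast_nonneg _) (Complex.normSq_nonneg _)
  rw [h]
  refine sum_congr rfl fun k _ => ?_
  have := (sum_eq_zero_iff_of_nonneg fun j _ => n0 k j).1 ((sum_eq_zero_iff_of_nonneg
    fun k _ => sum_nonneg fun j _ => n0 k j).1 h2 k (mem_univ k)) j (mem_univ j)
  rw [mul_eq_zero, Complex.normSq_eq_zero, sub_eq_zero, Nat.cast_eq_zero] at this
  rw [this.resolve_left (hw k)]

end H7.Had
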