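import Cfsg.Agent.H7.Wat
import Cfsg.Agent.H8.Avg2

/-! Contribution matrices `MP.ct`: linearity, orthogonality of different subsections, twisting by a
central element (`ct_mul_central`), transfer to local levels (`Lv.ct_im`) and the isometry given by
induction from a level (`Lv.Sup.inner`). -/

open H5 Cfsg MonoidAlgebra
open H8 (cC nN c1 cA mp io St Le Sp BP ctr secF cw)
open scoped ComplexConjugate

namespace H7

variable {M : Ideal AlgInt} {G K K' : Type*} [Group G] [Finite G] [Group K] [Finite K] [Group K']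
  [Finite K'] {p : ℕ}

theorem blockPart_equiv (π : K ≃* K') (b : Set (IrrCharacter K)) (γ : K' → ℂ) (g : K) :
    blockPart b (fun x => γ (π x)) g =
      blockPart (icomp π.toMonoidHom π.surjective ⁻¹' b) γ (π g) := by
  classical
  have := Fintype.ofFinite K
  have := Fintype.ofFinite K'
  rw [blockPart_eq_sum, blockPart_eq_sum]
  refine (Fintype.sum_equiv ⟨ieq π, ieq π.symm, ieq_symm_ieq π, ieq_ieq_symm π⟩ _ _ fun χ => ?_).symm
  exact if_congr Iff.rfl (by rw [← classInner_comp_equiv (e := π)]; rfl) rfl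

variable [hp : Fact p.Prime]

theorem ctr_equiv [Fintype K] [Fintype K'] (π : K ≃* K') (b : Set (IrrCharacter K)) (z : K)
    (α β : K' → ℂ) : ctr p (π z) (icomp π.toMonoidHom π.surjective ⁻¹' b) α β =
      ctr p z b (fun x => α (π x)) fun x => β (π x) := by
  have key : ∀ α : K' → ℂ, (fun x => secF p (π z) (icomp π.toMonoidHom π.surjective ⁻¹' b) α (π x)) =
      secF p z b fun x => α (π x) := fun α => funext fun x => by
    have e : pp p (π x) = π (pp p x) := pp_map (p := p) π.toMonoidHom x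
    by_cases h : pp p x = z
    · rw [H8.secF_of_eq h, H8.secF_of_eq (e.trans (congrArg π h)), blockPart_equiv]
    · rw [H8.secF_of_ne h, H8.secF_of_ne fun e' => h (π.injective (e.symm.trans e'))]
  rw [ctr, ctr, ← classInner_comp_equiv (e := π), key, key]

theorem ctr_sum_left [Fintype K] {ι : Type*} (s : Finset ι) (z : K) (b : Set (IrrCharacter K))
    (c : ι → ℂ) (α : ι → K → ℂ) (β : K → ℂ) :
    ctr p z b (fun x => ∑ i ∈ s, c i * α i x) β = ∑ i ∈ s, c i * ctr p z b (α i) β := by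
  have : secF p z b (fun x => ∑ i ∈ s, c i * α i x) = ∑ i ∈ s, c i • secF p z b (α i) := by
    funext h
    by_cases e : pp p h = z
    · simp [H8.secF_of_eq e, blockPart_sum_mul]
    · simp [H8.secF_of_ne e]
  simp [ctr, this, classInner_sum_left, classInner_smul_left]

theorem pp_central_mul {z : G} (hz : ∀ g, g * z = z * g) (hpe : IsPE p z) (g : G) :
    pp p (z * g) = z * pp p g := by
  conv_lhs => rw [← pp_mul_pr (p := p) g, ← mul_assoc]
  exact pp_mul_of (hpe.mul (isPE_pp g) (hz _).symm) (not_dvd_orderOf_pr g)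
    (Commute.mul_left (hz _).symm (commute_pp_pr g))

omit hp in
theorem irr_mul_cw (χ : IrrCharacter G) {z : G} (hz : ∀ g, g * z = z * g) (g : G) :
    (χ : G → ℂ) (z * g) = cw z χ * (χ : G → ℂ) g := H8.irr_central_mul χ.2 hz g

variable [PM p M]

namespace MP

variable {B : Set (IrrCharacter G)} {P Q R : Subgroup G} (m : MP p M B P) {u v w : P}
  {θ θ' : G → ℂ} {χ ψ : IrrCharacter G}

theorem ct_sum_left {ι : Type*} (s : Finset ι) (v : P) (c : ι → ℂ) (θ : ι → G → ℂ) (θ' : G → ℂ) :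
    m.ct v (∑ i ∈ s, c i • θ i) θ' = ∑ i ∈ s, c i * m.ct v (θ i) θ' := by
  have := Fintype.ofFinite (c1 (v : G))
  simp only [ct_eq, ← ctr_sum_left, Finset.sum_apply, Pi.smul_apply, smul_eq_mul]

theorem ct_sum_right {ι : Type*} (s : Finset ι) (v : P) (c : ι → ℂ) (θ : G → ℂ) (θ' : ι → G → ℂ) :
    m.ct v θ (∑ i ∈ s, c i • θ' i) = ∑ i ∈ s, conj (c i) * m.ct v θ (θ' i) := by
  rw [← ct_conj, ct_sum_left]
  simp [ct_conj]

theorem ct_expand [Fintype G] (hθ : IsClassFunction G θ) (v : P) (θ' : G → ℂ) :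
    m.ct v θ θ' = ∑ χ : IrrCharacter G, classInner θ χ * m.ct v χ θ' := by
  conv_lhs => rw [hθ.eq_sum_irr, ct_sum_left]

theorem ct_expand' [Fintype G] (hθ' : IsClassFunction G θ') (v : P) (θ : G → ℂ) :
    m.ct v θ θ' = ∑ χ : IrrCharacter G, conj (classInner θ' χ) * m.ct v θ χ := by
  conv_lhs => rw [hθ'.eq_sum_irr, ct_sum_right]

theorem ct_of_notMem (h : χ ∉ B) (v : P) (θ : G → ℂ) : m.ct v (χ : G → ℂ) θ = 0 := by
  have := (m.stb_const 1).ct_star χ.2.isClassFunction v θ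
  rw [m.star_of_notMem _ h, one_mul] at this
  rw [← this]
  simpa using m.ct_sum_left (∅ : Finset Unit) v 0 0 θ

theorem ct_of_notMem' (h : χ ∉ B) (v : P) (θ : G → ℂ) : m.ct v θ (χ : G → ℂ) = 0 := by
  rw [← ct_conj, m.ct_of_notMem h, map_zero]

theorem sum_ct_mul' (v : P) (θ θ' : G → ℂ) :
    ∑ χ : IrrCharacter G, m.ct v θ χ * m.ct v (χ : G → ℂ) θ' = m.ct v θ θ' := by
  rw [← m.sum_ct_mul v θ θ']
  refine Finset.sum_congr rfl fun χ _ => ?_
  split_ifs with h
  · rfl
  · rw [m.ct_of_notMem h, mul_zero]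

theorem sum_ct_self' (v : P) :
    ∑ χ : IrrCharacter G, m.ct v (χ : G → ℂ) χ = blockRank p (m.bu v) := by
  rw [← m.sum_ct_self v]
  refine Finset.sum_congr rfl fun χ _ => ?_
  split_ifs with h
  · rfl
  · rw [m.ct_of_notMem h]

open Classical in
theorem sum_fc [Fintype P] (v : P) (c : ℂ) :
    ∑ w, (if m.FC v w then (m.cl w : ℂ)⁻¹ * c else 0) = c := by
  rw [Finset.sum_congr rfl fun w _ => if_ctx_congr Iff.rfl (fun h => by rw [← h.cl_eq]) fun _ => rfl,
    ← Finset.sum_filter, Finset.sum_const, nsmul_eq_mul, ← Fintype.card_subtype,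
    ← Nat.card_eq_fintype_card]
  exact mul_inv_cancel_left₀ (m.cl_ne_zero v) c

open Classical in
/-- The indicator function of a fusion class. -/
noncomputable def ind (v : P) (w : P) : ℂ := if m.FC v w then 1 else 0

theorem stb_ind (v : P) : m.Stb (m.ind v) := fun _ _ h => by
  classical
  exact if_congr ⟨fun e => e.trans h, fun e => e.trans h.symm⟩ rfl rfl

theorem inner_star_ind [Fintype G] (hθ : IsClassFunction G θ) (hθ' : IsClassFunction G θ') (v : P)
    (c : ℂ) : classInner (m.star (fun w => c * m.ind v w) θ) θ' = c * m.ct v θ θ' := by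
  classical
  have := Fintype.ofFinite P
  rw [m.inner_star hθ hθ', ← m.sum_fc v (c * m.ct v θ θ')]
  refine Finset.sum_congr rfl fun w _ => ?_
  rw [ind]
  split_ifs with h
  · rw [h.ct_eq hθ hθ']; ring
  · simp

theorem sum_ct_mul_of_not (h : ¬ m.FC v w) (θ θ' : G → ℂ) :
    ∑ χ : IrrCharacter G, m.ct v θ χ * m.ct w (χ : G → ℂ) θ' = 0 := by
  have := Fintype.ofFinite G
  have hA := isClassFunction_sum_irr fun χ : IrrCharacter G => m.ct v θ χ
  have h1 := ((m.stb_const 1).mul (m.stb_ind v)).ct_star hA w θ'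
  rw [Pi.mul_apply, ind, if_neg h, mul_zero, zero_mul, m.ct_expand (m.isClassFunction_star _ _)] at h1
  rw [← h1]
  refine Finset.sum_congr rfl fun χ _ => ?_
  rw [← m.sum_ct_mul' v θ χ, ← ct_sum_left]
  exact congrArg (· * _) ((m.inner_star_ind hA χ.2.isClassFunction v 1).trans (one_mul _)).symm

theorem sum_ct' [Fintype G] [Fintype P] (hθ : IsClassFunction G θ)
    (hB : ∀ χ ∉ B, classInner θ (χ : IrrCharacter G) = 0) (hθ' : IsClassFunction G θ') :
    ∑ v, (m.cl v : ℂ)⁻¹ * m.ct v θ θ' = classInner θ θ' := by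
  simp only [m.ct_expand hθ, Finset.mul_sum]
  rw [Finset.sum_comm, hθ.classInner_eq_sum]
  refine Finset.sum_congr rfl fun χ _ => ?_
  by_cases h : χ ∈ B
  · rw [classInner_conj_symm, ← m.sum_ct h hθ', Finset.mul_sum]
    exact Finset.sum_congr rfl fun v _ => by ring
  · simp [hB χ h]

theorem ct_one [Fintype G] (hχ : χ ∈ B) (hθ : IsClassFunction G θ) :
    m.ct 1 (χ : G → ℂ) θ = classInner (reg p (χ : G → ℂ)) θ := by
  rw [← one_mul (m.ct _ _ _), ← m.inner_star_ind χ.2.isClassFunction hθ]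
  congr 1
  funext g
  by_cases h : p ∣ orderOf g
  · rw [reg_of_dvd _ h]
    by_contra h0
    obtain ⟨v, h1, h2⟩ := m.isConj_of_star_ne_zero h0
    have h3 : v = 1 := m.fc_one_iff.1 (by_contra fun e => h1 (by rw [ind, if_neg e, mul_zero]))
    rw [h3, Subgroup.coe_one, isConj_one_left, pp_eq_one_iff] at h2
    exact h2 h
  · rw [reg_of_not_dvd _ h, m.star_reg _ hχ h, ind, if_pos (FC.refl m 1), one_mul, one_mul]

theorem sum_ct_one_mul (hχ : χ ∈ B) :
    ∑ ψ : IrrCharacter G, m.ct 1 (χ : G → ℂ) ψ * (ψ : G → ℂ) 1 = (χ : G → ℂ) 1 := by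
  have := Fintype.ofFinite G
  simp only [fun ψ : IrrCharacter G => m.ct_one hχ ψ.2.isClassFunction]
  rw [← (isClassFunction_reg χ.2.isClassFunction).apply_eq_sum_irr, reg_of_not_dvd _ not_dvd_orderOf_one]

theorem sum_mul_one_eq_zero {c : IrrCharacter G → ℂ} (hB : ∀ χ ∉ B, c χ = 0)
    (h : ∀ ψ : IrrCharacter G, ∑ χ, c χ * m.ct 1 (χ : G → ℂ) ψ = 0) :
    ∑ χ, c χ * (χ : G → ℂ) 1 = 0 := by
  rw [Finset.sum_congr rfl (g := fun χ => ∑ ψ : IrrCharacter G,
    c χ * m.ct 1 (χ : G → ℂ) ψ * (ψ : G → ℂ) 1) fun χ _ => ?_, Finset.sum_comm]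
  · simp [← Finset.sum_mul, h]
  · by_cases e : χ ∈ B
    · rw [← m.sum_ct_one_mul e, Finset.mul_sum]; simp [mul_assoc]
    · simp [hB χ e]

theorem eq_of_cC_eq {f g : (F M)[G]} (hf : Le p ⊤ Q f P m.e) (hg : Le p ⊤ R g P m.e) (h : Q ≤ R)
    (hn : R ≤ nN Q) (e : cC Q = cC R) : f = g := by
  have n := H8.Le.ns_of_le m.mx.pair m.mx.norm hf hg h hn
  have h1 := n.br
  rw [H8.Br_eq_self (e ▸ n.lo.sp)] at h1
  exact n.lo.blk.eq_of_mul_ne_zero (H8.comm_blk _) (e ▸ n.hi.blk) (h1.symm ▸ n.hi.blk.ne)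

section central

variable {z : P} (hz : ∀ g : G, g * z = z * g)
include hz

omit hp [PM p M] [Finite G] in
theorem c1_central_mul (v : P) : c1 ((z * v : P) : G) = c1 (v : G) := by
  ext g
  rw [Subgroup.mem_centralizer_singleton_iff, Subgroup.mem_centralizer_singleton_iff,
    Subgroup.coe_mul, ← mul_assoc, hz, mul_assoc, mul_assoc, mul_right_inj]

theorem fv_central_mul (v : P) : m.fv (z * v) = m.fv v := by
  have key : ∀ v : P, ∀ g, Le p ⊤ (Subgroup.zpowers (v : G) ⊔ Subgroup.zpowers (z : G)) g P m.e →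
      m.fv v = g := fun v g hg => by
    have e : cC (Subgroup.zpowers (z : G)) = ⊤ := eq_top_iff.2 fun x _ => by
      rw [← top_inf_eq (cC _), top_inf_cC_zpowers]
      exact Subgroup.mem_centralizer_singleton_iff.2 (hz x)
    refine m.eq_of_cC_eq (m.le_fv v) hg le_sup_left (sup_le (H8.le_nN_self _)
      (le_trans (Subgroup.zpowers_le.2 ?_) (H8.cC_le_nN _))) (by rw [H8.cC_sup, e, inf_top_eq])
    exact fun x _ => hz x
  obtain ⟨g, hg⟩ := m.mx.exists_le (sup_le (Subgroup.zpowers_le.2 v.2) (Subgroup.zpowers_le.2 z.2))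
  rw [key v g hg, key (z * v) g]
  convert hg using 1
  refine le_antisymm (sup_le (Subgroup.zpowers_le.2 (mul_mem ?_ ?_)) le_sup_right)
    (sup_le (Subgroup.zpowers_le.2 ?_) le_sup_right)
  · exact Subgroup.mem_sup_right (Subgroup.mem_zpowers _)
  · exact Subgroup.mem_sup_left (Subgroup.mem_zpowers _)
  · exact (Subgroup.mul_mem_cancel_left _ (Subgroup.mem_sup_right (Subgroup.mem_zpowers _))).1
      (Subgroup.mem_sup_left (Subgroup.mem_zpowers _))

theorem ct_mul_central (v : P) (χ ψ : IrrCharacter G) :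
    m.ct (z * v) (χ : G → ℂ) ψ = cw (z : G) χ * conj (cw (z : G) ψ) * m.ct v (χ : G → ℂ) ψ := by
  classical
  have := Fintype.ofFinite G
  have e : m.ε (z * v) = m.ε v := by
    have := m.lf_ε (z * v)
    rw [c1_central_mul hz, m.fv_central_mul hz] at this
    exact this.unique (m.lf_ε v)
  apply mul_left_cancel₀ (card_ne_zero_complex (G := c1 (v : G)))
  rw [mul_left_comm, ← m.sum_sb χ.2.isClassFunction ψ.2.isClassFunction, ← c1_central_mul hz,
    ← m.sum_sb χ.2.isClassFunction ψ.2.isClassFunction, Finset.mul_sum]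
  refine (Fintype.sum_equiv (Equiv.mulLeft (z : G)) _ _ fun g => ?_).symm
  rw [Equiv.coe_mulLeft, sb, sb, pp_central_mul hz (m.isPE z), Subgroup.coe_mul, e, irr_mul_cw ψ hz]
  simp only [mul_right_inj]
  split_ifs
  · have : m.ε v * single ((z : G) * g) 1 = single (z : G) 1 * (m.ε v * single g 1) := by
      rw [← mul_assoc, (commute_single_iff _ _).2 fun x => by rw [← hz, mul_inv_cancel_right],
        mul_assoc, single_mul_single, one_mul]
    rw [this, ev_single_mul, ev_apply]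
    simp only [irr_mul_cw χ hz, map_mul, mul_left_comm _ (cw _ χ), ← Finset.mul_sum]
    ring
  · simp

end central

namespace Lv

variable {m} {φ : K →* G} {B' : Set (IrrCharacter K)} {P' : Subgroup K} {m' : MP p M B' P'}
  {v w : P'} {α α' : K → ℂ}

/-- The image in the defect group. -/
def im (l : m.Lv Q φ m') (v : P') : P := ⟨φ v, l.mem v⟩

@[simp] theorem coe_im (l : m.Lv Q φ m') (v : P') : (l.im v : G) = φ v := rfl

theorem im_surj (l : m.Lv Q φ m') (u : P) : ∃ v, l.im v = u := by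
  obtain ⟨v, hv, e⟩ := l.map.ge u.2
  exact ⟨⟨v, hv⟩, Subtype.ext e⟩

theorem map_c1 (l : m.Lv Q φ m') {v : K} (h : Q ≤ Subgroup.zpowers (φ v)) :
    (c1 v).map φ = c1 (φ v) := by
  rw [map_c1_of_range l.inj l.rng, sup_eq_right.2 h, ← top_inf_eq (cC _), top_inf_cC_zpowers]

theorem mp_fv (l : m.Lv Q φ m') (h : Q ≤ Subgroup.zpowers (φ v)) :
    mp φ (m'.fv v) = m.fv (l.im v) := by
  have h1 := (m'.le_fv v).mp l.inj
  rw [← MonoidHom.range_eq_map, l.rng, l.map, l.e, MonoidHom.map_zpowers, ← top_inf_eq (cC Q),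
    H8.le_loc h] at h1
  exact m.mx.unique h1 (m.le_fv (l.im v))

theorem exists_eqv (l : m.Lv Q φ m') (h : Q ≤ Subgroup.zpowers (φ v)) :
    ∃ π : c1 (v : K) ≃* c1 (l.im v : G), (∀ x, (π x : G) = φ x) ∧
      m.bu (l.im v) = icomp π.toMonoidHom π.surjective ⁻¹' m'.bu v := by
  refine eq_of_mp_eq (φ := φ.comp (c1 (v : K)).subtype)
    (l.inj.comp Subtype.val_injective) (Subgroup.subtype_injective _) ?_ (m'.bu_sat v)
    (m.bu_sat _) ?_
  · rw [MonoidHom.range_comp, Subgroup.range_subtype, Subgroup.range_subtype, l.map_c1 h]; rfl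
  · rw [← H8.mp_mp, ← io, m'.io_bu, l.mp_fv h, ← io, m.io_bu]

theorem ct_im (l : m.Lv Q φ m') (h : Q ≤ Subgroup.zpowers (φ v)) (θ θ' : G → ℂ) :
    m.ct (l.im v) θ θ' = m'.ct v (fun x => θ (φ x)) fun x => θ' (φ x) := by
  have := Fintype.ofFinite (c1 (v : K))
  have := Fintype.ofFinite (c1 (l.im v : G))
  obtain ⟨π, h1, h2⟩ := l.exists_eqv h
  rw [ct_eq, ct_eq, h2, show selfC (l.im v : G) = π (selfC (v : K)) from Subtype.ext (h1 (selfC (v : K))).symm,
    ctr_equiv]
  simp only [h1]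

theorem rank_im (l : m.Lv Q φ m') (h : Q ≤ Subgroup.zpowers (φ v)) :
    blockRank p (m.bu (l.im v)) = blockRank p (m'.bu v) := by
  obtain ⟨π, -, h2⟩ := l.exists_eqv h
  have : π.toMonoidHom.ker = ⊥ := (MonoidHom.ker_eq_bot_iff _).2 π.injective
  rw [h2]
  exact (blockRank_quot _ (this ▸ IsPGroup.of_bot) (fun y _ x hx => by
    rw [this] at hx; rw [Subgroup.mem_bot.1 hx, one_mul, mul_one]) (m'.bu_sat v)).symm

theorem le_of_fc (l : m.Lv Q φ m') (h : Q ≤ Subgroup.zpowers (φ v)) (e : m'.FC v w) :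
    Q ≤ Subgroup.zpowers (φ w) := by
  obtain ⟨x, -, e⟩ := e
  rw [← e, map_mul, map_mul, map_inv, ← cj_zpowers,
    ← H8.mem_nN_iff.1 (H8.cC_le_nN Q (l.rng.le ⟨x, rfl⟩))]
  exact cj_mono _ h

theorem fc_im (l : m.Lv Q φ m') (h : Q ≤ Subgroup.zpowers (φ v)) (e : m'.FC v w) :
    m.FC (l.im v) (l.im w) := by
  have h' := l.le_of_fc h e
  obtain ⟨x, h1, e⟩ := e
  have e' : φ x * l.im v * (φ x)⁻¹ = l.im w := by rw [coe_im, coe_im, ← e]; simp
  refine ⟨φ x, (m.gd_iff e').2 ?_, e'⟩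
  rw [← l.mp_fv h, ← l.mp_fv h', ← H8.mp_cA, (m'.gd_iff e).1 h1]

/-- Weak closure of `Q` in cyclic subgroups. -/
def WC (Q : Subgroup G) : Prop :=
  ∀ g u, Q ≤ Subgroup.zpowers u → Q ≤ Subgroup.zpowers (g * u * g⁻¹) → g ∈ cC Q

theorem fc_im_iff (l : m.Lv Q φ m') (hQ : WC Q) (h : Q ≤ Subgroup.zpowers (φ v))
    (h' : Q ≤ Subgroup.zpowers (φ w)) : m.FC (l.im v) (l.im w) ↔ m'.FC v w := by
  refine ⟨fun ⟨x, h1, e⟩ => ?_, l.fc_im h⟩
  obtain ⟨x, rfl⟩ : x ∈ φ.range := l.rng ▸ hQ x _ h (e ▸ h')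
  have e' : x * v * x⁻¹ = w := l.inj (by simpa using e)
  refine ⟨x, (m'.gd_iff e').2 (H8.mp_injective l.inj ?_), e'⟩
  rw [H8.mp_cA, l.mp_fv h, l.mp_fv h', (m.gd_iff e).1 h1]

/-- A class function of the local block supported on the sections above `Q`. -/
structure Sup (l : m.Lv Q φ m') [Fintype K] (α : K → ℂ) : Prop where
  cls : IsClassFunction K α
  blk : ∀ ξ ∉ B', classInner α (ξ : IrrCharacter K) = 0
  sup : ∀ v : P', ¬ Q ≤ Subgroup.zpowers (φ v) → ∀ ξ : IrrCharacter K, m'.ct v α ξ = 0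

theorem ct_ext (l : m.Lv Q φ m') (h : Q ≤ Subgroup.zpowers (φ v)) (α : K → ℂ) (θ : G → ℂ) :
    m'.ct v α (fun x => θ (φ x)) = m.ct (l.im v) (Function.extend φ α 0) θ := by
  rw [l.ct_im h]; simp only [l.inj.extend_apply]

variable [Fintype K] {l : m.Lv Q φ m'}

open Classical in
theorem Sup.eq_sum [Fintype P'] (h : l.Sup α) (hθ : IsClassFunction G θ) :
    classInner α (fun x => θ (φ x)) = ∑ v : P', if Q ≤ Subgroup.zpowers (φ v) then
      (m'.cl v : ℂ)⁻¹ * m.ct (l.im v) (Function.extend φ α 0) θ else 0 := by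
  rw [← m'.sum_ct' h.cls h.blk (hθ.comp φ)]
  refine Finset.sum_congr rfl fun v _ => ?_
  split_ifs with e
  · rw [l.ct_ext e]
  · rw [m'.ct_expand' (hθ.comp φ)]; simp [h.sup v e]

theorem Sup.of_notMem (h : l.Sup α) (hχ : χ ∉ B) :
    classInner α (fun x => (χ : G → ℂ) (φ x)) = 0 := by
  have := Fintype.ofFinite P'
  rw [h.eq_sum χ.2.isClassFunction]
  simp [m.ct_of_notMem' hχ]

theorem Sup.orth (h : l.Sup α) (hu : ∀ v : P', Q ≤ Subgroup.zpowers (φ v) → ¬ m.FC (l.im v) u)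
    (θ : G → ℂ) : ∑ χ : IrrCharacter G,
      classInner α (fun x => (χ : G → ℂ) (φ x)) * m.ct u (χ : G → ℂ) θ = 0 := by
  have := Fintype.ofFinite P'
  simp only [fun χ : IrrCharacter G => h.eq_sum χ.2.isClassFunction, Finset.sum_mul]
  rw [Finset.sum_comm]
  refine Finset.sum_eq_zero fun v _ => ?_
  split_ifs with e
  · simp only [mul_assoc, ← Finset.mul_sum, m.sum_ct_mul_of_not (hu v e), mul_zero]
  · simp

theorem Sup.inner (h : l.Sup α) (h' : l.Sup α') (hQ : WC Q) : ∑ χ : IrrCharacter G,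
    classInner α (fun x => (χ : G → ℂ) (φ x)) * conj (classInner α' fun x => (χ : G → ℂ) (φ x)) =
      classInner α α' := by
  classical
  have := Fintype.ofFinite P'
  rw [← m'.sum_ct' h.cls h.blk h'.cls]
  simp only [fun χ : IrrCharacter G => h.eq_sum χ.2.isClassFunction, Finset.sum_mul]
  rw [Finset.sum_comm]
  refine Finset.sum_congr rfl fun v _ => ?_
  split_ifs with e
  · simp only [mul_assoc, ← Finset.mul_sum]
    congr 1
    simp only [fun χ : IrrCharacter G => h'.eq_sum χ.2.isClassFunction, map_sum, Finset.mul_sum]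
    rw [Finset.sum_comm, ← m'.sum_fc v (m'.ct v α α')]
    refine Finset.sum_congr rfl fun w _ => ?_
    by_cases e' : Q ≤ Subgroup.zpowers (φ w)
    · simp only [if_pos e', map_mul, ct_conj, map_inv₀, map_natCast,
        mul_left_comm _ (m'.cl w : ℂ)⁻¹, ← Finset.mul_sum]
      split_ifs with e2
      · congr 1
        rw [Finset.sum_congr rfl fun χ _ => by
          rw [← m.ct_conj (l.im w), ← l.ct_ext e', ← e2.ct_eq h'.cls (χ.2.isClassFunction.comp φ),
            l.ct_ext e, m.ct_conj], m.sum_ct_mul', l.ct_im e]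
        simp only [l.inj.extend_apply]
      · rw [m.sum_ct_mul_of_not (mt (l.fc_im_iff hQ e e').1 e2), mul_zero]
    · simp [e', mt (l.le_of_fc e) e']
  · rw [m'.ct_expand' h'.cls]; simp [h.sup v e]

end Lv

end MP

end H7
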