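import Cfsg.Agent.H11.JT
import Cfsg.Agent.H5.Equiv
import Cfsg.Agent.H5.Gen
import Cfsg.Agent.H5.Column
/-! Characters of symmetric groups by the Frobenius formula: `Sn.V β μ` (coefficient of `x ^ β` in
`a_ρ p_μ`), the Murnaghan–Nakayama rule `V_cons`, the virtual characters `chi β`, orthogonality
`inner_chi`, completeness `exists_chi`, and the degree formula `V_one`. -/
open H5 Cfsg Finset Equiv MvPolynomial
namespace H7.Sn
variable {N : ℕ}

/-- A tuple as an exponent vector. -/
noncomputable def fs (β : Fin N → ℕ) : Fin N →₀ ℕ := Finsupp.equivFunOnFinite.symm β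

@[simp] theorem fs_apply (β : Fin N → ℕ) (i : Fin N) : fs β i = β i := rfl

theorem fs_inj {β γ : Fin N → ℕ} : fs β = fs γ ↔ β = γ := Finsupp.equivFunOnFinite.symm.injective.eq_iff

variable (N) in
/-- The Vandermonde determinant. -/
noncomputable def aρ : MvPolynomial (Fin N) ℤ :=
  ∑ κ : Perm (Fin N), monomial (fs fun j => κ j) (Perm.sign κ : ℤ)

/-- The value at cycle type `μ` of the character with `β`-numbers `β`. -/
noncomputable def V (β : Fin N → ℕ) (μ : Multiset ℕ) : ℤ :=
  coeff (fs β) (aρ N * (μ.map (psum (Fin N) ℤ)).prod)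

theorem V_cons (β : Fin N → ℕ) (r : ℕ) (μ : Multiset ℕ) :
    V β (r ::ₘ μ) = ∑ i, if r ≤ β i then V (β - Pi.single i r) μ else 0 := by
  rw [V, Multiset.map_cons, Multiset.prod_cons, mul_left_comm, psum, sum_mul, coeff_sum]
  refine sum_congr rfl fun i _ => ?_
  rw [X_pow_eq_monomial, coeff_monomial_mul', one_mul]
  refine if_congr (by simp [Finsupp.single_le_iff]) ?_ rfl
  rw [V]
  congr 1
  ext j
  simp [Finsupp.single_apply, Pi.single_apply, eq_comm]

theorem V_perm (β : Fin N → ℕ) (σ : Perm (Fin N)) (μ : Multiset ℕ) :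
    V (β ∘ σ) μ = Perm.sign σ * V β μ := by
  have e : ∀ γ : Fin N → ℕ, (fs γ).mapDomain σ = fs (γ ∘ σ.symm) := fun γ => by
    ext j; simp [Finsupp.mapDomain_equiv_apply]
  rw [V, ← coeff_rename_mapDomain σ σ.injective, e, map_mul, map_multiset_prod, Multiset.map_map,
    show aρ N = aρ N from rfl]
  simp only [Function.comp_def, rename_psum, apply_symm_apply]
  rw [show rename σ (aρ N) = C (Perm.sign σ : ℤ) * aρ N from ?_, mul_assoc, coeff_C_mul, V]
  simp only [aρ, map_sum, rename_monomial, e, mul_sum, C_mul_monomial]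
  refine Fintype.sum_equiv (Equiv.mulRight σ⁻¹) _ _ fun κ => ?_
  simp only [coe_mulRight, map_mul, Perm.sign_inv, Units.val_mul]
  rw [mul_left_comm, ← Units.val_mul, Int.units_mul_self, Units.val_one, mul_one]
  rfl

theorem V_eq_zero {β : Fin N → ℕ} (h : ¬ Function.Injective β) (μ : Multiset ℕ) : V β μ = 0 := by
  obtain ⟨i, j, e, hij⟩ := Function.not_injective_iff.1 h
  have := V_perm β (swap i j) μ
  rw [show β ∘ swap i j = β from funext fun k => by
    simp only [Function.comp, swap_apply_def]; split_ifs <;> simp_all, Perm.sign_swap hij] at this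
  simp at this
  omega

variable {α : Type*} [Fintype α] [DecidableEq α]

theorem exists_fibre {J : Type*} [Fintype J] [DecidableEq J] (M : J → ℕ)
    (h : ∑ j, M j = Fintype.card α) : ∃ c : α → J, ∀ j, #{x | c x = j} = M j := by
  let e : α ≃ Σ j, Fin (M j) := Fintype.equivOfCardEq (by simp [h])
  refine ⟨fun x => (e x).1, fun j => ?_⟩
  rw [card_equiv e (t := {y | y.1 = j}) (by simp), ← univ_sigma_univ, filter_sigma, card_sigma,
    sum_eq_single j (fun b _ h => by simp [h]) (by simp)]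
  simp

theorem exists_perm_fibre {J : Type*} [DecidableEq J] {c d : α → J}
    (h : ∀ j, #{x | c x = j} = #{x | d x = j}) : ∃ g : Perm α, ∀ x, d (g x) = c x :=
  ⟨Equiv.ofFiberEquiv (f := c) (g := d) fun j => Fintype.equivOfCardEq (by
    simpa [Fintype.card_subtype] using h j), Equiv.ofFiberEquiv_map _⟩

theorem card_fibre_comp {J : Type*} [DecidableEq J] (c : α → J) (g : Perm α) (j : J) :
    #{x | c (g x) = j} = #{x | c x = j} :=
  card_equiv g (by simp)

theorem prod_psum_fibre {J : Type*} [Fintype J] [DecidableEq J] {ι : α → J}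
    (h : Function.Surjective ι) : ∏ j, psum (Fin N) ℤ #{x | ι x = j} =
      ∑ c : α → Fin N with ∀ x y, ι x = ι y → c x = c y, ∏ x, X (c x) := by
  simp only [psum]
  rw [prod_univ_sum, Fintype.piFinset_univ]
  refine sum_bij (fun d _ => d ∘ ι) (fun d _ => by simp +contextual)
    (fun d _ d' _ e => h.injective_comp_right e) (fun c hc => ⟨c ∘ Function.surjInv h, mem_univ _,
      funext fun x => (mem_filter.1 hc).2 _ _ (Function.surjInv_eq h _)⟩) fun d _ => ?_
  rw [← prod_fiberwise univ ι]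
  refine prod_congr rfl fun j _ => ?_
  rw [← prod_const]
  exact prod_congr rfl fun x hx => by simp [(mem_filter.1 hx).2]

theorem prod_psum (g : Perm α) : (g.partition.parts.map (psum (Fin N) ℤ)).prod =
    ∑ c : α → Fin N with ∀ x, c (g x) = c x, monomial (fs fun i => #{x | c x = i}) 1 := by
  let ι : α → g.cycleFactorsFinset ⊕ {x // x ∉ g.support} := fun x =>
    if h : x ∈ g.support then .inl ⟨g.cycleOf x, Perm.cycleOf_mem_cycleFactorsFinset_iff.2 h⟩
    else .inr ⟨x, h⟩
  have i1 : ∀ x (h : x ∈ g.support),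
      ι x = .inl ⟨g.cycleOf x, Perm.cycleOf_mem_cycleFactorsFinset_iff.2 h⟩ := fun x h => dif_pos h
  have i2 : ∀ x (h : x ∉ g.support), ι x = .inr ⟨x, h⟩ := fun x h => dif_neg h
  clear_value ι
  have h1 : ∀ (c : g.cycleFactorsFinset) x, ι x = .inl c ↔ x ∈ c.1.support := fun c x => by
    by_cases h : x ∈ g.support
    · rw [i1 x h, Sum.inl.injEq, Subtype.ext_iff]
      exact ⟨fun e => e ▸ Perm.mem_support_cycleOf_iff.2 ⟨.rfl, h⟩,
        fun e => (Perm.cycle_is_cycleOf e c.2).symm⟩
    · rw [i2 x h]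
      exact iff_of_false (by simp) fun e => h (Perm.mem_cycleFactorsFinset_support_le c.2 e)
  have h2 : ∀ (y : {x // x ∉ g.support}) x, ι x = .inr y ↔ x = y := fun y x => by
    by_cases h : x ∈ g.support
    · rw [i1 x h]
      exact iff_of_false (by simp) fun e : x = y => y.2 (e ▸ h)
    · rw [i2 x h, Sum.inr.injEq, Subtype.ext_iff]
  have h3 : Function.Surjective ι := by
    rintro (c | y)
    · obtain ⟨x, hx⟩ := (Perm.mem_cycleFactorsFinset_iff.1 c.2).1.nonempty_support
      exact ⟨x, (h1 c x).2 hx⟩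
    · exact ⟨y, (h2 y y).2 rfl⟩
  have := prod_psum_fibre (N := N) h3
  rw [Fintype.prod_sum_type] at this
  simp only [h1, h2, filter_univ_mem, filter_eq', mem_univ, if_true, card_singleton, prod_const,
    card_univ] at this
  rw [Perm.parts_partition, Multiset.map_add, Multiset.prod_add, Multiset.map_replicate,
    Multiset.prod_replicate, Perm.cycleType_def, Multiset.map_map, ← prod_eq_multiset_prod,
    ← prod_coe_sort, ← card_compl, ← Fintype.card_coe, Fintype.card_congr
      (Equiv.subtypeEquivRight (q := (· ∉ g.support)) fun _ => mem_compl)]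
  refine this.trans (sum_congr (filter_congr fun c _ => ⟨fun h x => h _ _ ?_, fun h x y e => ?_⟩)
    fun c _ => ?_)
  · by_cases h : x ∈ g.support
    · rw [i1 x h, i1 _ (Perm.apply_mem_support.2 h)]
      simp only [Perm.cycleOf_self_apply]
    · rw [Perm.notMem_support.1 h]
  · have k : ∀ (i : ℕ) y, c ((g ^ i) y) = c y := fun i => by
      induction i with
      | zero => simp
      | succ i ih => intro y; rw [pow_succ', Perm.mul_apply, h, ih]
    by_cases hy : y ∈ g.support
    · rw [i1 y hy, h1] at e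
      obtain ⟨i, -, rfl⟩ := (Perm.mem_support_cycleOf_iff.1 e).1.exists_pow_eq'
      exact k i y
    · rw [i2 y hy, h2] at e
      rw [e]
  · rw [monomial_eq, C_1, one_mul, Finsupp.prod_fintype _ _ (by simp), ← prod_fiberwise univ c]
    refine prod_congr rfl fun j _ => ?_
    rw [fs_apply, ← prod_const]
    exact prod_congr rfl fun x hx => by simp [(mem_filter.1 hx).2]

/-- Colourings with prescribed fibre sizes. -/
def Col (α : Type*) [Fintype α] (a : Fin N → ℕ) := {c : α → Fin N // ∀ i, #{x | c x = i} = a i}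

instance (a : Fin N → ℕ) : Finite (Col α a) := Subtype.finite

instance (a : Fin N → ℕ) : MulAction (Perm α) (Col α a) where
  smul g c := ⟨fun x => c.1 (g⁻¹ x), fun i => (card_fibre_comp c.1 g⁻¹ i).trans (c.2 i)⟩
  one_smul _ := rfl
  mul_smul _ _ _ := rfl

theorem smul_col {a : Fin N → ℕ} (g : Perm α) (c : Col α a) (x : α) :
    (g • c).1 x = c.1 (g⁻¹ x) := rfl

/-- The permutation character on colourings. -/
noncomputable def ψ (a : Fin N → ℕ) (g : Perm α) : ℂ := Nat.card (MulAction.fixedBy (Col α a) g)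

theorem coeff_psum (a : Fin N → ℕ) (g : Perm α) :
    ((coeff (fs a) (g.partition.parts.map (psum (Fin N) ℤ)).prod : ℤ) : ℂ) = ψ a g := by
  rw [prod_psum, coeff_sum, ψ]
  simp only [coeff_monomial, fs_inj, sum_boole, filter_filter, Int.cast_natCast, Nat.cast_inj]
  rw [← Fintype.card_coe, ← Nat.card_eq_fintype_card]
  refine Nat.card_congr ⟨fun c => ⟨⟨c.1, congrFun (mem_filter.1 c.2).2.2⟩, Subtype.ext <| funext
    fun x => ?_⟩, fun c => ⟨c.1.1, mem_filter.2 ⟨mem_univ _, fun x => ?_, funext c.1.2⟩⟩,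
    fun _ => rfl, fun _ => rfl⟩
  · exact ((mem_filter.1 c.2).2.1 _).symm.trans (by simp)
  · rw [← congrFun (congrArg Subtype.val c.2) (g x), smul_col]; simp

theorem inner_ψ {a b : Fin N → ℕ} (h : ∑ i, a i = Fintype.card α) :
    classInner (ψ (α := α) a) (ψ b) = H11.NM a b := by
  refine (classInner_fixedBy (Col α a) (Col α b)).trans (Nat.cast_inj.2 ?_)
  let f : Col α a × Col α b → {M : Fin N → Fin N → ℕ // (∀ s, ∑ t, M s t = a s) ∧
      ∀ t, ∑ s, M s t = b t} := fun c => ⟨fun s t => #{x | (c.1.1 x, c.2.1 x) = (s, t)},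
    fun s => by
      rw [← c.1.2, card_eq_sum_card_fiberwise (f := c.2.1) (t := univ) (by simp)]
      simp [filter_filter],
    fun t => by
      rw [← c.2.2, card_eq_sum_card_fiberwise (f := c.1.1) (t := univ) (by simp)]
      simp [filter_filter, and_comm]⟩
  have hf : Function.Surjective f := fun ⟨M, h1, h2⟩ => by
    obtain ⟨c, hc⟩ := exists_fibre (α := α) (fun x : Fin N × Fin N => M x.1 x.2)
      (by rw [Fintype.sum_prod_type, ← h]; exact sum_congr rfl fun s _ => h1 s)
    refine ⟨(⟨fun x => (c x).1, fun s => ?_⟩, ⟨fun x => (c x).2, fun t => ?_⟩),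
      Subtype.ext (funext₂ fun s t => hc (s, t))⟩
    · rw [← h1, card_eq_sum_card_fiberwise (f := fun x => (c x).2) (t := univ) (by simp)]
      exact sum_congr rfl fun t _ => by simp [← hc (s, t), filter_filter, Prod.ext_iff]
    · rw [← h2, card_eq_sum_card_fiberwise (f := fun x => (c x).1) (t := univ) (by simp)]
      exact sum_congr rfl fun s _ => by simp [← hc (s, t), filter_filter, Prod.ext_iff, and_comm]
  refine Nat.card_congr ((Quotient.congrRight fun c d => ?_).trans
    (Setoid.quotientKerEquivOfSurjective f hf))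
  rw [MulAction.orbitRel_apply, Setoid.ker_def]
  refine ⟨?_, fun e => ?_⟩
  · rintro ⟨g, rfl⟩
    exact Subtype.ext (funext₂ fun s t => card_fibre_comp (fun x => (d.1.1 x, d.2.1 x)) g⁻¹ (s, t))
  · obtain ⟨g, hg⟩ := exists_perm_fibre (c := fun x => (c.1.1 x, c.2.1 x))
      (d := fun x => (d.1.1 x, d.2.1 x)) fun x => congrFun₂ (congrArg Subtype.val e) x.1 x.2
    exact ⟨g⁻¹, Prod.ext (Subtype.ext (funext fun x => congrArg Prod.fst (hg x)))
      (Subtype.ext (funext fun x => congrArg Prod.snd (hg x)))⟩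

/-- The virtual character with `β`-numbers `β`. -/
noncomputable def chi (β : Fin N → ℕ) (g : Perm α) : ℂ := V β g.partition.parts

theorem chi_eq (β : Fin N → ℕ) : chi (α := α) β = ∑ κ : Perm (Fin N),
    (if ∀ i, κ i ≤ β i then (Perm.sign κ : ℤ) else 0) • ψ fun i => β i - κ i := by
  ext g
  rw [chi, V, aρ, sum_mul, coeff_sum, Int.cast_sum, Finset.sum_apply]
  refine sum_congr rfl fun κ _ => ?_
  rw [coeff_monomial_mul', Pi.smul_apply, ← coeff_psum]
  split_ifs with h1 h2 h2
  · rw [zsmul_eq_mul, Int.cast_mul]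
    congr 3
    ext; simp
  · exact absurd h1 h2
  · exact absurd h2 h1
  · simp

theorem isGen_chi (β : Fin N → ℕ) : IsGeneralizedCharacter (Perm α) (chi β) := by
  rw [chi_eq]
  exact IsGeneralizedCharacter.sum _ fun κ _ => (isCharacter_fixedBy (Col α _)).isGen.zsmul _

variable (N) in
/-- The degree of the Vandermonde determinant. -/
def ρ : ℕ := ∑ i : Fin N, i.1

theorem inner_chi {β γ : Fin N → ℕ} (h : StrictMono β) (h' : StrictMono γ)
    (e : ∑ i, β i = Fintype.card α + ρ N) :
    classInner (chi (α := α) β) (chi γ) = if β = γ then 1 else 0 := by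
  have := congrArg (Int.cast : ℤ → ℂ) (H11.orth h h')
  rw [apply_ite (Int.cast : ℤ → ℂ), Int.cast_one, Int.cast_zero] at this
  rw [← this, chi_eq, chi_eq, classInner_sum_left, Int.cast_sum]
  refine sum_congr rfl fun κ _ => ?_
  rw [classInner_sum_right, Int.cast_sum]
  refine sum_congr rfl fun κ' _ => ?_
  rw [classInner_zsmul_left, classInner_zsmul_right]
  by_cases h1 : ∀ i, κ i ≤ β i
  · rw [inner_ψ]
    · by_cases h2 : ∀ i, κ' i ≤ γ i <;> simp [h1, h2, mul_assoc]
    · rw [sum_tsub_distrib _ fun i _ => h1 i, e, Equiv.sum_comp κ fun i => i.1, ρ,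
        Nat.add_sub_cancel]
  · simp [h1]

theorem V_one {β : Fin N → ℕ} {n : ℕ} (e : ∑ i, β i = n + ρ N) :
    V β (Multiset.replicate n 1) * ∏ i, ((β i).factorial : ℤ) =
      n.factorial * ∏ i, ∏ j ∈ Ioi i, ((β j : ℤ) - β i) := by
  rw [← Matrix.det_vandermonde, Matrix.det_eval_matrixOfPolynomials_eq_det_vandermonde _
    (fun j => descPochhammer ℤ j) (fun _ => descPochhammer_natDegree _ _)
    fun _ => monic_descPochhammer _ _, ← Matrix.det_transpose, Matrix.det_apply', V, aρ, sum_mul,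
    coeff_sum, sum_mul, mul_sum]
  refine sum_congr rfl fun κ _ => ?_
  simp only [Matrix.transpose_apply, Matrix.of_apply, descPochhammer_eval_eq_descFactorial,
    coeff_monomial_mul', Multiset.map_replicate, Multiset.prod_replicate, psum_one,
    coeff_sum_X_pow_of_fintype]
  by_cases h : ∀ i, κ i ≤ β i
  · have h1 : ∑ i, (β i - κ i) = n := by
      rw [sum_tsub_distrib _ fun i _ => h i, e, Equiv.sum_comp κ fun i => i.1, ρ,
        Nat.add_sub_cancel]
    rw [if_pos (show fs _ ≤ fs β from h), if_pos (by rw [Finsupp.sum_fintype _ _ (by simp)]; simpa using h1),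
      Finsupp.multinomial_eq_of_support_subset (subset_univ _), mul_left_comm, mul_assoc]
    congr 1
    rw [← h1, ← Nat.multinomial_spec]
    simp only [← Nat.factorial_mul_descFactorial (h _), prod_mul_distrib, Nat.cast_mul,
      Nat.cast_prod]
    rw [show ⇑(fs β - fs fun j => κ j) = fun i => β i - κ i from funext fun _ => by simp]
    ring
  · rw [if_neg (show ¬ fs _ ≤ fs β from h), zero_mul]
    obtain ⟨i, hi⟩ := not_forall.1 h
    rw [prod_eq_zero (mem_univ i) (by simpa using hi)]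
    simp

theorem exists_sort {β : Fin N → ℕ} (h : Function.Injective β) :
    ∃ σ : Perm (Fin N), StrictMono (β ∘ σ) :=
  ⟨Tuple.sort β, (Tuple.monotone_sort β).strictMono_of_injective (h.comp (Equiv.injective _))⟩

theorem V_one_pos {β : Fin N → ℕ} {n : ℕ} (h : StrictMono β) (e : ∑ i, β i = n + ρ N) :
    0 < V β (Multiset.replicate n 1) := by
  refine pos_of_mul_pos_left ?_ (prod_nonneg (s := univ)
    (f := fun i => ((β i).factorial : ℤ)) fun _ _ => Nat.cast_nonneg _)
  rw [V_one e]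
  exact mul_pos (by exact_mod_cast n.factorial_pos) (prod_pos fun i _ => prod_pos fun j hj =>
    sub_pos.2 (by exact_mod_cast h (mem_Ioi.1 hj)))

theorem V_one_ne_zero {β : Fin N → ℕ} {n : ℕ} (h : Function.Injective β)
    (e : ∑ i, β i = n + ρ N) : V β (Multiset.replicate n 1) ≠ 0 := fun h0 => by
  obtain ⟨σ, hσ⟩ := exists_sort h
  have := V_one_pos hσ ((Equiv.sum_comp σ β).trans e)
  simp [V_perm, h0] at this

theorem ρ_le {β : Fin N → ℕ} (h : StrictMono β) : ρ N ≤ ∑ i, β i :=
  sum_le_sum fun i _ => by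
    have := card_le_card_of_injOn (s := Iio i) (t := range (β i)) β
      (fun j hj => by simpa using h (by simpa using hj)) h.injective.injOn
    simpa using this

theorem chi_one (β : Fin N → ℕ) :
    chi β (1 : Perm α) = V β (Multiset.replicate (Fintype.card α) 1) := by
  simp [chi, Perm.parts_partition]

theorem chi_perm (β : Fin N → ℕ) (σ : Perm (Fin N)) :
    chi (α := α) (β ∘ σ) = ((Perm.sign σ : ℤ) : ℂ) • chi β := by
  ext g; simp [chi, V_perm]

theorem isIrr_chi {β : Fin N → ℕ} (h : StrictMono β) (e : ∑ i, β i = Fintype.card α + ρ N) :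
    IsIrrCharacter (Perm α) (chi β) := by
  refine (isGen_chi β).isIrr_of_classInner_self_of_apply_one (by rw [inner_chi h h e, if_pos rfl]) ?_
  simpa [chi_one] using (V_one_pos h e).le

variable (N) in
/-- Strictly increasing tuples of sum `d`. -/
noncomputable def Ω (d : ℕ) : Finset (Fin N → ℕ) := by
  classical exact (piAntidiag univ d).filter StrictMono

theorem mem_Ω {d : ℕ} {β : Fin N → ℕ} : β ∈ Ω N d ↔ ∑ i, β i = d ∧ StrictMono β := by
  simp [Ω]

theorem exists_mono (m : Multiset ℕ) (h : m.card = N) :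
    ∃ f : Fin N → ℕ, Monotone f ∧ univ.val.map f = m := by
  obtain ⟨l, rfl, hl⟩ : ∃ l : List ℕ, (l : Multiset ℕ) = m ∧ l.SortedLE :=
    ⟨m.sort, m.sort_eq _, (m.pairwise_sort _).sortedLE⟩
  obtain rfl : l.length = N := h
  exact ⟨l.get, hl.monotone_get, by simp⟩

theorem exists_chi (hN : Fintype.card α ≤ N) (χ : IrrCharacter (Perm α)) :
    ∃ β ∈ Ω N (Fintype.card α + ρ N), χ.1 = chi β := by
  let f : Ω N (Fintype.card α + ρ N) → IrrCharacter (Perm α) := fun β =>
    ⟨chi β.1, isIrr_chi (mem_Ω.1 β.2).2 (mem_Ω.1 β.2).1⟩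
  have h1 : Function.Injective f := fun β γ e => by
    have := inner_chi (α := α) (mem_Ω.1 β.2).2 (mem_Ω.1 γ.2).2 (mem_Ω.1 β.2).1
    rw [show chi (α := α) γ.1 = chi β.1 from (congrArg Subtype.val e).symm,
      inner_chi (mem_Ω.1 β.2).2 (mem_Ω.1 β.2).2 (mem_Ω.1 β.2).1, if_pos rfl] at this
    exact Subtype.ext (by simpa using this.symm)
  have h2 : ∀ g : Perm α, ∃ β : Ω N (Fintype.card α + ρ N),
      (univ.val.map fun i => β.1 i - i).filter (0 < ·) = g.partition.parts := fun g => by
    have : g.partition.parts.card ≤ N := le_trans (by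
      simpa [g.partition.parts_sum] using Multiset.card_nsmul_le_sum
        (s := g.partition.parts) (a := 1) fun _ h => g.partition.parts_pos h) hN
    obtain ⟨a, h3, h4⟩ := exists_mono (N := N) (g.partition.parts + .replicate
      (N - g.partition.parts.card) 0) (by simp [this])
    refine ⟨⟨fun i => a i + i, mem_Ω.2 ⟨?_, h3.add_strictMono Fin.val_strictMono⟩⟩, ?_⟩
    · rw [sum_add_distrib, sum_eq_multiset_sum, h4]
      simp [g.partition.parts_sum, ρ]
    · simp only [Nat.add_sub_cancel]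
      rw [h4, Multiset.filter_add, Multiset.filter_eq_self.2 fun _ h => g.partition.parts_pos h,
        Multiset.filter_eq_nil.2 fun a h => by simp [Multiset.eq_of_mem_replicate h], add_zero]
  choose F hF using h2
  have h3 : Function.Injective fun c : ConjClasses (Perm α) => F c.out := fun c d e => by
    rw [← c.out_eq, ← d.out_eq]
    exact Quotient.sound (Perm.partition_eq_of_isConj.2 (Nat.Partition.ext
      (by rw [← hF, ← hF, show F c.out = F d.out from e])))
  obtain ⟨β, rfl⟩ := (h1.bijective_of_nat_card_le (card_irr_eq_card_conjClasses.trans_le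
    (Nat.card_le_card_of_injective _ h3))).2 χ
  exact ⟨β, β.2, rfl⟩

theorem exists_parts {μ : Multiset ℕ} (h : ∀ x ∈ μ, 0 < x) (e : μ.sum = Fintype.card α) :
    ∃ g : Perm α, g.partition.parts = μ := by
  have h1 := Multiset.filter_add_not (2 ≤ ·) μ
  have h2 : μ.filter (¬ 2 ≤ ·) = .replicate (μ.filter (¬ 2 ≤ ·)).card 1 :=
    Multiset.eq_replicate_card.2 fun b hb => by
      have := Multiset.mem_filter.1 hb
      have := h b this.1
      omega
  rw [h2] at h1
  have h3 := congrArg Multiset.sum h1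
  rw [Multiset.sum_add, Multiset.sum_replicate, smul_eq_mul, mul_one, e] at h3
  obtain ⟨g, hg⟩ := (Perm.exists_with_cycleType_iff α (m := μ.filter (2 ≤ ·))).2
    ⟨by omega, fun a h => (Multiset.mem_filter.1 h).2⟩
  refine ⟨g, ?_⟩
  rw [Perm.parts_partition, ← Perm.sum_cycleType, hg, ← h3, Nat.add_sub_cancel_left, h1]

/-- The class function with coordinates `c`. -/
noncomputable def ev (d : ℕ) (c : (Fin N → ℕ) → ℂ) (μ : Multiset ℕ) : ℂ :=
  ∑ β ∈ piAntidiag univ d, c β * V β μ

/-- Alternating functions of tuples. -/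
def Alt (c : (Fin N → ℕ) → ℂ) : Prop :=
  ∀ (σ : Perm (Fin N)) β, c (β ∘ σ) = (Perm.sign σ : ℤ) * c β

/-- Removal of an `r`-cycle, in coordinates. -/
def dd (r : ℕ) (c : (Fin N → ℕ) → ℂ) (β : Fin N → ℕ) : ℂ := ∑ i, c (β + Pi.single i r)

theorem single_le {β : Fin N → ℕ} {i : Fin N} {r : ℕ} (h : r ≤ β i) : Pi.single i r ≤ β :=
  fun j => by rw [Pi.single_apply]; split_ifs with e <;> simp [*]

theorem ev_cons (d r : ℕ) (c : (Fin N → ℕ) → ℂ) (μ : Multiset ℕ) :
    ev (d + r) c (r ::ₘ μ) = ev d (dd r c) μ := by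
  simp only [ev, dd, V_cons, Int.cast_sum, mul_sum, sum_mul, apply_ite (Int.cast : ℤ → ℂ),
    Int.cast_zero, mul_ite, mul_zero]
  rw [sum_comm, sum_comm (t := univ)]
  refine sum_congr rfl fun i _ => ?_
  rw [← sum_filter]
  refine (sum_bij (fun β _ => β + Pi.single i r) (fun β h => ?_) (fun _ _ _ _ => add_right_cancel)
    (fun β h => ⟨β - Pi.single i r, ?_, ?_⟩) fun β _ => by rw [add_tsub_cancel_right]).symm
  · simpa [sum_add_distrib] using h
  · have h1 := mem_filter.1 h
    simp only [mem_piAntidiag, Pi.sub_apply] at h1 ⊢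
    rw [sum_tsub_distrib _ fun j _ => single_le h1.2 j]
    simp [h1.1.1]
  · exact tsub_add_cancel_of_le (single_le (mem_filter.1 h).2)

theorem Alt.eq_zero {c : (Fin N → ℕ) → ℂ} (hc : Alt c) {β : Fin N → ℕ}
    (h : ¬ Function.Injective β) : c β = 0 := by
  obtain ⟨i, j, e, hij⟩ := Function.not_injective_iff.1 h
  have := hc (swap i j) β
  rw [show β ∘ swap i j = β from funext fun k => by
    simp only [Function.comp, swap_apply_def]; split_ifs <;> simp_all, Perm.sign_swap hij] at this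
  simpa [CharZero.eq_neg_self_iff] using this

theorem Alt.dd {c : (Fin N → ℕ) → ℂ} (hc : Alt c) (r : ℕ) : Alt (dd r c) := fun σ β => by
  rw [Sn.dd, Sn.dd, mul_sum]
  refine Fintype.sum_equiv σ _ _ fun i => ?_
  rw [← hc]
  congr 1
  ext j
  simp [Pi.single_apply]

theorem Alt.ev_eq {c : (Fin N → ℕ) → ℂ} (hc : Alt c) (d : ℕ) (μ : Multiset ℕ) :
    ev d c μ = N.factorial * ∑ β ∈ Ω N d, c β * V β μ := by
  classical
  rw [ev, ← sum_filter_of_ne (p := Function.Injective) fun β _ h => by_contra fun h' =>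
    h (by rw [hc.eq_zero h', zero_mul]), ← sum_bij (s := Ω N d ×ˢ (univ : Finset (Perm (Fin N))))
    (f := fun x => c x.1 * V x.1 μ) (fun x _ => x.1 ∘ x.2) (fun x h => ?_) (fun x h y h' e => ?_)
    (fun β h => ?_) fun x _ => ?_, sum_product]
  · simp [mul_sum, Fintype.card_perm]
  · have := mem_Ω.1 (mem_product.1 h).1
    simpa [Equiv.sum_comp x.2 x.1, this.1] using this.2.injective
  · have h1 := (mem_Ω.1 (mem_product.1 h).1).2
    have h2 : x.1 = y.1 := (h1.range_inj (mem_Ω.1 (mem_product.1 h').1).2).1 (by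
      rw [← x.2.surjective.range_comp, e, y.2.surjective.range_comp])
    exact Prod.ext h2 (Equiv.ext fun i => h1.injective (by rw [h2]; exact h2 ▸ congrFun e i))
  · obtain ⟨σ, hσ⟩ := exists_sort (mem_filter.1 h).2
    exact ⟨(β ∘ σ, σ⁻¹), mem_product.2 ⟨mem_Ω.2 ⟨(Equiv.sum_comp σ β).trans
      (mem_piAntidiag.1 (mem_filter.1 h).1).1, hσ⟩, mem_univ _⟩, by ext; simp⟩
  · rw [hc, V_perm]
    rcases Int.units_eq_one_or (Perm.sign x.2) with h | h <;> simp [h]

theorem Alt.li {c : (Fin N → ℕ) → ℂ} (hc : Alt c) {d : ℕ}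
    (h : ∀ μ : Multiset ℕ, (∀ x ∈ μ, 0 < x) → μ.sum + ρ N = d → ev d c μ = 0) {β : Fin N → ℕ}
    (e : ∑ i, β i = d) : c β = 0 := by
  by_contra h0
  obtain ⟨σ, hσ⟩ := exists_sort (by_contra fun h' => h0 (hc.eq_zero h') : Function.Injective β)
  rw [← Equiv.sum_comp σ] at e
  obtain ⟨m, hm⟩ := Nat.exists_eq_add_of_le' ((ρ_le hσ).trans_eq e)
  have h1 : ∑ γ ∈ Ω N d, c γ • chi (α := Fin m) γ = 0 := funext fun g => by
    have := h _ (fun _ h => g.partition.parts_pos h) (by simp [g.partition.parts_sum, hm])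
    simpa [hc.ev_eq, N.factorial_ne_zero, chi] using this
  have h2 := congrArg (classInner · (chi (β ∘ σ))) h1
  simp only [classInner_sum_left, classInner_smul_left, classInner_zero_left] at h2
  rw [sum_congr rfl fun γ hγ => by
    rw [inner_chi (mem_Ω.1 hγ).2 hσ (by simp [(mem_Ω.1 hγ).1, hm])]] at h2
  simp [mem_Ω, hσ, hc σ β, h0] at h2
  exact h2 e

/-- The irreducible characters whose labels satisfy `P`. -/
def US (α : Type*) [Fintype α] [DecidableEq α] (P : (Fin N → ℕ) → Prop) :
    Set (IrrCharacter (Perm α)) := {χ | ∃ β ∈ Ω N (Fintype.card α + ρ N), P β ∧ χ.1 = chi β}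

theorem alt_inner (θ : Perm α → ℂ) {P : (Fin N → ℕ) → Prop} [DecidablePred P]
    (hP : ∀ (σ : Perm (Fin N)) β, P (β ∘ σ) ↔ P β) :
    Alt fun β => if P β then classInner θ (chi β) else 0 := fun σ β => by
  simp only [hP, chi_perm, classInner_smul_right, map_intCast, mul_ite, mul_zero]

theorem sum_US {P : (Fin N → ℕ) → Prop} [DecidablePred P] [DecidablePred (· ∈ US α P)]
    (f : (Perm α → ℂ) → ℂ) : (∑ χ : IrrCharacter (Perm α), if χ ∈ US α P then f χ.1 else 0) =
      ∑ β ∈ Ω N (Fintype.card α + ρ N), if P β then f (chi β) else 0 := by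
  rw [← sum_filter, ← sum_filter]
  refine (sum_bij (fun β h => ⟨chi β, isIrr_chi (mem_Ω.1 (mem_filter.1 h).1).2
    (mem_Ω.1 (mem_filter.1 h).1).1⟩) (fun β h => mem_filter.2 ⟨mem_univ _, β, (mem_filter.1 h).1,
      (mem_filter.1 h).2, rfl⟩) (fun β h γ h' e => ?_) (fun χ h => ?_) fun _ _ => rfl).symm
  · have h1 := mem_Ω.1 (mem_filter.1 h).1
    have := inner_chi (α := α) h1.2 (mem_Ω.1 (mem_filter.1 h').1).2 h1.1
    rw [show chi (α := α) γ = chi β from (congrArg Subtype.val e).symm,
      inner_chi h1.2 h1.2 h1.1, if_pos rfl] at this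
    simpa using this.symm
  · obtain ⟨β, h1, h2, h3⟩ := (mem_filter.1 h).2
    exact ⟨β, mem_filter.2 ⟨h1, h2⟩, Subtype.ext h3.symm⟩

theorem US_true (hN : Fintype.card α ≤ N) : US α (fun _ : Fin N → ℕ => True) = Set.univ :=
  Set.eq_univ_of_forall fun χ => (exists_chi hN χ).imp fun _ h => ⟨h.1, trivial, h.2⟩

theorem mem_US {P : (Fin N → ℕ) → Prop} (hP : ∀ (σ : Perm (Fin N)) β, P (β ∘ σ) ↔ P β)
    {β : Fin N → ℕ} (h : Function.Injective β) (e : ∑ i, β i = Fintype.card α + ρ N) (hβ : P β) :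
    ∃ χ ∈ US α P, ∃ ε : ℤˣ, χ.1 = ((ε : ℤ) : ℂ) • chi β := by
  obtain ⟨σ, hσ⟩ := exists_sort h
  have e' := (Equiv.sum_comp σ β).trans e
  exact ⟨⟨_, isIrr_chi hσ e'⟩, ⟨_, mem_Ω.2 ⟨e', hσ⟩, (hP σ β).2 hβ, rfl⟩, _, chi_perm β σ⟩

end H7.Sn
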