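import Cfsg.Agent.H7.Sn1
/-! The abacus: `Sn.cr p β` (core), `Sn.wt p β` (weight), `Sn.ty p β` (beads per runner),
`V_path` (stripping `p`-cycles), the `p`-part of the degree `V_val`, the vacuum lemma
`Alt.vac` and the count `card_vac`. -/
open Finset Equiv
namespace H7.Sn
variable {N p : ℕ} {β γ : Fin N → ℕ}

/-- Number of beads above `i` on its runner. -/
def rk (p : ℕ) (β : Fin N → ℕ) (i : Fin N) : ℕ := #{j | β j % p = β i % p ∧ β j < β i}
/-- The core. -/
def cr (p : ℕ) (β : Fin N → ℕ) (i : Fin N) : ℕ := β i % p + p * rk p β i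
/-- Number of beads on runner `r`. -/
def ty (p : ℕ) (β : Fin N → ℕ) (r : ℕ) : ℕ := #{i | β i % p = r}
/-- The gaps above `i` on its runner. -/
def gap (p : ℕ) (β : Fin N → ℕ) (i : Fin N) : Finset ℕ :=
  {c ∈ range (β i) | c % p = β i % p ∧ ∀ j, β j ≠ c}
/-- The weight. -/
def wt (p : ℕ) (β : Fin N → ℕ) : ℕ := ∑ i, #(gap p β i)

theorem mem_gap {i : Fin N} {c : ℕ} :
    c ∈ gap p β i ↔ c < β i ∧ c % p = β i % p ∧ ∀ j, β j ≠ c := by simp [gap]

theorem ty_perm (β : Fin N → ℕ) (σ : Perm (Fin N)) : ty p (β ∘ σ) = ty p β :=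
  funext fun r => card_fibre_comp (fun i => β i % p) σ r

theorem gap_perm (β : Fin N → ℕ) (σ : Perm (Fin N)) (i : Fin N) :
    gap p (β ∘ σ) i = gap p β (σ i) := by
  ext c; simp [mem_gap, σ.surjective.forall (p := fun j => β j ≠ c)]

theorem exists_eq_add {a b : ℕ} (h : a % p = b % p) (h' : a ≤ b) : ∃ k, b = a + p * k := by
  obtain ⟨k, hk⟩ := (Nat.modEq_iff_dvd' h').1 h
  exact ⟨k, by omega⟩

theorem add_le_of_mod {a b : ℕ} (h : a % p = b % p) (h' : a < b) : a + p ≤ b := by
  obtain ⟨_ | k, rfl⟩ := exists_eq_add h h'.le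
  · simp at h'
  · simp [mul_add]

theorem rk_lt_rk {i j : Fin N} (h : β i % p = β j % p) (h' : β i < β j) : rk p β i < rk p β j :=
  card_lt_card ((ssubset_iff_of_subset fun k => by
    simp only [mem_filter, mem_univ, true_and]; omega).2
    ⟨i, by simp [*]⟩)

theorem rk_lt_ty (i : Fin N) : rk p β i < ty p β (β i % p) :=
  card_lt_card ((ssubset_iff_of_subset fun k => by simp +contextual).2 ⟨i, by simp⟩)

variable (hp : 0 < p) (hβ : Function.Injective β)
include hp

theorem cr_mod (i : Fin N) : cr p β i % p = β i % p := by simp [cr]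

theorem cr_div (i : Fin N) : cr p β i / p = rk p β i := by
  rw [cr, Nat.add_mul_div_left _ _ hp, Nat.div_eq_of_lt (Nat.mod_lt _ hp), zero_add]

include hβ

theorem card_gap (i : Fin N) : #(gap p β i) + rk p β i = β i / p := by
  have h1 : {c ∈ range (β i) | c % p = β i % p} =
      (range (β i / p)).image fun q => β i % p + p * q := by
    ext c
    simp only [mem_filter, mem_range, mem_image]
    refine ⟨fun h => ⟨c / p, ?_, by rw [← h.2, Nat.mod_add_div]⟩, ?_⟩
    · have := Nat.div_le_div_right (c := p) (add_le_of_mod h.2 h.1)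
      rwa [Nat.add_div_right _ hp] at this
    · rintro ⟨q, h, rfl⟩
      refine ⟨?_, by simp⟩
      conv_rhs => rw [← Nat.mod_add_div (β i) p]
      gcongr
  have h2 := congrArg card h1
  rw [card_image_of_injective _ fun a b e => by simpa [hp.ne'] using e, card_range,
    ← card_filter_add_card_filter_not (∀ j, β j ≠ ·), filter_filter] at h2
  rw [← h2, rk, ← card_image_of_injective _ hβ]
  congr 2
  ext c
  simp only [mem_image, mem_filter, mem_univ, mem_range, true_and, not_forall, not_not]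
  exact ⟨by rintro ⟨j, h, rfl⟩; exact ⟨h.symm, j, rfl⟩, by rintro ⟨h, j, rfl⟩; exact ⟨j, h.symm, rfl⟩⟩

theorem cr_add (i : Fin N) : cr p β i + p * #(gap p β i) = β i := by
  rw [cr, add_assoc, ← mul_add, add_comm (rk _ _ _), card_gap hp hβ, Nat.mod_add_div]

theorem sum_cr : ∑ i, cr p β i + p * wt p β = ∑ i, β i := by
  simp [wt, mul_sum, ← sum_add_distrib, cr_add hp hβ]

omit hp in
theorem rk_inj {i j : Fin N} (h : β i % p = β j % p) (h' : rk p β i = rk p β j) : i = j :=
  hβ (le_antisymm (not_lt.1 fun e => (rk_lt_rk h.symm e).ne' h') (not_lt.1 fun e =>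
    (rk_lt_rk h e).ne h'))

theorem cr_inj : Function.Injective (cr p β) := fun i j e =>
  rk_inj (p := p) hβ (by rw [← cr_mod hp, e, cr_mod hp]) (by rw [← cr_div hp, e, cr_div hp])

omit hp in
theorem exists_rk {r k : ℕ} (h : k < ty p β r) : ∃ i, β i % p = r ∧ rk p β i = k := by
  obtain ⟨i, hi, e⟩ := surj_on_of_inj_on_of_card_le (s := {i | β i % p = r}) (t := range (ty p β r))
    (fun i _ => rk p β i) (fun i hi => by simpa [← (mem_filter.1 hi).2] using rk_lt_ty i)
    (fun i j hi hj e => rk_inj hβ ((mem_filter.1 hi).2.trans (mem_filter.1 hj).2.symm) e)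
    (by simp [ty]) k (mem_range.2 h)
  exact ⟨i, (mem_filter.1 hi).2, e.symm⟩

theorem mem_range_cr {x : ℕ} : x ∈ Set.range (cr p β) ↔ x / p < ty p β (x % p) := by
  refine ⟨?_, fun h => ?_⟩
  · rintro ⟨i, rfl⟩
    rw [cr_div hp, cr_mod hp]
    exact rk_lt_ty i
  · obtain ⟨i, h1, h2⟩ := exists_rk hβ h
    exact ⟨i, by rw [cr, h1, h2, Nat.mod_add_div]⟩

theorem exists_cr_perm (hγ : Function.Injective γ) (e : ty p γ = ty p β) :
    ∃ σ : Perm (Fin N), cr p γ = cr p β ∘ σ := by
  have : Set.range (cr p γ) = Set.range (cr p β) := by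
    ext x; rw [mem_range_cr hp hβ, mem_range_cr hp hγ, e]
  refine ⟨(Equiv.ofInjective _ (cr_inj hp hγ)).trans ((Equiv.setCongr this).trans
    (Equiv.ofInjective _ (cr_inj hp hβ)).symm), funext fun i => ?_⟩
  simp [Equiv.apply_ofInjective_symm]

theorem wt_eq (hγ : Function.Injective γ) (e : ty p γ = ty p β) (e' : ∑ i, γ i = ∑ i, β i) :
    wt p γ = wt p β := by
  obtain ⟨σ, h⟩ := exists_cr_perm hp hβ hγ e
  rw [← sum_cr hp hβ, ← sum_cr hp hγ, h] at e'
  simpa [Equiv.sum_comp σ (cr p β), hp.ne'] using e'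

omit hp hβ in
theorem cr_congr (h1 : ∀ i, γ i % p = β i % p)
    (h2 : ∀ i j, β i % p = β j % p → (γ i < γ j ↔ β i < β j)) : cr p γ = cr p β := by
  ext i
  simp only [cr, rk, h1]
  rw [filter_congr fun j _ => and_congr_right (h2 j i)]

/-- Cores. -/
structure Core (p : ℕ) (κ : Fin N → ℕ) : Prop where
  inj : Function.Injective κ
  cl : ∀ i y, y % p = κ i % p → y ≤ κ i → ∃ j, κ j = y

theorem core_cr : Core p (cr p β) := ⟨cr_inj hp hβ, fun i y h1 h2 => (mem_range_cr hp hβ).2 (h1 ▸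
  (Nat.div_le_div_right h2).trans_lt ((mem_range_cr hp hβ).1 ⟨i, rfl⟩))⟩

omit hβ in
theorem Core.V_cons {κ : Fin N → ℕ} (h : Core p κ) {r : ℕ} (h0 : 0 < r) (hr : p ∣ r)
    (μ : Multiset ℕ) : V κ (r ::ₘ μ) = 0 := by
  rw [Sn.V_cons]
  refine sum_eq_zero fun i _ => ite_eq_right_iff.2 fun hi => V_eq_zero (fun e => ?_) _
  obtain ⟨j, hj⟩ := h.cl i (κ i - r) ((Nat.modEq_iff_dvd' (Nat.sub_le _ _)).2 (by
    rwa [Nat.sub_sub_self hi])) (Nat.sub_le _ _)
  have : j ≠ i := fun e => by rw [e] at hj; omega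
  exact this (e (by simp [this, hj]))

theorem cr_step {i : Fin N} (h : p ≤ β i) (h' : Function.Injective (β - Pi.single i p)) :
    cr p (β - Pi.single i p) = cr p β ∧ wt p (β - Pi.single i p) + 1 = wt p β := by
  have h1 : cr p (β - Pi.single i p) = cr p β := by
    refine cr_congr (fun j => ?_) fun j k e => ?_
    · rw [Pi.sub_apply, Pi.single_apply]
      split_ifs with e
      · rw [e, ← Nat.mod_eq_sub_mod h]
      · rfl
    · have h2 := h'.ne_iff (x := j) (y := k)
      have h3 := hβ.ne_iff (x := j) (y := k)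
      have h4 := add_le_of_mod e
      have h5 := add_le_of_mod e.symm
      simp only [Pi.sub_apply, Pi.single_apply] at h2 ⊢
      by_cases h6 : j = k
      · simp [h6]
      · have := h2.2 h6
        have := h3.2 h6
        split_ifs at * with a b b
        · exact absurd (a.trans b.symm) h6
        · subst a; omega
        · subst b; omega
        · omega
  refine ⟨h1, Nat.eq_of_mul_eq_mul_left hp ?_⟩
  have h2 := sum_cr hp h'
  have h3 := sum_cr hp hβ
  have h4 : p ≤ ∑ j, β j := h.trans (single_le_sum (fun _ _ => Nat.zero_le _) (mem_univ i))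
  simp only [h1, Pi.sub_apply] at h2
  rw [sum_tsub_distrib _ fun j _ => single_le h j, sum_pi_single', if_pos (mem_univ _)] at h2
  rw [mul_add]
  omega

theorem exists_step (h : wt p β ≠ 0) :
    ∃ i, p ≤ β i ∧ Function.Injective (β - Pi.single i p) := by
  obtain ⟨i, hi, hm⟩ := exists_min_image {i | gap p β i ≠ ∅} β (by
    obtain ⟨i, -, hi⟩ := exists_ne_zero_of_sum_ne_zero h
    exact ⟨i, by simpa using hi⟩)
  obtain ⟨c, hc⟩ := nonempty_iff_ne_empty.2 (mem_filter.1 hi).2
  obtain ⟨h1, h2, h3⟩ := mem_gap.1 hc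
  have h4 := add_le_of_mod h2 h1
  have h5 : ∀ j, β j ≠ β i - p := fun j e => by
    have := h3 j
    have := hm j (mem_filter.2 ⟨mem_univ _, ne_empty_of_mem (mem_gap.2 ⟨by omega, by
      rw [h2, e, ← Nat.mod_eq_sub_mod (by omega)], h3⟩)⟩)
    omega
  refine ⟨i, by omega, fun j k e => ?_⟩
  simp only [Pi.sub_apply, Pi.single_apply] at e
  split_ifs at e with a b b
  · rw [a, b]
  · exact absurd (a ▸ e.symm) (h5 k)
  · exact absurd (b ▸ e) (h5 j)
  · exact hβ e

theorem V_path : ∃ π : ℕ, 0 < π ∧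
    ∀ μ, V β (Multiset.replicate (wt p β) p + μ) = π * V (cr p β) μ := by
  induction' hw : wt p β with w ih generalizing β
  · refine ⟨1, one_pos, fun μ => ?_⟩
    rw [show cr p β = β from funext fun i => by
      simpa [sum_eq_zero_iff.1 hw i (mem_univ _)] using cr_add hp hβ i]
    simp
  have : ∀ i, ∃ π : ℕ, (p ≤ β i ∧ Function.Injective (β - Pi.single i p) → 0 < π) ∧
      ∀ μ, (if p ≤ β i then V (β - Pi.single i p) (Multiset.replicate w p + μ) else 0) =
        π * V (cr p β) μ := fun i => by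
    by_cases h : p ≤ β i ∧ Function.Injective (β - Pi.single i p)
    · obtain ⟨h1, h2⟩ := cr_step hp hβ h.1 h.2
      obtain ⟨π, h3, h4⟩ := ih h.2 (by omega)
      exact ⟨π, fun _ => h3, fun μ => by rw [if_pos h.1, h4, h1]⟩
    · exact ⟨0, fun h' => absurd h' h, fun μ => by
        simpa using fun h' => V_eq_zero (fun e => h ⟨h', e⟩) _⟩
  choose π h1 h2 using this
  obtain ⟨i, hi⟩ := exists_step hp hβ (by omega)
  exact ⟨∑ i, π i, (h1 i hi).trans_le (single_le_sum (fun _ _ => Nat.zero_le _) (mem_univ i)),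
    fun μ => by simp [Multiset.replicate_succ, V_cons, h2, sum_mul]⟩

omit hp in
theorem V_hook {n : ℕ} (e : ∑ i, β i = n + ρ N) : (V β (Multiset.replicate n 1)).natAbs *
    ∏ i, ∏ c ∈ range (β i) \ image β univ, (β i - c) = n.factorial := by
  wlog h : StrictMono β generalizing β
  · obtain ⟨σ, hσ⟩ := exists_sort hβ
    rw [← this hσ.injective ((Equiv.sum_comp σ β).trans e) hσ, V_perm, Int.natAbs_mul,
      Int.units_natAbs, one_mul, ← image_image, image_univ_equiv, ← Equiv.prod_comp σ]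
    rfl
  have h1 := V_one e
  have h2 : ∀ i, (β i).factorial = (∏ c ∈ range (β i) \ image β univ, (β i - c)) *
      ∏ j ∈ Iio i, (β i - β j) := fun i => by
    rw [← Nat.descFactorial_self, Nat.descFactorial_eq_prod_range,
      ← prod_sdiff (inter_subset_left (s₂ := image β univ)), sdiff_inter_self_left,
      ← prod_image (f := fun c => β i - c) fun _ _ _ _ e => hβ e]
    congr 2
    ext c
    simp only [mem_inter, mem_range, mem_image, mem_univ, true_and, mem_Iio]
    exact ⟨by rintro ⟨h1, j, rfl⟩; exact ⟨j, h.lt_iff_lt.1 h1, rfl⟩,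
      by rintro ⟨j, h1, rfl⟩; exact ⟨h h1, j, rfl⟩⟩
  rw [prod_comm' (t' := univ) (s' := Iio) (by simp), prod_congr rfl fun i _ => prod_congr rfl
    fun j hj => (Nat.cast_sub (h (mem_Iio.1 hj)).le).symm] at h1
  simp only [h2, prod_mul_distrib, Nat.cast_mul, Nat.cast_prod, ← mul_assoc] at h1
  have h4 : ∏ i, ∏ j ∈ Iio i, ((β i - β j : ℕ) : ℤ) ≠ 0 := prod_ne_zero_iff.2 fun i _ =>
    prod_ne_zero_iff.2 fun j hj => Nat.cast_ne_zero.2 (Nat.sub_ne_zero_of_lt (h (mem_Iio.1 hj)))
  have h3 := congrArg Int.natAbs (mul_right_cancel₀ h4 h1)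
  simp only [← Nat.cast_prod] at h3
  rwa [Int.natAbs_mul, Int.natAbs_natCast, Int.natAbs_natCast] at h3

omit hp in
theorem V_val {n : ℕ} (e : ∑ i, β i = n + ρ N) :
    (V β (Multiset.replicate n 1)).natAbs.factorization p +
      ∑ i, ∑ c ∈ gap p β i, (β i - c).factorization p = n.factorial.factorization p := by
  have h0 : ∀ i, ∀ c ∈ range (β i) \ image β univ, β i - c ≠ 0 := fun i c h =>
    Nat.sub_ne_zero_of_lt (mem_range.1 (mem_sdiff.1 h).1)
  rw [← V_hook hβ e, Nat.factorization_mul (Int.natAbs_ne_zero.2 (V_one_ne_zero hβ e))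
    (prod_ne_zero_iff.2 fun i _ => prod_ne_zero_iff.2 (h0 i)), Finsupp.add_apply,
    Nat.factorization_prod_apply fun i _ => prod_ne_zero_iff.2 (h0 i)]
  refine congrArg _ (sum_congr rfl fun i _ => ?_)
  rw [Nat.factorization_prod_apply (h0 i)]
  refine sum_subset (fun c h => by simpa using ⟨(mem_gap.1 h).1, (mem_gap.1 h).2.2⟩)
    fun c h h' => Nat.factorization_eq_zero_of_not_dvd fun e => h' ?_
  simp only [mem_sdiff, mem_range, mem_image, mem_univ, true_and, not_exists] at h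
  exact mem_gap.2 ⟨h.1, (Nat.modEq_iff_dvd' h.1.le).2 e, h.2⟩

omit hp hβ in
theorem wt_le (hp : p.Prime) : wt p β ≤ ∑ i, ∑ c ∈ gap p β i, (β i - c).factorization p :=
  sum_le_sum fun i _ => (card_eq_sum_ones _).trans_le (sum_le_sum fun c h =>
    (hp.dvd_iff_one_le_factorization (Nat.sub_ne_zero_of_lt (mem_gap.1 h).1)).1
      ((Nat.modEq_iff_dvd' (mem_gap.1 h).1.le).1 (mem_gap.1 h).2.1))

omit hp hβ

/-- `i` is the last bead of its runner. -/
def Top (p : ℕ) (κ : Fin N → ℕ) (i : Fin N) : Prop := ∀ j, κ j % p = κ i % p → κ j ≤ κ i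

section top
variable {κ a : Fin N → ℕ} (hκ : Core p κ) (ha : ∀ i, a i ≠ 0 → Top p κ i)
include hκ ha

theorem top_lt {i j : Fin N} (e : κ i % p = κ j % p) (h : κ i < κ j) :
    κ i + p * a i < κ j + p * a j := by
  rw [show a i = 0 from by_contra fun h' => (ha i h' j e.symm).not_gt h]
  omega

theorem top_inj : Function.Injective fun i => κ i + p * a i := fun i j e => by
  have h : κ i % p = κ j % p := by simpa using congrArg (· % p) e
  exact hκ.inj (le_antisymm (not_lt.1 fun h' => (top_lt hκ ha h.symm h').ne' e)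
    (not_lt.1 fun h' => (top_lt hκ ha h h').ne e))

theorem top_cr : cr p (fun i => κ i + p * a i) = cr p κ :=
  cr_congr (by simp) fun i j e => ⟨fun h => by_contra fun h' => by
    rcases (not_lt.1 h').eq_or_lt with h' | h'
    · simp [hκ.inj h'] at h
    · exact (top_lt hκ ha e.symm h').not_gt h, top_lt hκ ha e⟩

theorem top_gap (hp : 0 < p) (i : Fin N) : gap p (fun i => κ i + p * a i) i =
    (range (a i)).image fun k => κ i + p * k := by
  ext c
  simp only [mem_gap, mem_image, mem_range, Nat.add_mul_mod_self_left]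
  refine ⟨fun ⟨h1, h2, h3⟩ => ?_, ?_⟩
  · rcases lt_or_ge c (κ i) with h | h
    · obtain ⟨j, rfl⟩ := hκ.cl i c h2 h.le
      exact absurd (by rw [show a j = 0 from by_contra fun h' => (ha j h' i h2.symm).not_gt h]; rfl)
        (h3 j)
    · obtain ⟨k, rfl⟩ := exists_eq_add h2.symm h
      exact ⟨k, by simpa [hp] using h1, rfl⟩
  · rintro ⟨k, h, rfl⟩
    refine ⟨by simpa [hp], by simp, fun j e => ?_⟩
    have h1 : κ j % p = κ i % p := by simpa using congrArg (· % p) e
    rcases (ha i (by omega) j h1).eq_or_lt with h2 | h2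
    · rw [hκ.inj h2] at e
      simp [hp.ne', h.ne'] at e
    · rw [show a j = 0 from by_contra fun h' => (ha j h' i h1.symm).not_gt h2] at e
      omega

theorem top_wt (hp : 0 < p) : wt p (fun i => κ i + p * a i) = ∑ i, a i :=
  sum_congr rfl fun i _ => by
    rw [top_gap hκ ha hp, card_image_of_injective _ fun _ _ e => by simpa [hp.ne'] using e,
      card_range]

theorem top_val (hp : p.Prime) : ∑ i, ∑ c ∈ gap p (fun i => κ i + p * a i) i,
    (κ i + p * a i - c).factorization p = ∑ i, (a i + (a i).factorial.factorization p) :=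
  sum_congr rfl fun i _ => by
    rw [top_gap hκ ha hp.pos, sum_image fun _ _ _ _ e => by simpa [hp.ne_zero] using e,
      ← Nat.descFactorial_self, Nat.descFactorial_eq_prod_range, Nat.factorization_prod_apply
      fun k h => Nat.sub_ne_zero_of_lt (mem_range.1 h)]
    conv_rhs => enter [1]; rw [← card_range (a i), card_eq_sum_ones]
    rw [← sum_add_distrib]
    refine sum_congr rfl fun k h => ?_
    rw [Nat.add_sub_add_left, ← Nat.mul_sub, Nat.factorization_mul hp.ne_zero
      (Nat.sub_ne_zero_of_lt (mem_range.1 h)), Finsupp.add_apply, hp.factorization_self]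

end top

theorem Core.cr {κ : Fin N → ℕ} (hκ : Core p κ) (hp : 0 < p) : cr p κ = κ := funext fun i => by
  have := top_gap hκ (a := 0) (by simp) hp i
  simp only [Pi.zero_apply, mul_zero, add_zero, range_zero, image_empty] at this
  simpa [this] using cr_add hp hκ.inj i

theorem V_four {κ a : Fin N → ℕ} (hκ : Core 2 κ) (ha : ∀ i, a i ≠ 0 → Top 2 κ i) {i : Fin N}
    (hi : 2 ≤ a i) : ∃ π : ℕ, 0 < π ∧ ∀ μ, V (fun i => κ i + 2 * a i)
      (4 ::ₘ (Multiset.replicate (∑ i, a i - 2) 2 + μ)) = π * V κ μ := by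
  have : ∀ i, ∃ π : ℕ, (2 ≤ a i → 0 < π) ∧ ∀ μ, (if 4 ≤ κ i + 2 * a i then
      V ((fun i => κ i + 2 * a i) - Pi.single i 4) (Multiset.replicate (∑ i, a i - 2) 2 + μ)
      else 0) = π * V κ μ := fun i => by
    by_cases h : 2 ≤ a i
    · have h1 : ∀ j, (a - Pi.single i 2 : Fin N → ℕ) j ≠ 0 → Top 2 κ j := fun j hj =>
        ha j fun e => hj (by simp [e])
      obtain ⟨π, h2, h3⟩ := V_path two_pos (top_inj hκ h1)
      rw [top_wt hκ h1 two_pos, top_cr hκ h1, hκ.cr two_pos] at h3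
      simp only [Pi.sub_apply] at h3
      rw [sum_tsub_distrib _ fun j _ => single_le h j, sum_pi_single', if_pos (mem_univ _)] at h3
      refine ⟨π, fun _ => h2, fun μ => ?_⟩
      rw [if_pos (by omega), ← h3]
      congr 1
      ext j
      simp only [Pi.sub_apply, Pi.single_apply]
      split_ifs with e
      · subst e; omega
      · rfl
    · refine ⟨0, fun h' => absurd h' h, fun μ => ?_⟩
      rw [Nat.cast_zero, zero_mul, ite_eq_right_iff]
      refine fun h1 => V_eq_zero (fun e => ?_) _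
      obtain ⟨j, hj⟩ := hκ.cl i (κ i + 2 * a i - 4) (by omega) (by omega)
      have h2 : j ≠ i := fun e => by rw [e] at hj; omega
      have h3 : a j = 0 := by_contra fun h' => by have := ha j h' i; omega
      exact h2 (e (by simp [h2, h3, hj]))
  choose π h1 h2 using this
  exact ⟨∑ i, π i, (h1 i hi).trans_le (single_le_sum (fun _ _ => Nat.zero_le _) (mem_univ i)),
    fun μ => by simp [V_cons, h2, sum_mul]⟩

theorem hook {κ : Fin N → ℕ} (hκ : Core 2 κ) {i j : Fin N} (hi : Top 2 κ i) (hj : κ j + 2 = κ i)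
    {w : ℕ} (hw : w % 4 = 3) : Function.Injective (κ + Pi.single j (2 * w)) ∧
    ∑ k, ∑ c ∈ gap 2 (κ + Pi.single j (2 * w)) k, ((κ + Pi.single j (2 * w) : Fin N → ℕ) k -
      c).factorization 2 + 1 = w + w.factorial.factorization 2 := by
  have hij : i ≠ j := fun e => by rw [e] at hj; omega
  have h0 : ∀ k, (κ + Pi.single j (2 * w) : Fin N → ℕ) k = if k = j then κ j + 2 * w else κ k :=
    fun k => by rw [Pi.add_apply, Pi.single_apply]; split_ifs with e <;> simp [e]
  refine ⟨fun k l e => ?_, ?_⟩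
  · rw [h0, h0] at e
    have := hi k
    have := hi l
    split_ifs at e with a b b
    · rw [a, b]
    · omega
    · omega
    · exact hκ.inj e
  have h1 : ∀ k, k ≠ j → gap 2 (κ + Pi.single j (2 * w)) k = if k = i then {κ j} else ∅ :=
    fun k hk => by
    ext c
    simp only [mem_gap, h0, if_neg hk]
    refine ⟨fun ⟨h1, h2, h3⟩ => ?_, fun h => ?_⟩
    · obtain ⟨l, rfl⟩ := hκ.cl k c h2 h1.le
      obtain rfl : l = j := by_contra fun h => h3 l (if_neg h)
      have := hi k
      simp [hκ.inj (show κ k = κ i by omega)]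
    · split_ifs at h with e
      · rw [mem_singleton.1 h, e]
        refine ⟨by omega, by omega, fun l => ?_⟩
        split_ifs with e'
        · omega
        · exact fun h => e' (hκ.inj h)
      · simp at h
  have h2 : gap 2 (κ + Pi.single j (2 * w)) j =
      ((range w).erase 1).image fun k => κ j + 2 * k := by
    ext c
    simp only [mem_gap, h0, if_true, mem_image, mem_erase, mem_range]
    refine ⟨fun ⟨h1, h2, h3⟩ => ?_, ?_⟩
    · rcases lt_or_ge c (κ j) with h | h
      · obtain ⟨l, rfl⟩ := hκ.cl j c (by omega) h.le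
        exact absurd (if_neg fun e => by simp [e] at h) (h3 l)
      · have := h3 i
        rw [if_neg hij] at this
        exact ⟨(c - κ j) / 2, by omega, by omega⟩
    · rintro ⟨k, h, rfl⟩
      refine ⟨by omega, by omega, fun l => ?_⟩
      have := hi l
      have := hκ.inj.ne_iff (x := l) (y := j)
      split_ifs with e
      · omega
      · have := this.2 e; omega
  have h3 : (2 * (w - 1)).factorization 2 = 2 := by
    rw [show 2 * (w - 1) = 2 ^ 2 * (2 * (w / 4) + 1) by omega, Nat.factorization_mul (by simp)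
      (by simp), Finsupp.add_apply, Nat.prime_two.factorization_pow, Finsupp.single_eq_same,
      Nat.factorization_eq_zero_of_not_dvd (by omega)]
  have h4 := top_val (N := 1) (p := 2) (κ := 0) (a := fun _ => w)
    ⟨fun _ _ _ => Subsingleton.elim _ _, fun _ y _ h => ⟨0, by simpa using h.antisymm' (by simp)⟩⟩
    (fun _ _ _ _ => le_rfl) Nat.prime_two
  rw [Fin.sum_univ_one, Fin.sum_univ_one, top_gap ⟨fun _ _ _ => Subsingleton.elim _ _,
    fun _ y _ h => ⟨0, by simpa using h.antisymm' (by simp)⟩⟩ (fun _ _ _ _ => le_rfl) two_pos,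
    sum_image fun _ _ _ _ e => by simpa using e,
    ← sum_erase_add _ _ (mem_range.2 (show 1 < w by omega))] at h4
  rw [← sum_erase_add _ _ (mem_univ j), sum_eq_single i (fun k h h' => by
    rw [h1 k (mem_erase.1 h).1, if_neg h', sum_empty]) (by simp [hij]), h1 i hij, if_pos rfl,
    sum_singleton, h2, sum_image fun _ _ _ _ e => by simpa using e, h0, h0, if_neg hij, if_pos rfl,
    ← h4, ← hj]
  simp only [Pi.zero_apply, zero_add, Nat.add_sub_add_left, Nat.add_sub_cancel_left,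
    Nat.prime_two.factorization_self, ← Nat.mul_sub, h3]
  omega

theorem ρ_le' (hβ : Function.Injective β) : ρ N ≤ ∑ i, β i := by
  obtain ⟨σ, hσ⟩ := exists_sort hβ
  exact (ρ_le hσ).trans_eq (Equiv.sum_comp σ β)

/-- Runner `0` has no gaps. -/
def Vac (p : ℕ) (β : Fin N → ℕ) : Prop := ∀ i, β i % p = 0 → gap p β i = ∅

theorem Alt.vac (hp : 0 < p) {c : (Fin N → ℕ) → ℂ} (hc : Alt c) {d : ℕ}
    (h1 : ∀ k β, 0 < k → ∑ i, β i + p * k = d → Sn.dd (p * k) c β = 0)
    (h2 : ∀ β ∈ Ω N d, Vac p β → c β = 0) (e : ∑ i, β i = d) : c β = 0 := by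
  induction' hw : ∑ i : {i // β i % p = 0}, β i / p using Nat.strong_induction_on with w ih
    generalizing β
  by_contra h0
  have hβ : Function.Injective β := by_contra fun h => h0 (hc.eq_zero h)
  set m := Fintype.card {i // β i % p = 0}
  let f : Fin m ≃ {i // β i % p = 0} := (Fintype.equivFin _).symm
  let x : (Fin m → ℕ) → Fin N → ℕ := fun γ i =>
    if h : β i % p = 0 then p * γ (f.symm ⟨i, h⟩) else β i
  have x1 : ∀ γ j, x γ (f j) = p * γ j := fun γ j => (dif_pos (f j).2).trans (by simp)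
  have x2 : ∀ γ i, β i % p ≠ 0 → x γ i = β i := fun γ i h => dif_neg h
  clear_value x
  have x0 : ∀ {γ δ : Fin N → ℕ}, (∀ j, γ (f j) = δ (f j)) → (∀ i, β i % p ≠ 0 → γ i = δ i) →
      γ = δ := fun h h' => funext fun i => by
    by_cases e : β i % p = 0
    · simpa using h (f.symm ⟨i, e⟩)
    · exact h' i e
  have x3 : ∀ γ : Fin N → ℕ, ∑ i, γ i = ∑ j, γ (f j) + ∑ i : {i // ¬ β i % p = 0}, γ i :=
    fun γ => by rw [← Fintype.sum_subtype_add_sum_subtype (fun i => β i % p = 0) γ,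
      ← f.sum_comp fun i => γ i]
  have x4 : x (fun j => β (f j) / p) = β := x0 (fun j =>
    (x1 _ j).trans (Nat.mul_div_cancel' (Nat.dvd_of_mod_eq_zero (f j).2))) (x2 _)
  rw [← f.sum_comp fun i => β i / p] at hw
  by_cases hρ : w = ρ m
  · obtain ⟨σ, hσ⟩ := exists_sort hβ
    have := h2 (β ∘ σ) (mem_Ω.2 ⟨(Equiv.sum_comp σ β).trans e, hσ⟩) fun i hi => by
      have h3 := ρ_le' (β := fun j => rk p β (f j)) fun j k e =>
        f.injective (Subtype.ext (rk_inj hβ ((f j).2.trans (f k).2.symm) e))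
      simp only [← card_gap hp hβ, sum_add_distrib] at hw
      rw [gap_perm]
      simpa using sum_eq_zero_iff.1 (show ∑ j, #(gap p β (f j)) = 0 by omega)
        (f.symm ⟨σ i, hi⟩) (mem_univ _)
    rw [hc] at this
    simp [h0] at this
  refine h0 (x4 ▸ Alt.li (c := fun γ => c (x γ)) (fun σ γ => ?_) (fun μ h3 h4 => ?_) hw)
  · rw [← Perm.sign_extendDomain σ f, ← hc]
    exact congrArg c (x0 (fun j => by simp [x1]) fun i h => by
      simp [Perm.extendDomain_apply_not_subtype σ f h, x2 _ _ h])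
  obtain ⟨k, hk⟩ := Multiset.exists_mem_of_ne_zero (s := μ) (by rintro rfl; simp [hρ, eq_comm] at h4)
  obtain ⟨ν, rfl⟩ := Multiset.exists_cons_of_mem hk
  rw [Multiset.sum_cons, add_assoc, add_comm] at h4
  rw [← h4, ev_cons]
  refine sum_eq_zero fun γ hγ => mul_eq_zero_of_left ?_ _
  have h5 : ∑ j, γ j + k = w := by rw [(mem_piAntidiag.1 hγ).1, h4]
  have h6 : ∑ i, x γ i + p * k = d := by
    have : ∑ j, β (f j) = p * w := by
      rw [← hw, mul_sum]
      exact sum_congr rfl fun j _ => (Nat.mul_div_cancel' (Nat.dvd_of_mod_eq_zero (f j).2)).symm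
    rw [← e, x3, x3 β, this, sum_congr rfl fun (i : {i // ¬ β i % p = 0}) _ => x2 γ i i.2]
    simp only [x1, ← mul_sum, ← h5]
    ring
  have h7 := h1 k _ (h3 k hk) h6
  rw [Sn.dd, ← Fintype.sum_subtype_add_sum_subtype (fun i => β i % p = 0),
    sum_eq_zero (s := (univ : Finset {i // ¬ β i % p = 0})) fun i _ => ?_, add_zero] at h7
  · rw [← h7]
    refine Fintype.sum_equiv f _ _ fun j => congrArg c (x0 (fun l => ?_) fun i h => ?_)
    · simp [x1, Pi.single_apply, mul_add, Subtype.coe_inj]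
    · rw [Pi.add_apply, Pi.single_eq_of_ne fun e : i = (f j).1 => h (e ▸ (f j).2), x2 _ _ h, x2 _ _ h, add_zero]
  have h8 : ∀ l, (x γ + Pi.single i.1 (p * k) : Fin N → ℕ) l % p = 0 ↔ β l % p = 0 := fun l => by
    rw [Pi.add_apply, Pi.single_apply]
    by_cases h : β l % p = 0
    · obtain ⟨j, rfl⟩ : ∃ j, (f j).1 = l := ⟨f.symm ⟨l, h⟩, by simp⟩
      split_ifs <;> simp [x1, h]
    · split_ifs <;> simp [x2 _ _ h]
  refine ih (∑ j, γ j) (by have := h3 k hk; omega) (by simpa [sum_add_distrib] using h6) ?_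
  refine (Fintype.sum_equiv (f.trans (Equiv.subtypeEquivRight fun l => (h8 l).symm)) _ _
    fun j => ?_).symm
  simp [Pi.single_eq_of_ne fun e : (f j).1 = i.1 => i.2 (e ▸ (f j).2), x1, hp]

/-- Coloured partitions. -/
def CP (C : Finset ℕ) (w : ℕ) : Set (Multiset (ℕ × ℕ)) :=
  {m | (∀ x ∈ m, 0 < x.1 ∧ x.2 ∈ C) ∧ (m.map Prod.fst).sum = w}

/-- A set has at most `b` elements. -/
def Cv {X : Type*} (S : Set X) (b : ℕ) : Prop := ∃ F : Finset X, S ⊆ F ∧ #F ≤ b

section cp
variable {C : Finset ℕ} {w b b' : ℕ}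

theorem cv_step (h : Cv (CP C w) b) (h' : Cv {m ∈ CP C (w + 1) | ∀ x ∈ m, 2 ≤ x.1} b') :
    Cv (CP C (w + 1)) (#C * b + b') := by
  obtain ⟨F, h1, h2⟩ := h
  obtain ⟨F', h3, h4⟩ := h'
  refine ⟨(C ×ˢ F).image (fun x => (1, x.1) ::ₘ x.2) ∪ F', fun m hm => ?_, (card_union_le _ _).trans
    (add_le_add (card_image_le.trans (by rw [card_product]; gcongr)) h4)⟩
  by_cases h : ∀ x ∈ m, 2 ≤ x.1
  · exact mem_union_right _ (h3 ⟨hm, h⟩)
  push Not at h
  obtain ⟨⟨a, c⟩, h5, h6⟩ := h
  obtain ⟨m, rfl⟩ := Multiset.exists_cons_of_mem h5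
  obtain rfl : a = 1 := by have := (hm.1 _ h5).1; omega
  exact mem_union_left _ (mem_image.2 ⟨(c, m), mem_product.2 ⟨(hm.1 _ h5).2, h1 ⟨fun x hx =>
    hm.1 x (Multiset.mem_cons_of_mem hx), by simpa [add_comm 1] using hm.2⟩⟩, rfl⟩)

theorem cv_bump (h : Cv (CP C w) b) : Cv {m ∈ CP C (w + 1) | ∀ x ∈ m, 2 ≤ x.1} b := by
  classical
  obtain ⟨F, h1, h2⟩ := h
  refine ⟨F.image fun m : Multiset (ℕ × ℕ) => if h : ∃ x ∈ m, ∀ y ∈ m.erase x, x.1 < y.1 then
    (h.choose.1 + 1, h.choose.2) ::ₘ m.erase h.choose else m, fun m ⟨hm, h3⟩ => ?_,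
    card_image_le.trans h2⟩
  obtain ⟨⟨a, c⟩, h4, h5⟩ := exists_min_image m.toFinset Prod.fst (Multiset.toFinset_nonempty.2
    (by rintro rfl; simpa using hm.2))
  simp only [Multiset.mem_toFinset] at h4 h5
  obtain ⟨m, rfl⟩ := Multiset.exists_cons_of_mem h4
  obtain ⟨a, rfl⟩ := Nat.exists_eq_add_of_le' (hm.1 _ h4).1
  have h6 : ∀ y ∈ m, a < y.1 := fun y hy => h5 y (Multiset.mem_cons_of_mem hy)
  have h7 : ∃ x ∈ (a, c) ::ₘ m, ∀ y ∈ ((a, c) ::ₘ m).erase x, x.1 < y.1 :=
    ⟨(a, c), by simp, by simpa using h6⟩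
  have h8 : h7.choose = (a, c) := by_contra fun e => by
    have h9 := h7.choose_spec
    have := h9.2 (a, c) ((Multiset.mem_erase_of_ne (Ne.symm e)).2 (by simp))
    have := h6 _ ((Multiset.mem_cons.1 h9.1).resolve_left e)
    omega
  refine mem_image.2 ⟨(a, c) ::ₘ m, h1 ⟨fun x hx => ?_, ?_⟩, by
    rw [dif_pos h7, h8, Multiset.erase_cons_head]⟩
  · rcases Multiset.mem_cons.1 hx with rfl | hx
    · exact ⟨Nat.lt_of_succ_lt_succ (h3 _ h4), (hm.1 _ h4).2⟩
    · exact hm.1 x (Multiset.mem_cons_of_mem hx)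
  · have := hm.2
    simp only [Multiset.map_cons, Multiset.sum_cons] at this ⊢
    omega

theorem cv_small (hw : w ≤ 2) : Cv {m ∈ CP C (w + 1) | ∀ x ∈ m, 2 ≤ x.1} #C := by
  refine ⟨C.image fun c => {(w + 1, c)}, fun m ⟨hm, h⟩ => ?_, card_image_le⟩
  obtain ⟨x, hx⟩ := Multiset.exists_mem_of_ne_zero (s := m) (by rintro rfl; simpa using hm.2)
  obtain ⟨m, rfl⟩ := Multiset.exists_cons_of_mem hx
  obtain rfl : m = 0 := by_contra fun e => by
    obtain ⟨y, hy⟩ := Multiset.exists_mem_of_ne_zero e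
    obtain ⟨m, rfl⟩ := Multiset.exists_cons_of_mem hy
    have h1 := hm.2
    have := h x hx
    have := h y (by simp)
    simp only [Multiset.map_cons, Multiset.sum_cons] at h1
    omega
  exact mem_image.2 ⟨x.2, (hm.1 x hx).2, by simp [← hm.2]⟩

theorem cv_one : Cv (CP C 1) #C := by
  simpa using cv_step (C := C) (w := 0) (b := 1) (b' := 0) ⟨{0}, fun m hm => by
    simpa using Multiset.eq_zero_of_forall_notMem fun x hx => by
      have := Multiset.single_le_sum (by simp) _ (Multiset.mem_map_of_mem Prod.fst hx)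
      have := hm.1 x hx
      have := hm.2
      omega, by simp⟩ ⟨∅, fun m ⟨hm, h⟩ => by
    obtain ⟨x, hx⟩ := Multiset.exists_mem_of_ne_zero (s := m) (by rintro rfl; simpa using hm.2)
    have := Multiset.single_le_sum (by simp) _ (Multiset.mem_map_of_mem Prod.fst hx)
    have := h x hx
    have := hm.2
    omega, by simp⟩

theorem cv_two : Cv (CP C 2) ((#C + 1).choose 2 + #C) := by
  obtain ⟨F', h3, h4⟩ := cv_small (C := C) (w := 1) one_le_two
  refine ⟨C.sym2.image (fun x => x.toMultiset.map (1, ·)) ∪ F', fun m hm => ?_,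
    (card_union_le _ _).trans (add_le_add (card_image_le.trans (card_sym2 _).le) h4)⟩
  by_cases h : ∀ x ∈ m, 2 ≤ x.1
  · exact mem_union_right _ (h3 ⟨hm, h⟩)
  push Not at h
  obtain ⟨⟨a, c⟩, h5, h6⟩ := h
  obtain ⟨m, rfl⟩ := Multiset.exists_cons_of_mem h5
  obtain rfl : a = 1 := by have := (hm.1 _ h5).1; omega
  have h7 := hm.2
  obtain ⟨⟨a, c'⟩, hx⟩ := Multiset.exists_mem_of_ne_zero (s := m) (by rintro rfl; simp at h7)
  obtain ⟨m, rfl⟩ := Multiset.exists_cons_of_mem hx
  have h8 := hm.1 (a, c') (by simp)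
  simp only [Multiset.map_cons, Multiset.sum_cons] at h7 h8
  obtain rfl : m = 0 := Multiset.eq_zero_of_forall_notMem fun x hx => by
    have := Multiset.single_le_sum (by simp) _ (Multiset.mem_map_of_mem Prod.fst hx)
    have := hm.1 x (by simp [hx])
    omega
  obtain rfl : a = 1 := by simp at h7; omega
  exact mem_union_left _ (mem_image.2 ⟨s(c, c'), by simp [(hm.1 _ h5).2, h8.2], rfl⟩)

theorem exists_cv (hw : 0 < w) : ∃ b, Cv (CP C w) b ∧ b < (#C + 1) ^ w ∧
    (3 ≤ w → 2 * b < (#C + 1) ^ w) := by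
  obtain ⟨w, rfl⟩ := Nat.exists_eq_add_of_le' hw
  induction w with
  | zero => exact ⟨_, cv_one, by simp, by simp⟩
  | succ w ih =>
    by_cases h : w = 1
    · subst h
      have h1 := Nat.choose_two_right (#C + 1)
      have h2 : 2 * (#C * ((#C + 1).choose 2 + #C) + #C) < (#C + 1) ^ 3 := by
        have : 2 * (#C + 1).choose 2 ≤ (#C + 1) * #C := by
          rw [h1]; exact Nat.mul_div_le _ _
        nlinarith
      exact ⟨_, cv_step cv_two (cv_small le_rfl), (Nat.le_mul_of_pos_left _ two_pos).trans_lt h2,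
        fun _ => h2⟩
    obtain ⟨b, h1, h2, h3⟩ := ih (by omega)
    refine ⟨_, cv_step h1 (cv_bump h1), ?_, fun e => ?_⟩
    · rw [pow_succ]; nlinarith
    · have := h3 (by omega)
      rw [pow_succ]; nlinarith

end cp

theorem lt_gap_iff {t : ℕ} (i : Fin N) (hβ : Function.Injective β) : t < #(gap p β i) ↔
    ty p β (β i % p) ≤ rk p β i + #{j | β j % p = β i % p ∧ t < #(gap p β j)} := by
  have : ∀ j k, β j % p = β k % p → β j ≤ β k → #(gap p β j) ≤ #(gap p β k) := fun j k e h =>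
    card_le_card fun c => by simp only [mem_gap]; exact fun h' => ⟨by omega, by omega, h'.2.2⟩
  refine ⟨fun h => (card_le_card fun j => ?_).trans (card_union_le _ _), fun h => by_contra
    fun h' => h.not_gt ?_⟩
  · have := this i j
    simp only [mem_filter, mem_univ, true_and, mem_union]
    omega
  · rw [rk, ← card_union_of_disjoint (disjoint_filter.2 fun j _ => by have := this j i; omega)]
    exact card_lt_card ((ssubset_iff_of_subset fun k => by
      simp only [mem_filter, mem_univ, true_and, mem_union]; omega).2 ⟨i, by simp [h']⟩)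

theorem card_vac (hp : 0 < p) (hβ : Function.Injective β) {b : ℕ}
    (h : Cv (CP (Ioo 0 p) (wt p β)) b) [DecidablePred fun γ : Fin N → ℕ => ty p γ = ty p β ∧ Vac p γ] :
    #{γ ∈ Ω N (∑ i, β i) | ty p γ = ty p β ∧ Vac p γ} ≤ b := by
  obtain ⟨F, h1, h2⟩ := h
  let f : (Fin N → ℕ) → Multiset (ℕ × ℕ) := fun γ =>
    ({i | gap p γ i ≠ ∅} : Finset _).val.map fun i => (#(gap p γ i), γ i % p)
  have h3 : ∀ γ r t, #{j | γ j % p = r ∧ t < #(gap p γ j)} =
      (f γ).countP fun x => x.2 = r ∧ t < x.1 := fun γ r t => by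
    rw [Multiset.countP_map, ← filter_val, card_val, filter_filter]
    exact congrArg _ (filter_congr fun j _ => ⟨fun h => ⟨fun e => by simp [e] at h, h⟩, And.right⟩)
  have h4 : ∀ γ δ : Fin N → ℕ, Function.Injective γ → Function.Injective δ → ty p γ = ty p δ →
      f γ = f δ → Set.range γ ⊆ Set.range δ := by
    rintro γ δ hγ hδ e e' _ ⟨i, rfl⟩
    obtain ⟨j, h5, h6⟩ := exists_rk hδ (e ▸ rk_lt_ty i : rk p γ i < ty p δ (γ i % p))
    refine ⟨j, ?_⟩
    rw [← cr_add hp hγ, ← cr_add hp hδ, cr, cr, h5, h6, eq_of_forall_lt_iff (a := #(gap p δ j))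
      (b := #(gap p γ i)) fun t => by rw [lt_gap_iff j hδ, lt_gap_iff i hγ, h3, h3, h5, h6, e, e']]
  refine (card_le_card_of_injOn f (fun γ hγ => h1 ?_) fun γ hγ δ hδ e => ?_).trans h2
  · obtain ⟨h5, h6, h7⟩ := mem_filter.1 hγ
    refine ⟨fun x hx => ?_, ?_⟩
    · obtain ⟨i, hi, rfl⟩ := Multiset.mem_map.1 hx
      have := (mem_filter.1 (mem_def.2 hi)).2
      exact ⟨card_pos.2 (nonempty_iff_ne_empty.2 this), mem_Ioo.2 ⟨Nat.pos_of_ne_zero fun e =>
        this (h7 i e), Nat.mod_lt _ hp⟩⟩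
    · rw [← wt_eq hp hβ (mem_Ω.1 h5).2.injective h6 (mem_Ω.1 h5).1, Multiset.map_map]
      exact sum_filter_of_ne fun i _ h e => h (by simp [e])
  · obtain ⟨h5, h6, -⟩ := mem_filter.1 hγ
    obtain ⟨h7, h8, -⟩ := mem_filter.1 hδ
    have h5 := (mem_Ω.1 h5).2
    have h7 := (mem_Ω.1 h7).2
    exact (h5.range_inj h7).1 ((h4 _ _ h5.injective h7.injective (h6.trans h8.symm) e).antisymm
      (h4 _ _ h7.injective h5.injective (h8.trans h6.symm) e.symm))

end H7.Sn
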