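import Cfsg.Agent.H7.Sn2
import Cfsg.Agent.H7.Sect
import Cfsg.Agent.H7.Fong
import Cfsg.Agent.H7.Ab1
/-! Blocks of symmetric groups (Nakayama's conjecture): Osima's criterion `isSat_of_blockPart`,
`Sn.isSat_US`, `Sn.same_block`, the defect group `Sn.isDefectGroup`, and the summary
`Sn.exists_weight`. -/
open H5 Cfsg Finset Equiv ComplexConjugate
namespace H7
variable {G : Type*} [Group G] {M : Ideal AlgInt} {p : ℕ} [hp : Fact p.Prime] [PM p M]

theorem isSat_of_blockPart [Finite G] {A : Set (IrrCharacter G)} (h : ∀ θ, IsClassFunction G θ →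
    (∀ g, p ∣ orderOf g → θ g = 0) → ∀ g, p ∣ orderOf g → blockPart A θ g = 0) : IsSat M A := by
  classical
  cases nonempty_fintype G
  have hc : ∀ θ, IsClassFunction G (blockPart A θ) := fun θ g x => by
    simp only [blockPart_eq_sum, fun χ : IrrCharacter G => χ.2.isCharacter.isClassFunction g x]
  have h1 : ∀ j : IBr M G, (Nat.card G : ℂ)⁻¹ * blockPart A (pim j) 1 ∈ O M := fun j => by
    have h2 := h _ (isCharacter_pim j).isClassFunction fun _ => pim_of_dvd j
    rw [eq_sum_pim (M := M) (hc _) h2, Finset.sum_apply, mul_sum]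
    refine sum_mem fun k _ => ?_
    obtain ⟨m, -, h3, -⟩ := (isSat_of_eB_mem_OG (M := M) (A := Set.univ)
      (by rw [eB_univ]; exact one_mem _)).exists_int_bch (p := p) (i := k) (by simp [IB, fB_univ])
    rw [Pi.smul_apply, pim_apply, smul_eq_mul, mul_left_comm]
    refine mul_mem ?_ (by
      simpa [← mul_assoc, Nat.card_pos.ne', -Nat.card_eq_fintype_card, ← Nat.card_eq_fintype_card]
        using (pidem k).2 1)
    rw [h3, classInner_sum_right]
    refine sum_mem fun χ _ => ?_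
    rw [classInner_smul_right, ← classInner_reg, show reg p (blockPart A (pim j)) =
      blockPart A (pim j) from funext fun g => by
        by_cases e : p ∣ orderOf g
        · rw [reg_of_dvd _ e, h2 g e]
        · rw [reg_of_not_dvd _ e], classInner_blockPart, inner_pim_irr, map_intCast]
    split_ifs
    · exact mul_mem (intCast_mem _ _) (natCast_mem _ _)
    · simp
  refine isSat_of_eB_mem_OG fun g => ?_
  rw [coeff_eB]
  by_cases e : p ∣ orderOf g
  · have := h (fun x => if x = 1 then 1 else 0) (fun a b => by simp) (fun x hx => if_neg (by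
      rintro rfl; exact not_dvd_orderOf_one hx)) g⁻¹ (by simpa using e)
    rw [blockPart_eq_ev (fun a b => by simp), ev_mul_single] at this
    simp only [mul_inv_eq_one, mul_ite, mul_one, mul_zero, sum_ite_eq', mem_univ, if_true,
      coeff_eB] at this
    rw [this]; exact zero_mem _
  · have : blockCoeff A g = ∑ j : IBr M G,
        conj (bch p j g) * ((Nat.card G : ℂ)⁻¹ * blockPart A (pim j) 1) := by
      simp only [blockCoeff_eq, blockPart_eq_sum, inner_pim_irr, mul_sum]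
      rw [sum_comm]
      refine sum_congr rfl fun χ _ => ?_
      split_ifs
      · simp only [apply_eq_sum_bch (M := M) χ.2.isCharacter e, map_sum, map_mul, map_natCast,
          mul_sum]
        exact sum_congr rfl fun j _ => by ring
      · simp
    rw [this]
    exact sum_mem fun j _ => mul_mem (mem_O_of_isIntegral
      ((isIntegral_bch j g).map (starRingEnd ℂ).toIntAlgHom)) (h1 j)

theorem IsDefectGroup.exists_ne_zero [Finite G] {B : Set (IrrCharacter G)} (hB : IsPBlock M B)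
    {D : Subgroup G} (hD : IsDefectGroup p M B D) {u : G} (h : u ∈ D) :
    ∃ χ ∈ B, (χ : G → ℂ) u ≠ 0 := by
  classical
  have hu := isPE_of_mem (IsDefectGroup.isPGroup hD) h
  have h1 := (lr_ne_zero_iff hB hu hD).2 ⟨1, by simpa⟩
  by_contra! h2
  refine mu_one_one_ne_zero (Set.nonempty_iff_ne_empty.2 fun e => h1 ?_)
    ((mu_pe (isSat_of_isPBlock hB) hu).symm.trans ?_)
  · simp [lr, e, blockRank]
  · rw [mu_eq]
    exact sum_eq_zero fun χ _ => ite_eq_right_iff.2 fun e => by rw [h2 χ e, zero_mul]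

namespace Sn
variable {α : Type*} [Fintype α] [DecidableEq α] {N : ℕ}

omit hp in
theorem blockPart_US {P : (Fin N → ℕ) → Prop} [DecidablePred P]
    (hP : ∀ (σ : Perm (Fin N)) β, P (β ∘ σ) ↔ P β) (θ : Perm α → ℂ) (g : Perm α) :
    ev (Fintype.card α + ρ N) (fun β => if P β then classInner θ (chi β) else 0)
      g.partition.parts = N.factorial * blockPart (US α P) θ g := by
  classical
  rw [(alt_inner θ hP).ev_eq, blockPart_eq_sum, sum_US fun φ => classInner θ φ * φ g]
  simp only [ite_mul, zero_mul, chi]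

theorem dvd_orderOf_iff {g : Perm α} : p ∣ orderOf g ↔ ∃ r ∈ g.partition.parts, p ∣ r := by
  refine ⟨fun h => ?_, fun ⟨r, h, e⟩ => e.trans (Perm.dvd_of_mem_cycleType ?_)⟩
  · obtain ⟨r, h1, h2⟩ := hp.out.prime.exists_mem_multiset_dvd (h.trans (by
      rw [← Perm.lcm_cycleType]; exact Multiset.lcm_dvd.2 fun _ => Multiset.dvd_prod))
    exact ⟨r, Multiset.mem_add.2 (.inl h1), h2⟩
  · rw [← Perm.filter_parts_partition_eq_cycleType, Multiset.mem_filter]
    exact ⟨h, hp.out.two_le.trans (Nat.le_of_dvd (g.partition.parts_pos h) e)⟩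

open Classical in
theorem dd_eq_zero (hN : Fintype.card α ≤ N) {θ : Perm α → ℂ} (hθ : IsClassFunction _ θ)
    (h : ∀ g, p ∣ orderOf g → θ g = 0) (T : ℕ → ℕ) (k : ℕ) (β : Fin N → ℕ) (hk : 0 < k)
    (e : ∑ i, β i + p * k = Fintype.card α + ρ N) :
    dd (p * k) (fun β => if ty p β = T then classInner θ (chi β) else 0) β = 0 := by
  have h1 : ∀ i, ty p (β + Pi.single i (p * k)) = ty p β := fun i => funext fun r => by
    simp only [ty, Pi.add_apply, Pi.single_apply]
    exact congrArg _ (filter_congr fun j _ => by split_ifs <;> simp)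
  have h2 := (alt_inner θ (P := fun _ : Fin N → ℕ => True) (by simp)).dd (p * k) |>.li
    (fun μ h2 h3 => by
      obtain ⟨g, hg⟩ := exists_parts (α := α) (μ := (p * k) ::ₘ μ) (fun x hx => by
        rcases Multiset.mem_cons.1 hx with rfl | hx
        exacts [Nat.mul_pos hp.out.pos hk, h2 x hx]) (by rw [Multiset.sum_cons]; omega)
      rw [← ev_cons, e, ← hg, blockPart_US (by simp), US_true hN, show blockPart Set.univ θ g = θ g
        by simpa [blockPart_empty] using blockPart_add_compl hθ Set.univ g,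
        h g (dvd_orderOf_iff.2 ⟨p * k, by simp [hg], dvd_mul_right _ _⟩), mul_zero]) (β := β) rfl
  simp only [dd, h1, if_true] at h2 ⊢
  split_ifs <;> simp [h2]

theorem isSat_US (hN : Fintype.card α ≤ N) (T : ℕ → ℕ) :
    IsSat M (US α fun β : Fin N → ℕ => ty p β = T) := isSat_of_blockPart fun θ hθ h g hg => by
  classical
  obtain ⟨_, h1, k, rfl⟩ := dvd_orderOf_iff.1 hg
  have h2 := blockPart_US (P := fun β : Fin N → ℕ => ty p β = T) (by simp [ty_perm]) θ g
  have h3 := Multiset.single_le_sum (by simp) _ h1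
  have h4 := g.partition.parts_pos h1
  obtain ⟨μ, e⟩ := Multiset.exists_cons_of_mem h1
  rw [g.partition.parts_sum] at h3
  obtain ⟨d, hd⟩ := Nat.exists_eq_add_of_le' (h3.trans (Nat.le_add_right _ (ρ N)))
  rw [e, hd, ev_cons, ev, sum_eq_zero fun β hβ => mul_eq_zero_of_left (dd_eq_zero hN hθ h T k β
    (Nat.pos_of_mul_pos_left h4) (by rw [(mem_piAntidiag.1 hβ).1, hd])) _] at h2
  simpa [N.factorial_ne_zero] using h2

include M in
theorem blockRank_US (hN : Fintype.card α ≤ N) {β : Fin N → ℕ} (hβ : Function.Injective β)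
    (e : ∑ i, β i = Fintype.card α + ρ N) {b : ℕ} (h : Cv (CP (Ioo 0 p) (wt p β)) b) :
    blockRank p (US α fun γ : Fin N → ℕ => ty p γ = ty p β) ≤ b := by
  classical
  have hA := isSat_US (M := M) hN (ty p β)
  refine le_trans ?_ (card_vac hp.out.pos hβ h)
  rw [hA.blockRank_eq_card, Nat.card_eq_fintype_card, ← Fintype.card_coe]
  refine (LinearIndependent.fintype_card_le_finrank (R := ℂ) (b := fun i γ => classInner
    (pim (Subtype.val i)) (chi (Subtype.val γ))) (Fintype.linearIndependent_iff.2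
    fun a ha j => ?_)).trans_eq (Module.finrank_fintype_fun_eq_card ℂ)
  have h1 : IsClassFunction _ (∑ i, a i • pim i.1) :=
    .sum _ fun i _ => (isCharacter_pim _).isClassFunction.smul _
  have h2 : ∑ i, a i • pim i.1 = 0 := h1.eq_zero_of_classInner fun χ hχ => by
    by_cases hm : (⟨χ, hχ⟩ : IrrCharacter _) ∈ US α fun γ : Fin N → ℕ => ty p γ = ty p β
    · obtain ⟨γ, h3, h4, rfl : χ = _⟩ := hm
      simpa [h4] using (alt_inner _ (P := fun γ : Fin N → ℕ => ty p γ = ty p β)
        (by simp [ty_perm])).vac hp.out.pos (dd_eq_zero hN h1 (fun g hg => by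
          simp [pim_of_dvd _ hg]) _) (fun δ h5 h6 => ite_eq_right_iff.2 fun h7 => by
            simpa [classInner_sum_left, classInner_smul_left] using
              congrFun ha ⟨δ, mem_filter.2 ⟨e ▸ h5, h7, h6⟩⟩) (mem_Ω.1 h3).1
    · rw [classInner_sum_left]
      exact sum_eq_zero fun i _ => by
        rw [classInner_smul_left, inner_pim_irr i.1 ⟨χ, hχ⟩, hA.dec_eq_zero' hm i.2]; simp
  simpa [classInner_sum_left, classInner_smul_left, inner_pim_bch, Subtype.coe_inj] using
    congrArg (classInner · (bch p j.1)) h2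

section fix
variable {z : Perm α} (hz : z ^ p = 1)

omit hp in
include hz in
theorem pow_apply_eq {g : Perm α} (hc : Commute g z) {x : α} (h : z.SameCycle x (g x)) :
    (g ^ p) x = x := by
  obtain ⟨k, -, hk⟩ := h.exists_pow_eq'
  have : ∀ j, (g ^ j) x = (z ^ (k * j)) x := fun j => by
    induction j with
    | zero => rfl
    | succ j ih => rw [pow_succ', Perm.mul_apply, ih, ← Perm.mul_apply, (hc.pow_right _).eq,
        Perm.mul_apply, ← hk, ← Perm.mul_apply, ← pow_add, mul_add_one]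
  rw [this, mul_comm, pow_mul, hz, one_pow, Perm.one_apply]

/-- The group generated by the cycles of `z`. -/
def Qz (z : Perm α) : Subgroup (Subgroup.centralizer ({z} : Set (Perm α))) where
  carrier := {q | ∀ x, z.SameCycle x (q.1 x)}
  one_mem' _ := .rfl
  mul_mem' ha hb x := (hb x).trans (ha _)
  inv_mem' {q} h x := by simpa using (h (q.1⁻¹ x)).symm

instance : (Qz z).Normal := ⟨fun q h g x => by
  have := (h (g.1⁻¹ x)).conj (g := g.1)
  rw [Subgroup.mem_centralizer_singleton_iff.1 g.2, mul_inv_cancel_right] at this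
  simpa using this⟩

include hz

omit hp in
theorem isPGroup_Qz : IsPGroup p (Qz z) := fun q => ⟨1, Subtype.ext (Subtype.ext (Equiv.ext fun x =>
  by simpa using pow_apply_eq hz (Subgroup.mem_centralizer_singleton_iff.1 q.1.2) (q.2 x)))⟩

theorem disjoint_of_mem {h : Subgroup.centralizer ({z} : Set (Perm α))}
    (h1 : h ∈ Subgroup.centralizer (Qz z : Set _)) (h2 : ¬ p ∣ orderOf h.1) :
    z.Disjoint h.1 := fun x => or_iff_not_imp_left.2 fun hx => by
  have hc : Commute h.1 z := Subgroup.mem_centralizer_singleton_iff.1 h.2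
  have h3 := congrArg (fun g => g.1 x) (h1 ⟨z.cycleOf x, Subgroup.mem_centralizer_singleton_iff.2
    (Perm.self_mem_cycle_factors_commute (Perm.cycleOf_mem_cycleFactorsFinset_iff.2
      (Perm.mem_support.2 hx)))⟩ fun y => by
    simp only [Perm.cycleOf_apply]
    split_ifs
    exacts [⟨1, rfl⟩, .rfl])
  simp only [Subgroup.coe_mul, Perm.mul_apply, Perm.cycleOf_apply_self] at h3
  have h4 := pow_apply_eq hz hc (by_contra fun e => hx (h.1.injective (by
    rwa [Perm.cycleOf_apply_of_not_sameCycle e, eq_comm] at h3)))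
  have h5 := Function.IsPeriodicPt.gcd (f := h.1) (x := x) (m := p) (n := orderOf h.1)
    (by rw [Function.IsPeriodicPt, ← Perm.coe_pow]; exact h4)
    (by rw [Function.IsPeriodicPt, ← Perm.coe_pow, pow_orderOf_eq_one]; rfl)
  rwa [(hp.out.coprime_iff_not_dvd.2 h2).gcd_eq_one] at h5

end fix

section z
variable {β γ : Fin N → ℕ} {z : Perm α} {w : ℕ} (hz : z.cycleType = Multiset.replicate w p)
include hz

theorem pow_eq_one : z ^ p = 1 :=
  Perm.pow_prime_eq_one_iff.2 fun _ h => Multiset.eq_of_mem_replicate (hz ▸ h)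

omit hp in
theorem parts_mul {h : Perm α} (hd : z.Disjoint h) : (z * h).partition.parts =
    .replicate w p + (h.cycleType + .replicate (Fintype.card α - #(z * h).support) 1) := by
  rw [Perm.parts_partition, hd.cycleType_mul, hz, add_assoc]

theorem chi_ne_zero (hβ : Function.Injective β) (e : ∑ i, β i = Fintype.card α + ρ N)
    (hw : wt p β = w) : chi β z ≠ 0 := by
  obtain ⟨π, h1, h2⟩ := V_path hp.out.pos hβ
  have h3 := sum_cr hp.out.pos hβ
  have h4 := ρ_le' (cr_inj hp.out.pos hβ)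
  rw [chi, Perm.parts_partition, ← Perm.sum_cycleType, hz, ← hw, h2, Multiset.sum_replicate,
    smul_eq_mul, mul_comm (wt p β)]
  exact Int.cast_ne_zero.2 (mul_ne_zero (by omega) (V_one_ne_zero (cr_inj hp.out.pos hβ) (by omega)))

theorem chi_eq_zero (hβ : Function.Injective β) (hw : wt p β = w) {h : Perm α} (hd : z.Disjoint h)
    (h0 : p ∣ orderOf h) : chi β (z * h) = 0 := by
  obtain ⟨π, -, h2⟩ := V_path hp.out.pos hβ
  obtain ⟨r, h3, h4⟩ := dvd_orderOf_iff.1 h0
  have h5 := h.partition.parts_pos h3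
  obtain ⟨μ, e⟩ := Multiset.exists_cons_of_mem (s := h.cycleType) (a := r) (by
    rw [← Perm.filter_parts_partition_eq_cycleType, Multiset.mem_filter]
    exact ⟨h3, hp.out.two_le.trans (Nat.le_of_dvd h5 h4)⟩)
  rw [chi, parts_mul hz hd, ← hw, h2, e, Multiset.cons_add,
    (core_cr hp.out.pos hβ).V_cons hp.out.pos h5 h4, mul_zero, Int.cast_zero]

theorem same_block (hβ : Function.Injective β) (hγ : Function.Injective γ) (e : ty p γ = ty p β)
    (e1 : ∑ i, β i = Fintype.card α + ρ N) (e2 : ∑ i, γ i = Fintype.card α + ρ N)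
    (hw : wt p β = w) {χ ψ : IrrCharacter (Perm α)} {a b : ℂ} (h1 : χ.1 = a • chi β)
    (h2 : ψ.1 = b • chi γ) {A : Set (IrrCharacter (Perm α))} (hA : IsSat M A) (h : χ ∈ A) :
    ψ ∈ A := by
  by_contra h'
  obtain ⟨π, h3, h4⟩ := V_path hp.out.pos hβ
  obtain ⟨π', h5, h6⟩ := V_path hp.out.pos hγ
  obtain ⟨σ, h7⟩ := exists_cr_perm hp.out.pos hβ hγ e
  rw [wt_eq hp.out.pos hβ hγ e (e2.trans e1.symm), h7] at h6
  have hu : IsPE p z := isPE_of_pow (k := 1) (by simpa using pow_eq_one hz)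
  have hC : Subgroup.centralizer {pp p ((Subgroup.centralizer {z}).subtype (selfC z))} ≤
      (Subgroup.centralizer {z}).subtype.range := by simp [pp_of_isPE hu]
  have h8 := eq_blockPart_indSet (Subgroup.subtype_injective _) hA hC h
  have h9 := second_main' (Subgroup.subtype_injective _) hA isSat_indSet le_rfl hC h'
  cases nonempty_fintype (Subgroup.centralizer {z})
  rw [blockPart_eq_ev (.comp (IsIrrCharacter.isCharacter (Subtype.prop _)).isClassFunction _),
    ev_mul_single] at h8 h9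
  have hb : b ≠ 0 := fun e => ψ.2.apply_one_ne_zero (by simp [h2, e])
  have ha : a ≠ 0 := fun e => χ.2.apply_one_ne_zero (by simp [h1, e])
  have : (b * π' * (Perm.sign σ : ℤ)) * χ.1 z = (a * π) * 0 := by
    rw [← h9, show χ.1 z = _ from h8, mul_sum, mul_sum]
    refine sum_congr rfl fun x _ => ?_
    by_cases h0 : (eB (indSet M (Subgroup.centralizer {z}).subtype A)).coeff x = 0
    · simp only [h0, zero_mul, mul_zero]
    have hd := disjoint_of_mem (pow_eq_one hz) (h := x) (by_contra fun e => h0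
      (isSat_indSet.blockCoeff_eq_zero (isPGroup_Qz (pow_eq_one hz)) e)) fun e => h0
      (blockCoeff_eq_zero_of_dvd isSat_indSet (by simpa using e))
    simp only [h1, h2, mul_selfC z x, Subgroup.coe_subtype, Subgroup.coe_mul,
      coe_selfC, Pi.smul_apply, smul_eq_mul, chi, parts_mul hz hd, ← hw, h4, h6,
      V_perm, Int.cast_mul, Int.cast_natCast]
    ring
  simp [h1, ha, hb, h5.ne', chi_ne_zero hz hβ e1 hw] at this

variable {B : Set (IrrCharacter (Perm α))} (hB : IsPBlock M B)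
include hB

theorem cle_of_le {χ : IrrCharacter (Perm α)} (hχ : χ ∈ B) (h0 : χ.1 z ≠ 0)
    {D P : Subgroup (Perm α)} (hD : IsDefectGroup p M B D) (hP : IsPGroup p P)
    (h : ∀ g ∈ P, g.support ⊆ z.support) : cle P D := by
  cases nonempty_fintype (Subgroup.centralizer {z})
  have hu : IsPE p z := isPE_of_pow (k := 1) (by simpa using pow_eq_one hz)
  obtain ⟨ξ, h1, -⟩ := exists_mem_indSet_of_ne_zero (Subgroup.subtype_injective _)
    (isSat_of_isPBlock hB) (h := selfC z) (by simp [pp_of_isPE hu]) hχ h0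
  obtain ⟨x, h2, h3⟩ := exists_of_lam_ne_zero ξ.2.isCharacter.isClassFunction
    (res_mem_Z _ (fB_mem_Z B)) h1
  have hd := disjoint_of_mem (pow_eq_one hz) (mem_centralizer_of_lam ξ.2
    (isPGroup_Qz (pow_eq_one hz)) h3) (not_dvd_of_fB_ne_zero (isSat_of_isPBlock hB) h2)
  exact IsDefectGroup.cle_of_coeff hB hD h2 hP fun g hg => Subgroup.mem_centralizer_singleton_iff.2
    (hd.mono (h g hg) le_rfl).commute.eq

theorem isDefectGroup {χ : IrrCharacter (Perm α)} (hχ : χ ∈ B) (h0 : χ.1 z ≠ 0)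
    (h1 : ∀ ψ ∈ B, ∀ h, z.Disjoint h → p ∣ orderOf h → ψ.1 (z * h) = 0) {P : Subgroup (Perm α)}
    (hP : SylIn p P (Perm.ofSubtype (p := (· ∈ z.support))).range) (hzP : z ∈ P) :
    IsDefectGroup p M B P := by
  have hK : ∀ g ∈ (Perm.ofSubtype (p := (· ∈ z.support))).range, g.support ⊆ z.support :=
    fun g h => Perm.mem_range_ofSubtype_iff.1 h
  obtain ⟨D, hD⟩ := exists_isDefectGroup p hB
  obtain ⟨D, hD, hPD⟩ := IsDefectGroup.exists_le_of_cle hD
    (cle_of_le hz hB hχ h0 hD hP.isPGroup fun g h => hK g (hP.le h))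
  rcases hPD.eq_or_lt with rfl | hlt
  · exact hD
  obtain ⟨u, ⟨hu, hn⟩, hu'⟩ := SetLike.exists_of_lt
    (exists_mem_normalizer_of_lt' (IsDefectGroup.isPGroup hD) hlt)
  have h2 : ∀ x, u x ∈ z.support ↔ x ∈ z.support := fun x => by
    conv_lhs => rw [← eq_of_subset_of_card_le (hK _ (hP.le
      ((Subgroup.mem_normalizer_iff.1 hn z).1 hzP))) Perm.card_support_conj.ge, Perm.support_conj]
    simp
  obtain ⟨v, hv, h3⟩ : ∃ v ∈ (Perm.ofSubtype (p := (· ∈ z.support))).range,
      ∀ x ∈ z.support, (v⁻¹ * u) x = x := ⟨_, ⟨u.subtypePerm h2, rfl⟩, fun x hx => by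
    rw [Perm.mul_apply, Perm.inv_eq_iff_eq, Perm.ofSubtype_subtypePerm_of_mem h2 hx]⟩
  obtain ⟨t, rfl⟩ : ∃ t, u = v * t := ⟨v⁻¹ * u, by simp⟩
  rw [inv_mul_cancel_left] at h3
  have h4 : ∀ g : Perm α, g.support ⊆ z.support → g.Disjoint t := fun g h x =>
    or_iff_not_imp_left.2 fun e => h3 x (h (Perm.mem_support.2 e))
  obtain ⟨k, hk⟩ := (isPE_of_mem (IsDefectGroup.isPGroup hD) hu).exists_pow
  rw [(h4 v (hK v hv)).commute.mul_pow, ((h4 v (hK v hv)).pow_disjoint_pow _ _).mul_eq_one_iff] at hk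
  have h5 : v ∈ P := by
    rw [← hP.eq_of_le (hP.isPGroup.to_sup_of_normal_left' (isPE_of_pow hk.1).isPGroup_zpowers
      (Subgroup.zpowers_le.2 (Subgroup.mem_normalizer_fintype fun a ha => ?_))) le_sup_left
      (sup_le hP.le (Subgroup.zpowers_le.2 hv))]
    · exact Subgroup.mem_sup_right (Subgroup.mem_zpowers v)
    · have := (Subgroup.mem_normalizer_iff.1 hn a).1 ha
      rwa [mul_assoc v, ← (h4 a (hK a (hP.le ha))).commute.eq, mul_inv_rev, mul_assoc, mul_assoc,
        mul_inv_cancel_left, ← mul_assoc] at this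
  obtain ⟨ψ, h6, h7⟩ := IsDefectGroup.exists_ne_zero hB hD (D.mul_mem (hPD hzP)
    ((D.mul_mem_cancel_left (hPD h5)).1 hu))
  refine absurd (h1 ψ h6 t (h4 z le_rfl) (by_contra fun e => hu' ?_)) h7
  rwa [(isPE_of_pow hk.2).eq_one e, mul_one]

end z

theorem fact_val (m : ℕ) {r : ℕ} (h : r < p) :
    (p * m + r).factorial.factorization p = m + m.factorial.factorization p := by
  rw [Nat.factorization_def _ hp.out, Nat.factorization_def _ hp.out,
    padicValNat_factorial_mul_add _ h, padicValNat_factorial_mul, add_comm]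

theorem exists_three {w : ℕ} (h3 : 3 ≤ p) (h : p ≤ w) : ∃ x : Fin 3 → ℕ, ∑ i, x i = w ∧
    ∑ i, (x i).factorial.factorization p + 1 = w.factorial.factorization p := by
  induction' w using Nat.strong_induction_on with w ih
  obtain ⟨u, r, hr, rfl⟩ : ∃ u r, r < p ∧ w = p * u + r :=
    ⟨_, _, Nat.mod_lt _ hp.out.pos, (Nat.div_add_mod w p).symm⟩
  rw [fact_val _ hr]
  by_cases hu : p ≤ u
  · obtain ⟨x, h1, h2⟩ := ih u (by nlinarith) hu
    refine ⟨![p * x 0 + r, p * x 1 + 0, p * x 2 + 0], ?_, ?_⟩ <;>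
      simp only [Fin.sum_univ_three, Matrix.cons_val, fact_val _ hr, fact_val _ hp.out.pos,
        ← h2] <;> rw [← h1, Fin.sum_univ_three] <;> ring
  · obtain _ | u := u
    · simp [hr.not_ge] at h
    refine ⟨![p * u + r, p - 1, 1], ?_, ?_⟩
    · simp only [Fin.sum_univ_three, Matrix.cons_val, mul_add]; omega
    · simp [Fin.sum_univ_three, fact_val _ hr, Nat.factorization_factorial_eq_zero_of_lt,
        show u < p by omega, show u + 1 < p by omega, show p - 1 < p by omega]

omit hp in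
theorem exists_two {w : ℕ} (h : 2 ≤ w) (h' : w % 4 ≠ 3) : ∃ x : Fin 2 → ℕ, ∑ i, x i = w ∧
    ∑ i, (x i).factorial.factorization 2 + 1 = w.factorial.factorization 2 := by
  induction' w using Nat.strong_induction_on with w ih
  obtain ⟨u, r, hr, rfl⟩ : ∃ u r, r < 2 ∧ w = 2 * u + r :=
    ⟨_, _, Nat.mod_lt _ two_pos, (Nat.div_add_mod w 2).symm⟩
  rw [fact_val _ hr]
  by_cases hu : u % 2 = 0
  · obtain ⟨x, h1, h2⟩ := ih u (by omega) (by omega) (by omega)
    refine ⟨![2 * x 0 + r, 2 * x 1 + 0], ?_, ?_⟩ <;>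
      simp only [Fin.sum_univ_two, Matrix.cons_val, fact_val _ hr, fact_val _ two_pos,
        ← h2] <;> rw [← h1, Fin.sum_univ_two] <;> ring
  · obtain ⟨v, rfl⟩ : ∃ v, u = 2 * v + 1 := ⟨u / 2, by omega⟩
    refine ⟨![2 * (2 * v + 0) + 1, 1], ?_, ?_⟩
    · simp only [Fin.sum_univ_two, Matrix.cons_val]; omega
    · simp only [Fin.sum_univ_two, Matrix.cons_val, fact_val _ one_lt_two, fact_val _ two_pos]
      simp; ring

omit hp in
theorem mem_range_of_lt {β : Fin N → ℕ} (hβ : Function.Injective β) {n x : ℕ}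
    (e : ∑ i, β i = n + ρ N) (h : x + n < N) : ∃ i, β i = x := by
  by_contra! h0
  have h1 := ρ_le' (β := fun i => if β i < x then β i else β i - 1) fun i j e => hβ (by
    have := h0 i; have := h0 j
    beta_reduce at e
    split_ifs at e <;> omega)
  have h2 : ∑ i, β i = ∑ i, ((if β i < x then β i else β i - 1) + if ¬ β i < x then 1 else 0) :=
    sum_congr rfl fun i _ => by have := h0 i; split_ifs <;> omega
  have h3 := card_le_card_of_injOn (s := {i | β i < x}) (t := range x) β (fun i => by simp)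
    hβ.injOn
  have h4 := card_filter_add_card_filter_not (s := univ) fun i => β i < x
  rw [sum_add_distrib, ← card_filter] at h2
  simp only [card_range, card_univ, Fintype.card_fin] at h3 h4
  omega

theorem exists_top {β : Fin N → ℕ} (hβ : Function.Injective β) {n r : ℕ}
    (e : ∑ i, β i = n + ρ N) (h : 2 * p + n ≤ N) (hr : r < p) :
    ∃ i j, cr p β i % p = r ∧ Top p (cr p β) i ∧ cr p β j + p = cr p β i := by
  obtain ⟨i, hi⟩ := mem_range_of_lt hβ e (x := r) (by omega)
  obtain ⟨j, hj⟩ := mem_range_of_lt hβ e (x := r + p) (by omega)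
  obtain ⟨t, ht⟩ := Nat.exists_eq_add_of_le' (show 2 ≤ ty p β r from one_lt_card.2
    ⟨i, by simp [hi, Nat.mod_eq_of_lt hr], j, by simp [hj, Nat.mod_eq_of_lt hr],
      fun e => by rw [e] at hi; omega⟩)
  obtain ⟨i, h1, h2⟩ := exists_rk hβ (show t + 1 < ty p β r by omega)
  obtain ⟨j, h3, h4⟩ := exists_rk hβ (show t < ty p β r by omega)
  refine ⟨i, j, by rw [cr_mod hp.out.pos, h1], fun k hk => ?_, by rw [cr, cr, h1, h2, h3, h4]; ring⟩
  rw [cr_mod hp.out.pos, cr_mod hp.out.pos] at hk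
  have := rk_lt_ty (p := p) (β := β) k
  rw [hk, h1] at this
  rw [cr, cr, hk, h2]
  gcongr
  omega

variable {B : Set (IrrCharacter (Perm α))}

theorem exists_weight (hB : IsPBlock M B) : ∃ w,
    (∀ D, IsDefectGroup p M B D → ∃ (s : Finset α) (S : Sylow p (Perm s)) (φ : Perm s →* Perm α),
      #s = p * w ∧ Function.Injective φ ∧ (∀ g, Perm.sign (φ g) = Perm.sign g) ∧ D = S.1.map φ) ∧
    (∀ b, Cv (CP (Ioo 0 p) w) b → blockRank p B ≤ b) ∧
    blockDefect p B = w + w.factorial.factorization p ∧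
    (∀ χ ∈ B, blockHeight p B χ.1 ≤ w.factorial.factorization p) ∧
    (3 ≤ p → p ≤ w → ∃ χ ∈ B, blockHeight p B χ.1 = 1) ∧
    (p = 2 → 3 ≤ w → ∃ χ ∈ B, blockHeight p B χ.1 = 1 ∧ ∃ g, Perm.sign g = -1 ∧ χ.1 g ≠ 0) ∧
    (p = 2 → Odd w → ∀ χ ∈ B, ∃ g, Perm.sign g = -1 ∧ χ.1 g ≠ 0) := by
  obtain ⟨χ, hχ⟩ := block_nonempty hB
  obtain ⟨N, hN⟩ : ∃ N, 2 * p + Fintype.card α ≤ N := ⟨_, le_rfl⟩
  obtain ⟨β, hβ, e⟩ := exists_chi (N := N) (by omega) χ
  obtain ⟨e1, hβ'⟩ := mem_Ω.1 hβ
  replace hβ' := hβ'.injective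
  have hp0 := hp.out.pos
  have hU := (isSat_US (M := M) (N := N) (by omega) (ty p β)).subset_of_mem hB ⟨β, hβ, rfl, e⟩ hχ
  have hκ := core_cr hp0 hβ'
  have h0 := sum_cr hp0 hβ'
  have h0' := ρ_le' hκ.inj
  obtain ⟨z, hz⟩ := (Perm.exists_with_cycleType_iff α (m := .replicate (wt p β) p)).2
    ⟨by rw [Multiset.sum_replicate, smul_eq_mul, mul_comm]; omega,
      fun a h => Multiset.eq_of_mem_replicate h ▸ hp.out.two_le⟩
  have hs : #z.support = p * wt p β := by
    rw [← Perm.sum_cycleType, hz, Multiset.sum_replicate, smul_eq_mul, mul_comm]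
  have h1 : ∀ ψ ∈ B, ∃ γ : Fin N → ℕ, Function.Injective γ ∧ ∑ i, γ i = Fintype.card α + ρ N ∧
      wt p γ = wt p β ∧ ψ.1 = chi γ := fun ψ h => by
    obtain ⟨γ, h1, h2, h3⟩ := hU h
    have := mem_Ω.1 h1
    exact ⟨γ, this.2.injective, this.1, wt_eq hp0 hβ' this.2.injective h2 (this.1.trans e1.symm), h3⟩
  obtain ⟨z', hz'⟩ := (Perm.mem_range_ofSubtype_iff (p := (· ∈ z.support)) (g := z)).2 subset_rfl
  obtain ⟨S, hS⟩ := (isPE_of_pow (p := p) (k := 1) (x := z') (Perm.ofSubtype_injective (by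
    rw [map_pow, hz', pow_one, pow_eq_one hz, map_one]))).isPGroup_zpowers.exists_le_sylow
  have hD := isDefectGroup hz hB hχ (e ▸ chi_ne_zero hz hβ' e1 rfl) (fun ψ h g h2 h3 => by
    obtain ⟨γ, h4, -, h5, h6⟩ := h1 ψ h
    rw [h6, chi_eq_zero hz h4 h5 h2 h3]) (by
      rw [MonoidHom.range_eq_map]
      exact (sylIn_top S).map_of_injective _ Perm.ofSubtype_injective) (Subgroup.mem_map.2 ⟨z', hS (Subgroup.mem_zpowers _), hz'⟩)
  have hd : blockDefect p B = wt p β + (wt p β).factorial.factorization p := by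
    have := IsDefectGroup.card hB hD
    rw [Subgroup.card_map_of_injective Perm.ofSubtype_injective, S.card_eq_multiplicity,
      Nat.card_perm, Nat.card_eq_fintype_card, Fintype.card_coe, hs, ← add_zero (p * _),
      fact_val _ hp0] at this
    exact (Nat.pow_right_injective hp.out.two_le this).symm
  have h2 : ∀ ψ ∈ B, ∀ γ : Fin N → ℕ, Function.Injective γ → ∑ i, γ i = Fintype.card α + ρ N →
      ∀ ε : ℤˣ, ψ.1 = ((ε : ℤ) : ℂ) • chi γ → blockHeight p B ψ.1 + ∑ i, ∑ c ∈ gap p γ i,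
        (γ i - c).factorization p = blockDefect p B := fun ψ h γ h3 h4 ε h5 => by
    have h6 := factorization_add_defect (M := M) (p := p) h
    have h7 := V_val (p := p) h3 h4
    have h8 := charDegree_cast ψ.2.isCharacter
    rw [congrFun h5 1, Pi.smul_apply, chi_one, smul_eq_mul] at h8
    rw [Nat.card_perm, Nat.card_eq_fintype_card, show charDegree ψ.1 =
      (V γ (.replicate (Fintype.card α) 1)).natAbs by
      simpa [Int.natAbs_mul] using congrArg Int.natAbs (show (charDegree ψ.1 : ℤ) =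
        ε * V γ (.replicate (Fintype.card α) 1) by exact_mod_cast h8)] at h6
    omega
  have h3 : ∀ γ : Fin N → ℕ, Function.Injective γ → (∀ i, γ i % p = cr p β i % p) →
      ∑ i, γ i = ∑ i, cr p β i + p * wt p β → ∑ i, ∑ c ∈ gap p γ i, (γ i - c).factorization p + 1 =
        wt p β + (wt p β).factorial.factorization p → ∃ ψ ∈ B, blockHeight p B ψ.1 = 1 ∧
          ∃ ε : ℤˣ, ψ.1 = ((ε : ℤ) : ℂ) • chi γ := fun γ h3 h4 h5 h6 => by
    have h7 : ty p γ = ty p β := funext fun r => by simp only [ty, h4, cr_mod hp0]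
    rw [h0, e1] at h5
    obtain ⟨ψ, -, ε, h8⟩ := mem_US (α := α) (P := fun _ => True) (by simp) h3 h5 trivial
    have h9 := same_block hz hβ' h3 h7 e1 h5 rfl (e.trans (one_smul ℂ _).symm) h8
      (isSat_of_isPBlock hB) hχ
    exact ⟨ψ, h9, by have := h2 ψ h9 γ h3 h5 ε h8; omega, ε, h8⟩
  haveI : Nonempty (Fin N) := ⟨⟨0, by omega⟩⟩
  choose! t t' h4 h5 h6 using fun r => exists_top hβ' (r := r) e1 hN
  have h7 : ∀ k ≤ p, ∀ x : Fin k → ℕ, ∑ i, x i = wt p β →
      ∑ i, (x i).factorial.factorization p + 1 = (wt p β).factorial.factorization p →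
      ∃ a : Fin N → ℕ, (∀ i, a i ≠ 0 → Top p (cr p β) i) ∧ ∑ i, a i = wt p β ∧ (∀ j, ∃ i, a i = x j) ∧
        ∃ ψ ∈ B, blockHeight p B ψ.1 = 1 ∧
        ∃ ε : ℤˣ, ψ.1 = ((ε : ℤ) : ℂ) • chi fun i => cr p β i + p * a i := fun k hk x e2 e3 => by
    have ht : Function.Injective fun j : Fin k => t j := fun i j e => Fin.ext (by
      rw [← h4 i (by omega), ← h4 j (by omega), show t i = t j from e])
    have h8 : ∀ f : ℕ → ℕ, f 0 = 0 → ∑ j, f (x j) =
        ∑ i, f (Function.extend (fun j : Fin k => t j) x 0 i) := fun f hf =>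
      Fintype.sum_of_injective _ ht _ _ (fun i hi => by
        rw [Function.extend_apply' _ _ _ hi]; exact hf) fun j => by rw [ht.extend_apply]
    have h9 : ∀ i, Function.extend (fun j : Fin k => t j) x 0 i ≠ 0 → Top p (cr p β) i :=
      fun i hi => by
        obtain ⟨j, rfl⟩ : ∃ j : Fin k, t j = i := by_contra fun e =>
          hi (Function.extend_apply' _ _ _ e)
        exact h5 j (by omega)
    have e4 := (h8 id rfl).symm.trans e2
    refine ⟨_, h9, e4, fun j => ⟨t j, ht.extend_apply _ _ j⟩, h3 _ (top_inj hκ h9) (by simp) ?_ ?_⟩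
    · rw [sum_add_distrib, ← mul_sum, ← e4]; rfl
    · rw [top_val hκ h9 hp.out, sum_add_distrib, ← e3,
        h8 (fun a => a.factorial.factorization p) (by simp), ← e4, add_assoc]; rfl
  have h8 : p = 2 → Odd (wt p β) → ∀ χ ∈ B, ∃ g, Perm.sign g = -1 ∧ χ.1 g ≠ 0 := by
    rintro rfl h ψ hψ
    obtain ⟨γ, h4, h5, h6, h7⟩ := h1 ψ hψ
    refine ⟨z, ?_, h7 ▸ chi_ne_zero hz h4 h5 h6⟩
    rw [Perm.sign_of_cycleType, hz, Odd.neg_one_pow]
    rw [Multiset.sum_replicate, Multiset.card_replicate, smul_eq_mul]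
    exact (even_two.mul_left _).add_odd h
  refine ⟨wt p β, fun D h => ?_, fun b h => (blockRank_mono hU).trans
    (blockRank_US (M := M) (by omega) hβ' e1 h), hd, fun ψ h => ?_, fun e2 e3 => ?_, ?_, h8⟩
  · obtain ⟨x, rfl⟩ := IsDefectGroup.exists_cj_eq hB hD h
    exact ⟨_, S, (MulAut.conj x).toMonoidHom.comp Perm.ofSubtype, hs, (MulAut.conj x).injective.comp
      Perm.ofSubtype_injective, fun g => by simp [mul_right_comm], Subgroup.map_map _ _ _⟩
  · obtain ⟨γ, h4, h5, h6, h7⟩ := h1 ψ h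
    have := h2 ψ h γ h4 h5 1 (by simp [h7])
    have := wt_le (β := γ) hp.out
    omega
  · obtain ⟨x, e4, e5⟩ := exists_three e2 e3
    obtain ⟨-, -, -, -, ψ, e6, e7, -⟩ := h7 3 e2 x e4 e5
    exact ⟨ψ, e6, e7⟩
  rintro rfl e2
  by_cases e3 : wt 2 β % 4 = 3
  · obtain ⟨e4, e5⟩ := hook hκ (h5 0 two_pos) (h6 0 two_pos) e3
    obtain ⟨ψ, e6, e7, -⟩ := h3 _ e4 (fun i => by
      rw [Pi.add_apply, Pi.single_apply]; split_ifs <;> simp) (by simp [sum_add_distrib]) e5
    exact ⟨ψ, e6, e7, h8 rfl (Nat.odd_iff.2 (by omega)) ψ e6⟩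
  obtain ⟨x, e4, e5⟩ := exists_two (by omega) e3
  obtain ⟨a, f1, f2, f3, ψ, e6, e7, ε, e8⟩ := h7 2 le_rfl x e4 e5
  refine ⟨ψ, e6, e7, (Nat.even_or_odd (wt 2 β)).elim (fun e9 => ?_) fun e9 => h8 rfl e9 ψ e6⟩
  obtain ⟨i, hi⟩ : ∃ i, 2 ≤ a i := by
    obtain ⟨i, hi⟩ := f3 0
    obtain ⟨j, hj⟩ := f3 1
    rw [Fin.sum_univ_two] at e4
    by_cases 2 ≤ a i
    exacts [⟨i, ‹_›⟩, ⟨j, by omega⟩]
  obtain ⟨π, f4, f5⟩ := V_four hκ f1 hi
  obtain ⟨g, hg⟩ := exists_parts (α := α) (μ := 4 ::ₘ (.replicate (∑ i, a i - 2) 2 +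
    .replicate (Fintype.card α - 2 * wt 2 β) 1)) (fun x hx => by
      simp only [Multiset.mem_cons, Multiset.mem_add, Multiset.mem_replicate] at hx; omega)
    (by simp; omega)
  refine ⟨g, ?_, ?_⟩
  · rw [Perm.sign_of_cycleType, ← Perm.filter_parts_partition_eq_cycleType, hg, Odd.neg_one_pow]
    rw [Multiset.filter_cons_of_pos _ (by simp), Multiset.filter_add,
      Multiset.filter_eq_self.2 fun a h => (Multiset.eq_of_mem_replicate h).ge,
      Multiset.filter_eq_nil.2 fun a h => by simp [Multiset.eq_of_mem_replicate h]]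
    simp only [Nat.odd_iff, Nat.even_iff] at e9 ⊢
    simp; omega
  · rw [e8, Pi.smul_apply, chi, hg, f5, smul_eq_mul, ← Int.cast_mul, Int.cast_ne_zero]
    exact mul_ne_zero ε.ne_zero (mul_ne_zero (by omega) (V_one_ne_zero hκ.inj (by omega)))

end Sn
end H7
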