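import Cfsg.Agent.H7.Sn3
import Cfsg.Agent.H7.Quot
import Cfsg.Agent.H7.Misc
import Cfsg.Agent.H7.Fong
import Cfsg.Agent.H6.Clifford
import Cfsg.Agent.H3.Tate
import Cfsg.Agent.H2.Syl
/-! Blocks over a subgroup of index two (`idx_two`, `blockRank_le_two_mul`), automorphisms permute
Brauer characters (`exists_bch_equiv`), Sylow subgroups of symmetric groups as wreath products
(`Sn.exists_syl`, `Sn.exists_deg`), and blocks of alternating groups (`Sn.alt_weight`). -/
open H5 Cfsg Finset Equiv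
namespace H7
variable {G : Type*} [Group G] {M : Ideal AlgInt} {p : ℕ}

theorem eq_top_of_index_prime {N K : Subgroup G} (hN : N.index.Prime) (h : N ≤ K) (h' : ¬ K ≤ N) :
    K = ⊤ := Subgroup.index_eq_one.1 (((Nat.dvd_prime hN).1 (Subgroup.index_dvd_of_le h)).resolve_right
  fun e => h' (Subgroup.relIndex_eq_one.1 (Nat.eq_of_mul_eq_mul_right hN.pos (by
    rw [one_mul, ← e, Subgroup.relIndex_mul_index h, e]))))

theorem exists_deg_of_index [Finite G] {H : Subgroup G} [hH : H.Normal] (h : H.index.Prime)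
    (l : H →* ℂˣ) {g : G} {x : H} (e : l ⟨g * x * g⁻¹, hH.conj_mem _ x.2 g⟩ ≠ l x) :
    ∃ φ : IrrCharacter G, charDegree φ.1 = H.index := by
  cases nonempty_fintype G
  have h1 := (isCharacter_hom l).isIrr_of_apply_one (by simp)
  refine ⟨⟨_, H6.isIrr_ind_of_inertia_le h1 (by_contra fun h2 => e (Units.ext ?_))⟩,
    charDegree_eq (by simp [indFun_apply_one])⟩
  exact congrFun (H6.inertia_eq_top_iff.1 (eq_top_of_index_prime h
    (H6.le_inertia h1.isCharacter.isClassFunction) h2) g) x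

section two
variable [Fintype G] {N : Subgroup G} [N.Normal] [Fintype N] (hN : N.index = 2)
include hN

theorem idx_two {χ : G → ℂ} (hχ : IsIrrCharacter G χ) {ψ : N → ℂ} (hψ : IsIrrCharacter N ψ)
    (h : classInner (fun n : N => χ n) ψ ≠ 0) : (fun n : N => χ n) = ψ ∨ χ = indFun N ψ := by
  have h0 := frobenius_reciprocity' N ψ hχ.isCharacter.isClassFunction
  by_cases h1 : H6.inertia ψ ≤ N
  · exact .inr (hχ.eq_of_classInner_ne_zero (H6.isIrr_ind_of_inertia_le hψ h1) (h0 ▸ h))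
  have h2 := H6.inertia_eq_top_iff.1 (eq_top_of_index_prime (hN ▸ Nat.prime_two)
    (H6.le_inertia hψ.isCharacter.isClassFunction) h1)
  obtain ⟨e, h3, h4, h5⟩ := H6.exists_res_eq_nsmul_of_invariant hχ hψ h2 h
  have h6 := hψ.isCharacter.indFun.isGen
  obtain ⟨k, hk⟩ := (h6.sub (hχ.isGen.intCast_smul e)).exists_classInner_self_nat
  rw [h6.classInner_sub_smul_self hχ (by rw [h6.classInner_comm hχ.isGen, h0, h4]; simp),
    H6.inner_ind_self_of_invariant hψ h2, hN] at hk
  have : (2 : ℤ) - e ^ 2 = k := by exact_mod_cast hk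
  obtain rfl : e = 1 := by nlinarith
  exact .inl (by simpa using h5)

theorem sum_cj {ψ : N → ℂ} (hψ : IsClassFunction N ψ) {x : G} (hx : x ∉ N) :
    ∑ g, H6.cj ψ g = (Nat.card N : ℂ) • (ψ + H6.cj ψ x) := by
  classical
  rw [← Fintype.sum_subtype_add_sum_subtype (· ∈ N), sum_congr rfl fun g _ => H6.cj_of_mem hψ g.2,
    ← Fintype.sum_equiv (ι := N) (κ := {g // g ∉ N}) ⟨fun n => ⟨n * x, by simp [hx, N.mul_mem_cancel_left]⟩, fun g =>
      ⟨g * x⁻¹, by simp [N.mul_mem_iff_of_index_two hN, hx, g.2]⟩, fun _ => by simp, fun _ => by simp⟩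
      (fun _ => H6.cj ψ x) _ fun n => by simp [H6.cj_mul, H6.cj_of_mem hψ n.2]]
  simp only [sum_const, card_univ, ← Nat.card_eq_fintype_card, smul_add, Nat.cast_smul_eq_nsmul]

omit hN [N.Normal] [Fintype N] in
theorem blockRank_le_of_res {b : Set (IrrCharacter N)} {B : Set (IrrCharacter G)}
    (h : ∀ ψ ∈ b, ∃ χ ∈ B, (fun n : N => χ.1 n) = ψ.1) : blockRank p b ≤ blockRank p B := by
  refine le_trans (Submodule.finrank_mono ?_)
    (Submodule.finrank_map_le (LinearMap.funLeft ℂ ℂ N.subtype) _)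
  rw [Submodule.map_span]
  refine Submodule.span_mono ?_
  rintro _ ⟨ψ, hψ, rfl⟩
  obtain ⟨χ, hχ, e⟩ := h ψ hψ
  refine ⟨_, ⟨χ, hχ, rfl⟩, ?_⟩
  simp only [pRegularPart_eq]
  rw [show (ψ : N → ℂ) = _ from e.symm]
  exact reg_comp N.subtype_injective _

variable [hp : Fact p.Prime] [PM p M]

omit hN [Fintype G] in
theorem exists_bch_equiv [Finite G] (σ : G ≃* G) (i : IBr M G) :
    ∃ j : IBr M G, bch p j = fun x => bch p i (σ x) := by
  have h0 : ∀ (σ : G ≃* G) (i : IBr M G), (fun x => bch p i (σ x)) =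
      ∑ j, (bres σ.toMonoidHom i j : ℂ) • bch p j := fun σ i => funext fun x => by
    by_cases h : p ∣ orderOf x
    · simp [bch_of_dvd, h]
    · simpa using bch_comp σ.toMonoidHom i h
  have h1 : ∑ k, ((∑ j, (bres σ.toMonoidHom i j * bres σ.symm.toMonoidHom j k : ℂ)) -
      if k = i then 1 else 0) • bch p k = 0 := by
    simp only [sub_smul, sum_sub_distrib, sum_smul, mul_smul, ite_smul, one_smul, zero_smul,
      sum_ite_eq', mem_univ, if_true, sub_eq_zero]
    rw [sum_comm]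
    simp only [← smul_sum, ← h0]
    exact funext fun x => by simpa using (congrFun (h0 σ i) (σ.symm x)).symm
  have h2 := congrFun (bch_indep h1) i
  simp only [if_true, Pi.zero_apply, sub_eq_zero] at h2
  obtain ⟨j, -, hj⟩ := exists_ne_zero_of_sum_ne_zero (h2 ▸ one_ne_zero)
  obtain ⟨h3, h4⟩ := mul_ne_zero_iff.1 hj
  have h5 := bdeg_eq_sum (p := p) σ.toMonoidHom i
  have h6 := single_le_sum (f := fun k => bres σ.symm.toMonoidHom j k * bdeg k)
    (fun _ _ => Nat.zero_le _) (mem_univ i)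
  rw [← bdeg_eq_sum (p := p)] at h6
  rw [← add_sum_erase _ _ (mem_univ j)] at h5
  have h7 := bdeg_pos j
  have h8 := Nat.pos_of_ne_zero (Nat.cast_ne_zero.1 h3)
  have h9 := Nat.pos_of_ne_zero (Nat.cast_ne_zero.1 h4)
  have ha := Nat.le_mul_of_pos_left (bdeg i) h9
  have hb := Nat.le_mul_of_pos_left (bdeg j) h8
  refine ⟨j, ?_⟩
  rw [h0, sum_eq_single j (fun k _ hk => ?_) (by simp), show bres _ i j = 1 from
    Nat.eq_of_mul_eq_mul_right h7 (by omega)]
  · simp
  · rw [(mul_eq_zero.1 (sum_eq_zero_iff.1 (show ∑ x ∈ univ.erase j, bres σ.toMonoidHom i x *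
      bdeg x = 0 by omega) k (mem_erase.2 ⟨hk, mem_univ _⟩))).resolve_right (bdeg_pos k).ne']
    simp

theorem blockRank_le_two_mul {b : Set (IrrCharacter N)} (hb : IsSat M b) {B : Set (IrrCharacter G)}
    (h : ∀ ψ ∈ b, ∃ χ ∈ B, classInner (fun n : N => χ.1 n) ψ.1 ≠ 0) :
    blockRank p b ≤ 2 * blockRank p B := by
  classical
  obtain ⟨x, hx, -⟩ := Subgroup.index_eq_two_iff_exists_notMem_and.1 hN
  let σ : N ≃* N := MulAut.conjNormal x
  choose τ hτ using exists_bch_equiv (M := M) (p := p) σ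
  have h1 : ∀ i, τ (τ i) = i := fun i => bch_injective (p := p) (by
    rw [hτ, hτ]
    exact (H6.cj_mul _ x x).symm.trans (H6.cj_of_mem (isClassFunction_bch i)
      (N.mul_self_mem_of_index_two hN x)))
  let f := Fintype.equivFin (IBr M N)
  let I : Finset (IBr M N) := {i | i ∈ IB M b ∧ (τ i ∈ IB M b → f i ≤ f (τ i))}
  have h2 : Nat.card (IB M b) ≤ 2 * #I := by
    rw [Nat.card_eq_card_toFinset, two_mul]
    refine (card_le_card fun i hi => ?_).trans ((card_union_le I (I.image τ)).trans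
      (add_le_add_right card_image_le _))
    rw [Set.mem_toFinset] at hi
    by_cases e : i ∈ I
    · exact mem_union_left _ e
    · simp only [I, mem_filter, mem_univ, true_and, hi, Classical.not_imp, not_le] at e
      exact mem_union_right _ (mem_image.2 ⟨τ i, by simp [I, e.1, h1, e.2.le], h1 i⟩)
  rw [hb.blockRank_eq_card]
  refine h2.trans (Nat.mul_le_mul_left _ (le_trans ?_
    (Submodule.finrank_map_le (LinearMap.funLeft ℂ ℂ N.subtype) _)))
  have h3 : LinearIndependent ℂ fun i : I => bch p i.1 + bch p (τ i) :=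
    Fintype.linearIndependent_iff.2 fun a ha i => by
      have := congrArg (classInner · (pim i.1)) ha
      simp only [classInner_sum_left, classInner_smul_left, classInner_add_left, inner_bch_pim,
        classInner_zero_left] at this
      rw [sum_eq_single i (fun k _ hk => ?_) (by simp)] at this
      · rw [if_pos rfl] at this
        split_ifs at this
        · simpa [one_add_one_eq_two] using this
        · simpa using this
      · have h4 := (mem_filter.1 i.2).2
        have h5 := (mem_filter.1 k.2).2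
        rw [if_neg fun e => hk (Subtype.ext e.symm), if_neg fun e : i.1 = τ k => hk ?_]
        · simp
        rw [e, h1] at h4
        exact Subtype.ext ((f.injective (le_antisymm (h5.2 h4.1) (h4.2 h5.1))).trans e.symm)
  rw [← Fintype.card_coe, ← finrank_span_eq_card h3]
  refine Submodule.finrank_mono (Submodule.span_le.2 ?_)
  rintro _ ⟨i, rfl⟩
  have h4 := hb.span_eq (p := p) ▸ Submodule.subset_span (R := ℂ)
    (Set.mem_image_of_mem (bch p) (mem_filter.1 i.2).2.1)
  simp only [hτ]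
  refine Submodule.mem_comap.1 ((Submodule.span_le (p := Submodule.comap
    (LinearMap.id + LinearMap.funLeft ℂ ℂ σ) (Submodule.map (LinearMap.funLeft ℂ ℂ N.subtype) _))).2 ?_ h4)
  rintro _ ⟨ψ, hψ, rfl⟩
  obtain ⟨χ, hχ, e⟩ := h ψ hψ
  have h5 := H6.clifford_res χ.2 ψ.2 e
  rw [sum_cj hN ψ.2.isCharacter.isClassFunction hx, smul_smul] at h5
  refine ⟨((classInner (fun n : N => χ.1 n) ψ.1 * Nat.card N)⁻¹ * Nat.card (H6.inertia ψ.1)) •
    pRegularPart p χ.1, Submodule.smul_mem _ _ (Submodule.subset_span ⟨χ, hχ, rfl⟩), funext fun n => ?_⟩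
  have h6 := congrFun h5 n
  by_cases h7 : p ∣ orderOf n
  · simp [pRegularPart_eq, reg_of_dvd, h7]
  · simp only [pRegularPart_eq, map_smul, Pi.smul_apply, LinearMap.funLeft_apply, smul_eq_mul,
      LinearMap.add_apply, LinearMap.id_apply, Pi.add_apply] at h6 ⊢
    rw [reg_of_not_dvd _ (by simpa using h7), reg_of_not_dvd _ h7, reg_of_not_dvd _ (by simpa using h7),
      mul_assoc, inv_mul_eq_iff_eq_mul₀ (mul_ne_zero e (by simp))]
    exact h6

end two
theorem card_le_of_sec {D E : Type*} [Group D] [Group E] [Finite D] {s : ℕ}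
    (hs : SectionalPRankLE p s D) {ψ : E →* D} (h : Function.Injective ψ)
    (hc : ∀ a b : E, a * b = b * a) (he : ∀ a : E, a ^ p = 1) : Nat.card E ≤ p ^ s := by
  let f := ((QuotientGroup.mk' (⊥ : Subgroup (⊤ : Subgroup D))).comp
    Subgroup.topEquiv.symm.toMonoidHom).comp ψ
  have hf : Function.Injective f := (((MonoidHom.ker_eq_bot_iff _).1 (QuotientGroup.ker_mk' _)).comp
    Subgroup.topEquiv.symm.injective).comp h
  rw [Nat.card_congr (MonoidHom.ofInjective hf).toEquiv]
  exact hs ⊤ ⊥ f.range ⟨⟨by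
    rintro ⟨_, a, rfl⟩ ⟨_, b, rfl⟩; exact Subtype.ext (by simp only [Subgroup.coe_mul, ← map_mul, hc])⟩⟩
    (by rintro _ ⟨a, rfl⟩; rw [← map_pow, he, map_one])

namespace Sn
variable {ι V γ : Type*} [Group V]

/-- The permutational wreath product. -/
abbrev Wr (ι V : Type*) [Group V] := (ι → V) ⋊[mulAutArrow] Perm ι

/-- The imprimitive action of the wreath product. -/
def wr : Wr ι V →* Perm (ι × V) := @MulAction.toPermHom _ _ _
  { smul g x := (g.right x.1, g.left (g.right x.1) * x.2)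
    one_smul _ := Prod.ext rfl (one_mul _)
    mul_smul g h x := Prod.ext rfl (by
      change (g * h).left ((g * h).right x.1) * x.2 = g.left _ * (h.left _ * _)
      simp [mul_assoc, arrowAction, HSMul.hSMul, SMul.smul]) }

theorem wr_apply (g : Wr ι V) (x : ι × V) :
    wr g x = (g.right x.1, g.left (g.right x.1) * x.2) := rfl

theorem wr_inj : Function.Injective (wr : Wr ι V → _) :=
  (injective_iff_map_eq_one _).2 fun g h => by
    have := fun i => Prod.ext_iff.1 ((wr_apply g (i, 1)).symm.trans (Equiv.ext_iff.1 h _))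
    simp only [Perm.one_apply, mul_one] at this
    exact SemidirectProduct.ext (funext fun i => by simpa [(this i).1] using (this i).2)
      (Equiv.ext fun i => (this i).1)

variable [Fintype ι] [DecidableEq ι] [Fintype V] [DecidableEq V] [Fintype γ] [DecidableEq γ]

theorem exists_wr (h : Fintype.card ι * Fintype.card V ≤ Fintype.card γ) :
    ∃ ψ : Wr ι V →* Perm γ, Function.Injective ψ ∧ ∀ t, Perm.sign (ψ (.inl t)) =
      ∏ i, Perm.sign (Equiv.mulLeft (t i)) := by
  classical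
  obtain ⟨e⟩ := Function.Embedding.nonempty_of_card_le (α := ι × V) (β := γ) (by simpa)
  refine ⟨(Perm.extendDomainHom e.toEquivRange).comp wr,
    (Perm.extendDomainHom_injective _).comp wr_inj, fun t => ?_⟩
  rw [← Perm.sign_prodCongrRight]
  exact Perm.sign_extendDomain _ _

theorem sign_cj (x g : Perm γ) : Perm.sign (MulAut.conj x g) = Perm.sign g := by
  simp [mul_right_comm]

instance : Finite (Wr ι V) := Finite.of_equiv _ SemidirectProduct.equivProd.symm

variable [hp : Fact p.Prime]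

theorem exists_map_le {W : Type*} [Group W] (ψ : W →* Perm γ) (S : Sylow p (Perm γ))
    {R : Subgroup W} (hR : IsPGroup p R) : ∃ x, R.map ((MulAut.conj x).toMonoidHom.comp ψ) ≤ S := by
  obtain ⟨x, -, h⟩ := (sylIn_top S).exists_cj_le (hR.map ψ) le_top
  exact ⟨x, by rw [← Subgroup.map_map]; exact h⟩

theorem exists_base (h : Fintype.card ι * Fintype.card V ≤ Fintype.card γ) (hV : IsPGroup p V)
    (S : Sylow p (Perm γ)) : ∃ ψ : (ι → V) →* Perm γ, Function.Injective ψ ∧ (∀ t, ψ t ∈ S) ∧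
      ∀ t, Perm.sign (ψ t) = ∏ i, Perm.sign (Equiv.mulLeft (t i)) := by
  obtain ⟨ψ, h1, h2⟩ := exists_wr h
  obtain ⟨k, hk⟩ := IsPGroup.iff_card.1 hV
  obtain ⟨x, hx⟩ := exists_map_le (ψ.comp SemidirectProduct.inl) S (R := ⊤)
    (IsPGroup.of_card (n := k * Fintype.card ι) (by simp [pow_mul, ← hk]))
  exact ⟨_, (MulAut.conj x).injective.comp (h1.comp SemidirectProduct.inl_injective),
    fun t => hx ⟨t, trivial, rfl⟩, fun t => (sign_cj _ _).trans (h2 t)⟩

theorem exists_syl (S : Sylow p (Perm γ)) {w : ℕ} (hw : Fintype.card γ / p = w) :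
    ∃ (R : Sylow p (Wr (Fin w) (Multiplicative (ZMod p)))) (ψ : _ →* Perm γ), Function.Injective ψ ∧
      R.1.map ψ = S ∧ ∀ t, Perm.sign (ψ (.inl t)) = ∏ i, Perm.sign (Equiv.mulLeft (t i)) := by
  obtain ⟨ψ, h1, h2⟩ := exists_wr (ι := Fin w) (V := Multiplicative (ZMod p)) (γ := γ)
    (by simpa [← hw] using Nat.div_mul_le_self _ _)
  obtain ⟨R⟩ : Nonempty (Sylow p (Wr (Fin w) (Multiplicative (ZMod p)))) := inferInstance
  obtain ⟨x, hx⟩ := exists_map_le ψ S R.2
  have h3 := (MulAut.conj x).injective.comp h1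
  refine ⟨R, _, h3, Subgroup.eq_of_le_of_card_ge hx ?_, fun t => (sign_cj _ _).trans (h2 t)⟩
  rw [Subgroup.card_map_of_injective h3, S.card_eq_multiplicity, R.card_eq_multiplicity,
    SemidirectProduct.card, Nat.card_perm, Nat.card_perm, Nat.card_eq_fintype_card,
    ← Nat.div_add_mod (Fintype.card γ) p, fact_val _ (Nat.mod_lt _ hp.out.pos), hw,
    Nat.factorization_mul (by simp [hp.out.ne_zero]) (Nat.factorial_ne_zero _)]
  simp [hp.out.factorization_self]

section syl
variable {w : ℕ} (R : Sylow p (Wr (Fin w) (Multiplicative (ZMod p))))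

theorem inl_mem (t : Fin w → Multiplicative (ZMod p)) : SemidirectProduct.inl t ∈ R.1 := by
  have : IsPGroup p (SemidirectProduct.rightHom (φ := mulAutArrow (G := Perm (Fin w))
      (A := Fin w) (M := Multiplicative (ZMod p)))).ker := by
    rw [← SemidirectProduct.range_inl_eq_ker_rightHom]
    exact (IsPGroup.of_card (n := w) (by simp)).of_surjective _ (MonoidHom.rangeRestrict_surjective _)
  exact this.le_sylow_of_normal R (by simp)

theorem card_map_right : Nat.card (R.1.map SemidirectProduct.rightHom) =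
    p ^ w.factorial.factorization p := by
  simpa [Fintype.card_perm] using (R.mapSurjective SemidirectProduct.rightHom_surjective).card_eq_multiplicity

theorem exists_right (h : p ≤ w) : ∃ g ∈ R.1, ∃ i, g.right i ≠ i := by
  by_contra! h0
  have := card_map_right R
  rw [(Subgroup.map_eq_bot_iff _).2 fun g hg => Equiv.ext (h0 g hg), Subgroup.card_bot, eq_comm,
    Nat.pow_eq_one, Nat.factorization_eq_zero_iff] at this
  simp [hp.out, hp.out.ne_one, Nat.factorial_ne_zero, hp.out.dvd_factorial, h] at this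

end syl

theorem exists_deg_sub {V : Type*} [CommGroup V] [Fintype V] [DecidableEq V] {R : Subgroup (Wr ι V)}
    (hR : IsPGroup p R) {g : Wr ι V} (hg : g ∈ R) {i : ι} (hi : g.right i ≠ i) {t : ι → V}
    (ht : SemidirectProduct.inl t ∈ R) (h1 : t i ≠ 1)
    (h2 : ∀ x ∈ R, x.right i ≠ i → t (x.right i) = 1) :
    ∃ φ : IrrCharacter R, charDegree φ.1 = p := by
  classical
  let π : R →* Perm ι := SemidirectProduct.rightHom.comp R.subtype
  obtain ⟨H, hH, hle⟩ := (eq_top_or_exists_le_coatom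
    ((MulAction.stabilizer _ i).comap π)).resolve_left fun e => hi (e.ge (Subgroup.mem_top ⟨g, hg⟩))
  obtain ⟨_, hi⟩ := H3.index_eq_prime_of_isCoatom hR hH
  obtain ⟨ζ, hζ⟩ := CommGroup.exists_apply_ne_one_of_hasEnoughRootsOfUnity V ℂ h1
  let Δ : Finset ι := {j | ∃ h ∈ H, π h i = j}
  have hΔ : ∀ h ∈ H, ∀ j, π h j ∈ Δ ↔ j ∈ Δ := fun h hh j => by
    simp only [Δ, mem_filter, mem_univ, true_and]
    exact ⟨fun ⟨k, hk, e⟩ => ⟨h⁻¹ * k, H.mul_mem (H.inv_mem hh) hk, by simp [e]⟩,
      fun ⟨k, hk, e⟩ => ⟨h * k, H.mul_mem hh hk, by simp [e]⟩⟩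
  let l : H →* V := MonoidHom.mk' (fun h => ∏ j ∈ Δ, h.1.1.left j) fun a b => by
    rw [← prod_equiv (π a.1)⁻¹ (s := Δ) (t := Δ) (f := fun j => b.1.1.left ((π a.1)⁻¹ j))
      (g := b.1.1.left) (fun j => by rw [← map_inv, hΔ _ (H.inv_mem a.2)]) fun _ _ => rfl,
      ← prod_mul_distrib]
    rfl
  obtain ⟨x, -, hx⟩ := SetLike.exists_of_lt hH.1.lt_top
  rw [← hi]
  refine exists_deg_of_index (hi ▸ hp.out) (ζ.comp l) (g := x⁻¹) (x := ⟨⟨_, ht⟩, hle rfl⟩) ?_
  have h3 : ∀ y : R, ∏ j ∈ Δ, t (π y j) = if y ∈ H then t i else 1 := fun y => by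
    have h3 : ∀ j ∈ Δ, t (π y j) = if j = π y⁻¹ i then t i else 1 := fun j hj => by
      obtain ⟨-, h, -, rfl⟩ := mem_filter.1 hj
      split_ifs with e
      · simp [e]
      · exact h2 _ (y * h).2 fun e' => e (by
          rw [map_inv, Perm.eq_inv_iff_eq]; exact e')
    rw [prod_congr rfl h3, prod_ite_eq']
    refine if_congr ⟨fun e => ?_, fun e => mem_filter.2 ⟨mem_univ _, _, H.inv_mem e, rfl⟩⟩ rfl rfl
    obtain ⟨-, h, hh, e⟩ := mem_filter.1 e
    exact (H.mul_mem_cancel_right hh).1 (hle (show π (y * h) i = i by simp [e]))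
  have h4 := h3 1
  have h5 := h3 x
  simp only [map_one, Perm.one_apply, H.one_mem, if_true, hx, if_false] at h4 h5
  change ζ (∏ j ∈ Δ, ((x.1)⁻¹ * .inl t * (x.1)⁻¹⁻¹ : Wr ι V).left j) ≠ ζ (∏ j ∈ Δ, t j)
  rw [h4, prod_congr rfl (g := fun j => t (π x j)) fun j _ => ?_, h5, map_one]
  · exact hζ.symm
  · simp [π, mul_comm (_ : V) (t _), arrowAction, HSMul.hSMul, SMul.smul]

omit hp in
theorem deg_of_surj {A B : Type*} [Group A] [Group B] [Finite A] [Finite B] (π : A →* B)
    (hπ : Function.Surjective π) {d : ℕ} (h : ∃ φ : IrrCharacter B, charDegree φ.1 = d) :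
    ∃ φ : IrrCharacter A, charDegree φ.1 = d :=
  h.elim fun φ e => ⟨icomp π hπ φ, by simpa [charDegree] using e⟩

omit hp in
theorem deg_map {A B : Type*} [Group A] [Group B] [Finite A] [Finite B] {ψ : A →* B}
    (hψ : Function.Injective ψ) {R : Subgroup A} {d : ℕ}
    (h : ∃ φ : IrrCharacter R, charDegree φ.1 = d) :
    ∃ φ : IrrCharacter (R.map ψ), charDegree φ.1 = d :=
  deg_of_surj (R.equivMapOfInjective ψ hψ).symm.toMonoidHom (MulEquiv.surjective _) h

theorem exists_deg (S : Sylow p (Perm γ)) (h : p * p ≤ Fintype.card γ) :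
    ∃ φ : IrrCharacter S.1, charDegree φ.1 = p := by
  obtain ⟨R, ψ, h1, h2, -⟩ := exists_syl S rfl
  obtain ⟨g, hg, i, hi⟩ := exists_right R ((Nat.le_div_iff_mul_le hp.out.pos).2 h)
  exact h2 ▸ deg_map h1 (exists_deg_sub R.2 hg hi (inl_mem R (Pi.mulSingle i (.ofAdd 1)))
    (by simp) fun x _ hx => Pi.mulSingle_eq_of_ne hx _)

omit hp in
theorem prod_sign_single (i : ι) :
    ∏ j, Perm.sign (Equiv.mulLeft ((Pi.mulSingle i (.ofAdd 1) : ι → Multiplicative (ZMod 2)) j)) = -1 := by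
  rw [prod_eq_single i (fun j _ h => by simp [h]) (by simp), Pi.mulSingle_eq_same]
  decide

omit hp in
theorem exists_deg_alt (S : Sylow 2 (Perm γ)) (h : 6 ≤ Fintype.card γ) :
    ∃ φ : IrrCharacter (alternatingGroup γ ⊓ S.1 :), charDegree φ.1 = 2 := by
  obtain ⟨w, hw⟩ : ∃ w, Fintype.card γ / 2 = w := ⟨_, rfl⟩
  obtain ⟨R, ψ, h1, h2, h3⟩ := exists_syl S hw
  let R' := (alternatingGroup γ).comap ψ ⊓ R.1
  have h4 : R'.map ψ = alternatingGroup γ ⊓ S.1 := by
    rw [Subgroup.map_inf_eq _ _ _ h1, Subgroup.map_comap_eq, inf_comm ψ.range, inf_assoc, ← h2,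
      inf_eq_right.2 (Subgroup.map_le_range _ _)]
  have hR : IsPGroup 2 R' := R.2.to_le inf_le_right
  have h5 : ∀ g ∈ R.1, ∃ x ∈ R', x.right = g.right := fun g hg => by
    rcases Int.units_eq_one_or (Perm.sign (ψ g)) with e | e
    · exact ⟨g, ⟨e, hg⟩, rfl⟩
    · refine ⟨.inl (Pi.mulSingle ⟨0, by omega⟩ (.ofAdd 1)) * g, ⟨?_, R.1.mul_mem (inl_mem R _) hg⟩,
        by simp⟩
      change Perm.sign (ψ _) = 1
      rw [map_mul, map_mul, h3, prod_sign_single, e]
      rfl
  rw [← h4]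
  refine deg_map h1 ?_
  rcases (show w = 3 ∨ 4 ≤ w by omega) with rfl | hw4
  · obtain ⟨g, hg, i, hi⟩ := exists_right R (by norm_num)
    obtain ⟨g, hg, e⟩ := h5 g hg
    rw [← e] at hi
    obtain ⟨k, hk⟩ : ∃ k, ∀ x ∈ R', x.right i ≠ k := by
      by_contra! h0
      letI : MulAction R' (Fin 3) := .compHom _ (SemidirectProduct.rightHom.comp R'.subtype)
      obtain ⟨a, ha⟩ := hR.card_orbit i
      rw [show MulAction.orbit R' i = Set.univ from Set.eq_univ_of_forall fun k =>
        (h0 k).elim fun x hx => ⟨⟨x, hx.1⟩, hx.2⟩] at ha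
      have : 2 ∣ 3 ∨ a = 0 := by
        simp at ha
        exact (Nat.eq_zero_or_pos a).symm.imp_left fun h => ha ▸ dvd_pow_self 2 h.ne'
      rcases this with h | rfl <;> simp at *
    have hik : i ≠ k := hk 1 R'.one_mem
    refine exists_deg_sub hR hg hi (t := Pi.mulSingle i (.ofAdd 1) * Pi.mulSingle k (.ofAdd 1))
      ⟨?_, inl_mem R _⟩ (by simp [hik]) fun x hx e => by simp [e, hk x hx]
    change Perm.sign (ψ _) = 1
    rw [map_mul, map_mul, map_mul, h3, h3, prod_sign_single, prod_sign_single]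
    rfl
  · refine deg_of_surj ((SemidirectProduct.rightHom.comp R'.subtype).codRestrict
      (R.1.map SemidirectProduct.rightHom) fun x => ⟨x, x.2.2, rfl⟩) ?_ (exists_deg (R.mapSurjective SemidirectProduct.rightHom_surjective)
      (by simpa))
    rintro ⟨_, g, hg, rfl⟩
    obtain ⟨x, hx, e⟩ := h5 g hg
    exact ⟨⟨x, hx⟩, Subtype.ext e⟩

theorem le_alt (h : p ≠ 2) {S : Subgroup (Perm γ)} (hS : IsPGroup p S) : S ≤ alternatingGroup γ :=
  fun g hg => (Int.units_eq_one_or (Perm.sign g)).resolve_right fun e => by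
    obtain ⟨k, hk⟩ := hS ⟨g, hg⟩
    have := congrArg (fun x : S => Perm.sign x.1) hk
    simp [e, ((hp.out.odd_of_ne_two h).pow (n := k)).neg_one_pow] at this

omit hp in
theorem card_alt (S : Sylow 2 (Perm γ)) (h : 2 ≤ Fintype.card γ) :
    Nat.card (alternatingGroup γ ⊓ S.1 :) * 2 = Nat.card S.1 := by
  obtain ⟨ψ, -, h1, h2⟩ := exists_base (ι := Unit) (V := Multiplicative (ZMod 2)) (by simpa)
    (.of_card (n := 1) (by simp)) S
  haveI := Fintype.one_lt_card_iff_nontrivial.1 h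
  rw [← H2.card_inf_mul_relIndex (alternatingGroup γ) S.1, ((Nat.dvd_prime Nat.prime_two).1
    ((Subgroup.relIndex_dvd_index_of_normal (alternatingGroup γ) S.1).trans
    alternatingGroup.index_eq_two.dvd)).resolve_left fun e => ?_]
  have := Subgroup.relIndex_eq_one.1 e (h1 (Pi.mulSingle () (.ofAdd 1)))
  rw [Perm.mem_alternatingGroup, h2, prod_sign_single] at this
  exact absurd this (by decide)

theorem pow_le_of_sec {D : Type*} [Group D] [Finite D] {s w : ℕ} (hs : SectionalPRankLE p s D)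
    (S : Sylow p (Perm γ)) (hw : Fintype.card γ = p * w) (e : S.1 →* D) (he : Function.Injective e) :
    w ≤ s := by
  obtain ⟨ψ, h0, h1, -⟩ := exists_base (ι := Fin w) (V := Multiplicative (ZMod p))
    (by simp [hw, mul_comm]) (.of_card (n := 1) (by simp)) S
  have := card_le_of_sec hs (ψ := e.comp (ψ.codRestrict _ h1)) (he.comp fun a b h =>
    h0 (congrArg Subtype.val h)) mul_comm fun a => funext fun i => by
      simpa using pow_card_eq_one (x := a i)
  simpa [Nat.pow_le_pow_iff_right hp.out.one_lt] using this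

omit hp in
theorem pow_le_of_sec_alt {D : Type*} [Group D] [Finite D] {s w : ℕ} (hs : SectionalPRankLE 2 s D)
    (S : Sylow 2 (Perm γ)) (hw : Fintype.card γ = 2 * w) (e : (alternatingGroup γ ⊓ S.1 :) →* D)
    (he : Function.Injective e) : 2 * (w / 2) ≤ s := by
  obtain ⟨ψ, h0, h1, h2⟩ := exists_base (ι := Fin (w / 2)) (V := Multiplicative (ZMod 2 × ZMod 2))
    (by simp [hw]; omega) (.of_card (n := 2) (by simp)) S
  have := card_le_of_sec hs (ψ := e.comp (ψ.codRestrict _ fun t => ⟨(h2 t).trans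
    (prod_eq_one fun i _ => by generalize t i = v; revert v; decide), h1 t⟩)) (he.comp fun a b h =>
    h0 (congrArg Subtype.val h)) mul_comm fun a => funext fun i => by
      exact (by decide : ∀ v : Multiplicative (ZMod 2 × ZMod 2), v ^ 2 = 1) _
  exact (Nat.pow_le_pow_iff_right one_lt_two).1 (by simpa [pow_mul] using this)

theorem comm_of_lt (S : Sylow p (Perm γ)) {w : ℕ} (hw : Fintype.card γ = p * w) (h : w < p) :
    IsMulCommutative S.1 := by
  obtain ⟨ψ, h0, h1, -⟩ := exists_base (ι := Fin w) (V := Multiplicative (ZMod p))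
    (by simp [hw, mul_comm]) (.of_card (n := 1) (by simp)) S
  rw [← Subgroup.eq_of_le_of_card_ge (H := ψ.range) (K := S.1) (by rintro _ ⟨t, rfl⟩; exact h1 t) ?_]
  · infer_instance
  rw [S.card_eq_multiplicity, Nat.card_perm, Nat.card_eq_fintype_card, hw, ← add_zero (p * w),
    fact_val _ hp.out.pos, ← Nat.card_congr (MonoidHom.ofInjective h0).toEquiv,
    Nat.factorization_eq_zero_of_not_dvd (by rw [hp.out.dvd_factorial]; omega)]
  simp

variable {α : Type*} [Fintype α] [DecidableEq α] [PM p M]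

theorem alt_weight [Nontrivial α] {b : Set (IrrCharacter (alternatingGroup α))} (hb : IsPBlock M b)
    {Q : Subgroup (alternatingGroup α)} (hQ : IsDefectGroup p M b Q) :
    ∃ (w : ℕ) (s : Finset α) (S : Sylow p (Perm s)), Fintype.card s = p * w ∧
      Nonempty ((alternatingGroup s ⊓ S.1 :) ≃* Q) ∧
      (∀ c, Cv (CP (Ioo 0 p) w) c → blockRank p b ≤ 2 * c ∧ (p = 2 → Odd w → blockRank p b ≤ c)) ∧
      blockDefect p b + (if p = 2 ∧ 0 < w then 1 else 0) = w + w.factorial.factorization p ∧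
      (p ≠ 2 → ∀ χ ∈ b, blockHeight p b χ.1 ≤ w.factorial.factorization p) ∧
      (3 ≤ w → p ≤ w → ∃ χ ∈ b, blockHeight p b χ.1 = 1) := by
  classical
  obtain ⟨θ, hθ⟩ := block_nonempty hb
  obtain ⟨χ, hχ⟩ := exists_over (alternatingGroup α).subtype_injective θ.2
  have hB := isPBlock_blockOf (M := M) χ
  have h0 := fun χ' (h : χ' ∈ _) θ' (h' : θ' ∈ b) => cov_of_cover
    (alternatingGroup α).subtype_injective hb hB ⟨χ, mem_blockOf_self χ, θ, hθ, hχ⟩ h h'
  generalize blockOf M χ.1 = B at hB h0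
  have hN := ne_subtype (alternatingGroup α)
  obtain ⟨χ, hχ⟩ := block_nonempty hB
  obtain ⟨P, hP, rfl⟩ := hN.knorr hb hB hθ hχ (h0 _ hχ _ hθ) hQ
  have h1 := fun ψ (h : ψ ∈ b) => hN.exists_over_of_cover hb hB h hχ (h0 _ hχ _ h)
  have h2 := fun ψ (h : ψ ∈ B) => hN.exists_over_of_cov hb hθ (h0 _ h _ hθ)
  obtain ⟨w, h3, h4, h5, h6, h7, h8, h9⟩ := exists_weight (p := p) hB
  obtain ⟨s, S, φ, hs, hφ, hsg, rfl⟩ := h3 P hP
  rw [← Fintype.card_coe] at hs
  have e : (alternatingGroup s ⊓ S.1 :) ≃* (S.1.map φ).comap (alternatingGroup α).subtype :=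
    (Subgroup.equivMapOfInjective _ _ hφ).trans ((MulEquiv.subgroupCongr (by
      rw [Subgroup.map_comap_eq, Subgroup.range_subtype]
      ext g
      simp only [Subgroup.mem_map, Subgroup.mem_inf, Perm.mem_alternatingGroup]
      exact ⟨fun ⟨x, h, e⟩ => ⟨e ▸ (hsg x).trans h.1, x, h.2, e⟩,
        fun ⟨h, x, h', e⟩ => ⟨x, ⟨(hsg x).symm.trans (e ▸ h), h'⟩, e⟩⟩)).trans
      (Subgroup.equivMapOfInjective _ _ (alternatingGroup α).subtype_injective).symm)
  have hi := alternatingGroup.index_eq_two (α := α)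
  have hr : ∀ χ : IrrCharacter (Perm α), (∃ g, Perm.sign g = -1 ∧ χ.1 g ≠ 0) →
      ∀ ψ : IrrCharacter (alternatingGroup α), classInner (fun n : alternatingGroup α => χ.1 n) ψ.1 ≠ 0 →
      (fun n : alternatingGroup α => χ.1 n) = ψ.1 := fun χ ⟨g, hg, hg'⟩ ψ h =>
    (idx_two hi χ.2 ψ.2 h).resolve_right fun e => hg' (e ▸ indFun_eq_zero_of_normal _ _ (by simp [hg]))
  have hd : blockDefect p b + (if p = 2 ∧ 0 < w then 1 else 0) = blockDefect p B := by
    refine Nat.pow_right_injective hp.out.two_le ?_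
    simp only [pow_add, ← IsDefectGroup.card hb hQ, ← IsDefectGroup.card hB hP,
      Subgroup.card_map_of_injective hφ, ← Nat.card_congr e.toEquiv]
    split_ifs with h
    · obtain ⟨rfl, h⟩ := h
      exact card_alt S (by omega)
    by_cases h' : p = 2
    · haveI : IsEmpty s := Fintype.card_eq_zero_iff.1 (by simp_all)
      rw [Subsingleton.elim (alternatingGroup s) ⊤, top_inf_eq, pow_zero, mul_one]
    · simp [inf_eq_right.2 (le_alt h' S.2)]
  have hc : (Nat.card (Perm α)).factorization p =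
      (Nat.card (alternatingGroup α)).factorization p + if p = 2 then 1 else 0 := by
    rw [← two_mul_nat_card_alternatingGroup, Nat.factorization_mul two_ne_zero Nat.card_pos.ne',
      Nat.prime_two.factorization, add_comm]
    simp [Finsupp.single_apply, eq_comm]
  have hh : ∀ χ ∈ B, ∀ ψ ∈ b, (p = 2 → 0 < w) → (charDegree χ.1).factorization p =
      (charDegree ψ.1).factorization p → blockHeight p b ψ.1 = blockHeight p B χ.1 :=
    fun χ hχ ψ hψ h e => by
      have h1 := factorization_add_defect (p := p) (M := M) hχ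
      have h2 := factorization_add_defect (p := p) (M := M) hψ
      by_cases h' : p = 2
      · rw [if_pos h'] at hc; rw [if_pos ⟨h', h h'⟩] at hd; omega
      · rw [if_neg h'] at hc; rw [if_neg fun e => h' e.1] at hd; omega
  have ho : p ≠ 2 → ∀ χ ∈ B, ∀ ψ ∈ b, classInner (fun n : alternatingGroup α => χ.1 n) ψ.1 ≠ 0 →
      blockHeight p b ψ.1 = blockHeight p B χ.1 := fun h χ hχ ψ hψ e => hh χ hχ ψ hψ (absurd · h) (by
    rcases idx_two hi χ.2 ψ.2 e with e | e
    · rw [← e]; rfl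
    · rw [charDegree_eq (χ := χ.1) (n := 2 * charDegree ψ.1) (by
        simp [e, indFun_apply_one, hi, charDegree_cast ψ.2.isCharacter]),
        Nat.factorization_mul two_ne_zero (charDegree_ne_zero ψ.2), Nat.prime_two.factorization]
      simp [h.symm])
  refine ⟨w, s, S, hs, ⟨e⟩, fun c hc => ⟨(blockRank_le_two_mul hi (isSat_of_isPBlock hb) h1).trans
    (Nat.mul_le_mul_left _ (h4 c hc)), fun h h' => (blockRank_le_of_res fun ψ hψ => ?_).trans
    (h4 c hc)⟩, hd.trans h5, fun h ψ hψ => ?_, fun h h' => ?_⟩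
  · exact (h1 ψ hψ).imp fun χ e => ⟨e.1, hr χ (h9 h h' χ e.1) ψ e.2⟩
  · obtain ⟨χ, hχ, e⟩ := h1 ψ hψ
    exact ho h χ hχ ψ hψ e ▸ h6 χ hχ
  by_cases h2' : p = 2
  · obtain ⟨χ, hχ, e, e'⟩ := h8 h2' h
    obtain ⟨ψ, hψ, h⟩ := h2 χ hχ
    exact ⟨ψ, hψ, (hh χ hχ ψ hψ (fun _ => by omega) (by rw [← hr χ e' ψ h]; rfl)).trans e⟩
  · obtain ⟨χ, hχ, e⟩ := h7 (by have := hp.out.two_le; omega) h'
    obtain ⟨ψ, hψ, h⟩ := h2 χ hχ
    exact ⟨ψ, hψ, (ho h2' χ hχ ψ hψ h).trans e⟩

end Sn
end H7
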