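import Cfsg.Agent.H4.Sq1
import Cfsg.Agent.H28.SzSq3

/-! Direct squares of Suzuki groups, piece B: a group with allowed spectrum mapping onto `Sz(q) × Sz(q')` is this product. -/

set_option autoImplicit false
universe u

namespace H7.SqB
open Cfsg H18 H1 Subgroup H4.Sq
open scoped commutatorElement

theorem piNat_two_compl {n : ℕ} : PiNat {2}ᶜ n ↔ Odd n := by
  rw [piNat_compl_iff_coprime Nat.prime_two, Nat.coprime_two_right]

/-- the facts used about a Suzuki group -/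
structure D (n : ℕ) (L : Type*) [Group L] : Prop where
  simple : IsSimpleGroup L
  cit : ∀ a b : L, PiElt {2} a → PiElt {2}ᶜ b → a * b = b * a → a = 1 ∨ b = 1
  odd : Odd n
  f1 : ∃ U : Subgroup L, U ≠ ⊥ ∧ PiGrp {2} U ∧ ∃ x ∈ N(U), orderOf x = n
  f2 : ∃ (r : ℕ) (Q : Subgroup L), r.Prime ∧ r ≠ 2 ∧ Q ≠ ⊥ ∧ PiGrp {r} Q ∧ ∃ x ∈ N(Q), orderOf x = 4
  e4 : ∃ E : Subgroup L, PiGrp {2} E ∧ Abel E ∧ ¬ Cyc E
  five : ∃ a : L, orderOf a = 5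

theorem dSz (F : Type*) [Field F] [Fintype F] (m : ℕ) [hF : H13.Sz.IsSz F m] : D (cm m 1) (Cfsg.Sz F m) where
  simple := inferInstance
  cit a b ha hb e := by
    by_cases c : b = 1
    · exact Or.inr c
    have t : H13.Sz.Tor b := ⟨c, piNat_two_compl.1 hb⟩
    exact Or.inl (ha.eq_one' (PiGrp.elt (H := C1(b)) (piNat_two_compl.2 t.odd_card) (mem_C1.2 e)))
  odd := odd_cm1
  f1 := by
    refine ⟨H13.Sz.U F m, fun e => H13.Sz.u_one_zero_ne_one (mem_bot.1 (e ▸ H13.Sz.u_mem_U 1 0)),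
      piGrp_of_isPGroup Nat.prime_two H13.Sz.isPGroup_U, ?_⟩
    obtain ⟨x, hx⟩ := IsCyclic.exists_ofOrder_eq_natCard (α := H13.Sz.H F m)
    exact ⟨x, H13.Sz.normalizer_U.ge (H13.Sz.H_le_B x.2), by rw [orderOf_coe, hx, H13.Sz.card_H, hF.card]; rfl⟩
  f2 := by
    have e := H13.Sz.ell_t1 (F := F) (m := m)
    obtain ⟨c, hc, c4, c2⟩ := e.exists_order_four
    obtain ⟨r, hr, d⟩ := H18.exists_prime_dvd_card (H := C1(H13.Sz.t1 F m)) fun b => e.ne_one (mem_bot.1 (b ▸ C1_self))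
    obtain ⟨Q, hQ, cQ⟩ := cauchy_sub hr d
    haveI := Fact.mk Nat.prime_two
    exact ⟨r, Q, hr, fun b => (Nat.not_even_iff_odd.2 e.tor.odd_card) (even_iff_two_dvd.2 (b ▸ d)),
      fun b => hr.ne_one (by rw [← cQ, b, card_bot]), piGrp_of_prime hr cQ, c, Cyc.N_le e.isCyclic hQ hc,
      orderOf_eq_prime_pow (p := 2) (n := 1) (by simpa [pow_two] using c2) c4⟩
  e4 := by
    let φ : Multiplicative F →* Cfsg.Sz F m := MonoidHom.mk' (fun b => H13.Sz.u m 0 b.toAdd) fun a b => by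
      simp [H13.Sz.u_mul_u]
    have e : Elem 2 φ.range := ⟨by
      rintro _ ⟨a, rfl⟩
      refine mem_C.2 ?_
      rintro _ ⟨b, rfl⟩
      rw [← map_mul, ← map_mul, mul_comm], by
      rintro _ ⟨a, rfl⟩
      change H13.Sz.u m 0 a.toAdd ^ 2 = 1
      simp [H13.Sz.u_sq]⟩
    refine ⟨φ.range, e.pi Nat.prime_two, e.abel, fun c => ?_⟩
    have := e.card_le_of_cyc Nat.prime_two c
    rw [← Nat.card_congr (MonoidHom.ofInjective (f := φ) fun a b c => (H13.Sz.u_inj.1 c).2).toEquiv,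
      Nat.card_eq_fintype_card, Fintype.card_multiplicative] at this
    have := H13.Sz.eight_le_card (F := F) (m := m)
    omega
  five := by
    obtain ⟨i, d⟩ : ∃ i, 5 ∣ cm m i := (Nat.prime_five.dvd_mul.1 five_cm).elim (fun a => ⟨_, a⟩) fun a => ⟨_, a⟩
    obtain ⟨x, hx⟩ := ord_ex (F := F) (m := m) i
    obtain ⟨a, -, e⟩ := cauchy (H := zpowers x) Nat.prime_five (by rw [card_zpowers', hx]; exact d)
    exact ⟨a, e⟩

variable {G L : Type*} [Group G] [Group L] [Finite G] [Finite L] {φ : G →* L} {Y V W : Subgroup G} {n p r k : ℕ}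

theorem lift (hY : Y.map φ = ⊤) (hr : r.Prime) {π : Set ℕ} {Q : Subgroup L} (hQ : PiGrp {r} Q) {x : L} (hx : x ∈ N(Q))
    (hs : PiElt π x) : ∃ P ≤ Y, PiGrp {r} P ∧ P.map φ = Q ∧ ∃ h ∈ Y, h ∈ N(P) ∧ PiElt π h ∧ φ h = x := by
  obtain ⟨P, hP⟩ := exists_sylow hr (Y ⊓ Q.comap φ)
  have e : P.map φ = Q := by
    refine le_antisymm (map_le_iff_le_comap.2 (hP.le.trans inf_le_right)) fun q hq => ?_
    obtain ⟨y, hy, rfl⟩ : q ∈ Y.map φ := hY ▸ mem_top q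
    have zy : y ∈ Y ⊓ Q.comap φ := ⟨hy, hq⟩
    have nk : (Y ⊓ Q.comap φ) ⊓ φ.ker ⊴ Y ⊓ Q.comap φ := nml_inf_of_norm norm_of_normal
    have : P ⊔ ((Y ⊓ Q.comap φ) ⊓ φ.ker) = Y ⊓ Q.comap φ := hP.sup_of_idx nk.le (by
      rw [relIndex_inf_left, relIndex_ker]
      exact hQ.of_le (map_le_iff_le_comap.2 inf_le_right))
    obtain ⟨a, ha, b, hb, e⟩ := (nk.nrm2' hP.le).mem_sup.1 (this ▸ zy)
    exact ⟨a, ha, by rw [e, map_mul, hb.2, mul_one]⟩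
  obtain ⟨y, hy, rfl⟩ : x ∈ Y.map φ := hY ▸ mem_top x
  have ny : y ∈ N(Y ⊓ Q.comap φ) := mem_N_of_finite fun b hb =>
    ⟨Y.mul_mem (Y.mul_mem hy hb.1) (Y.inv_mem hy), by simpa using conj_mem_N hx hb.2⟩
  obtain ⟨k, hk, n, hn, e2⟩ := frattini_elt hr hP ny
  obtain ⟨p, hp, e3⟩ : φ k ∈ P.map φ := e ▸ hk.2
  have e4 : φ (p * n) = φ y := by rw [map_mul, e3, e2, map_mul]
  obtain ⟨z, hz, h1, h2⟩ := H28.SS.part φ (π := π) (g := p * n) (e4 ▸ hs)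
  have nY : n ∈ Y := by
    rw [show n = k⁻¹ * y by rw [e2]; group]; exact Y.mul_mem (Y.inv_mem hk.1) hy
  exact ⟨P, hP.le.trans inf_le_left, hP.pi, e, z,
    zpowers_le.2 (mul_mem (hP.le hp).1 nY) hz, zpowers_le.2 (mul_mem (H18.le_N hp) hn) hz, h1, h2.trans e4⟩

theorem cov (hL : IsSimpleGroup L) (hY : Y.map φ = ⊤) (hk : PiGrp {p} (Y ⊓ φ.ker)) (hW : Abel W) (pW : PiGrp {p} W)
    (nW : Y ≤ N(W)) (hr : r.Prime) (rp : p ≠ r) {π : Set ℕ} {Q : Subgroup L} (hQ : PiGrp {r} Q) (Q1 : Q ≠ ⊥) {x : L}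
    (hx : x ∈ N(Q)) (hs : PiElt π x) (hf : ∀ i, 0 < i → i < k + 1 → ∀ f ∈ Q, x ^ i * f = f * x ^ i → f = 1) :
    ∃ h ∈ Y, PiElt π h ∧ φ h = x ∧ ((∀ w ∈ W, (w * h) ^ (k + 1) = h ^ (k + 1)) → (Y ⊓ C(W)).map φ = ⊤) := by
  obtain ⟨P, PY, hP, e, g, gY, gN, hg, rfl⟩ := lift hY hr hQ hx hs
  refine ⟨g, gY, hg, rfl, fun c => ?_⟩
  have : P ≤ C(W) := H28.SS.NL hW (PY.trans nW) (nW gY) gN (fun i i0 i1 f m e' => (hP.elt m).eq_one'
    (PiGrp.elt (hk.p'_of_ne rp) (mem_inf.2 ⟨PY m, hf i i0 i1 _ (e ▸ mem_map_of_mem φ m) (by simpa using congrArg φ e')⟩)))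
    (hP.coprime (pW.p'_of_ne rp)) c
  have nm : ((Y ⊓ C(W)).map φ).Normal := ⟨by
    rintro _ ⟨d, hd, rfl⟩ g
    obtain ⟨y, hy, rfl⟩ : g ∈ Y.map φ := hY ▸ mem_top g
    exact ⟨y * d * y⁻¹, conj_mem (nml_cent nW).norm hy hd, by simp⟩⟩
  exact nm.eq_bot_or_eq_top.resolve_left fun b => Q1 (eq_bot_iff.2 (e.ge.trans ((map_mono (le_inf PY this)).trans b.le)))

theorem ord_pi (hk : PiGrp {p} (Y ⊓ φ.ker)) {g : G} (hg : g ∈ Y) {s : ℕ} (hs : s.Prime) (d : s ∣ orderOf g) :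
    s = p ∨ s ∣ orderOf (φ g) := by
  have m : g ^ orderOf (φ g) ∈ Y ⊓ φ.ker := mem_inf.2 ⟨pow_mem hg _, by rw [MonoidHom.mem_ker, map_pow, pow_orderOf_eq_one]⟩
  have : orderOf g ∣ orderOf (φ g) * orderOf (g ^ orderOf (φ g)) :=
    orderOf_dvd_of_pow_eq_one (by rw [pow_mul, pow_orderOf_eq_one])
  exact (hs.dvd_mul.1 (d.trans this)).symm.imp (fun c => hk.elt m s hs c) id

theorem cov2 {m : ℕ} (h : Ok m G) (hL : D n L) (hY : Y.map φ = ⊤) (hk : PiGrp {2} (Y ⊓ φ.ker)) (hW : Abel W)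
    (l : W ≤ Y) (pW : PiGrp {2} W) (nW : Y ≤ N(W)) (kW : W ≤ φ.ker) : (Y ⊓ C(W)).map φ = ⊤ := by
  obtain ⟨r, Q, hr, r2, Q1, hQ, x, hx, ox⟩ := hL.f2
  have px : PiElt {2} x := by rw [PiElt, ox]; exact piNat_pow_self Nat.prime_two 2
  obtain ⟨g, hg, -, e, c⟩ := cov (k := 3) hL.simple hY hk hW pW nW hr r2.symm hQ Q1 hx px fun i i0 i1 f hf e =>
    (hL.cit _ _ (px.pow' i) (PiGrp.elt (hQ.p'_of_ne r2) hf) e).resolve_left (pow_ne_one_of_lt_orderOf i0.ne' (ox ▸ i1))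
  have k : ∀ y ∈ Y, φ y = x → y ^ 4 = 1 := fun y hy e => orderOf_dvd_iff_pow_eq_one.1
    (h.over (i := 0) dvd_rfl fun s hs d => by
      have : s = 2 := (ord_pi hk hy hs d).elim id fun c => px s hs (e ▸ c)
      rw [this]; exact (by decide : 2 ∣ 4))
  exact c fun w hw => by rw [k g hg e, k _ (mul_mem (l hw) hg) (by rw [map_mul, kW hw, one_mul, e])]

theorem K2 {m : ℕ} {L' : Type*} [Group L'] [Finite L'] (hL : D (cm m 1) L) (hL' : D n L') (h : Ok m G) (ψ : G →* L × L')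
    (hs : Function.Surjective ψ) (m1 : 1 ≤ m) (pp : p.Prime) (eV : Elem p ψ.ker) (V1 : ψ.ker ≠ ⊥) : False := by
  have pV := eV.pi pp
  have nV : ∀ A : Subgroup G, A ≤ N(ψ.ker) := fun _ => norm_of_normal
  set φ₁ := (MonoidHom.fst L L').comp ψ
  set φ₂ := (MonoidHom.snd L L').comp ψ
  have i1 : φ₂.ker ⊓ φ₁.ker = ψ.ker := Subgroup.ext fun x => by
    simp [φ₁, φ₂, MonoidHom.mem_ker, Prod.ext_iff, and_comm]
  have i2 : φ₁.ker ⊓ φ₂.ker = ψ.ker := by rw [inf_comm, i1]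
  have t1 : φ₂.ker.map φ₁ = ⊤ := eq_top_iff.2 fun a _ => by
    obtain ⟨x, hx⟩ := hs (a, 1)
    exact ⟨x, by simp [φ₂, MonoidHom.mem_ker, hx], by simp [φ₁, hx]⟩
  have t2 : φ₁.ker.map φ₂ = ⊤ := eq_top_iff.2 fun a _ => by
    obtain ⟨x, hx⟩ := hs (1, a)
    exact ⟨x, by simp [φ₁, MonoidHom.mem_ker, hx], by simp [φ₂, hx]⟩
  generalize ψ.ker = V at *
  have fin : ∀ {q r : ℕ} {i j k : Fin 4}, q.Prime → r.Prime → p ∣ cm m i → q ∣ cm m j → r ∣ cm m k → i ≠ j → i ≠ k →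
      j ≠ k → ∀ u x y : G, orderOf u = p → x ∈ φ₂.ker → y ∈ φ₁.ker → q ∣ orderOf (φ₁ x) → r ∣ orderOf (φ₂ y) →
      u * x = x * u → u * y = y * u → False := fun hq hr d1 d2 d3 a b c u x y ou hx hy dx dy c1 c2 => by
    obtain ⟨z, -, hz⟩ := Commute.exists_orderOf_eq_lcm G (show Commute u (x * y) from Commute.mul_right c1 c2)
    refine h.tri pp hq hr d1 d2 d3 a b c (g := z) (hz ▸ ou ▸ Nat.dvd_lcm_left _ _)
      (hz ▸ Dvd.dvd.trans ?_ (Nat.dvd_lcm_right _ _)) (hz ▸ Dvd.dvd.trans ?_ (Nat.dvd_lcm_right _ _))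
    · refine dx.trans (Dvd.dvd.trans ?_ (orderOf_map_dvd φ₁ _))
      rw [map_mul, show φ₁ y = 1 from hy, mul_one]
    · refine dy.trans (Dvd.dvd.trans ?_ (orderOf_map_dvd φ₂ _))
      rw [map_mul, show φ₂ x = 1 from hx, one_mul]
  obtain ⟨j, d5, j0, j1⟩ : ∃ j : Fin 4, 5 ∣ cm m j ∧ 0 ≠ j ∧ 1 ≠ j :=
    (Nat.prime_five.dvd_mul.1 five_cm).elim (fun a => ⟨_, a, by decide, by decide⟩) fun a => ⟨_, a, by decide, by decide⟩
  have c1 : 1 < cm m 1 := by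
    have : 2 ^ 3 ≤ 2 ^ (2 * m + 1) := Nat.pow_le_pow_right two_pos (by omega)
    rw [cm1]; omega
  obtain ⟨s, hs, ds⟩ := Nat.exists_prime_and_dvd c1.ne'
  obtain ⟨U, U1, hU, x0, hx0, o0⟩ := hL.f1
  have d2 : 2 ∣ cm m 0 := (by decide : 2 ∣ 4)
  have k1 := i1.symm ▸ pV
  have k2 := i2.symm ▸ pV
  by_cases p2 : p = 2
  · subst p2
    have s1 := cov2 h hL t1 k1 eV.abel (i1.ge.trans inf_le_left) pV (nV _) (i1.ge.trans inf_le_right)
    have s2 := cov2 h hL' t2 k2 eV.abel (i2.ge.trans inf_le_left) pV (nV _) (i2.ge.trans inf_le_right)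
    obtain ⟨b, ob⟩ := hL'.five
    obtain ⟨x, hx, rfl⟩ : x0 ∈ (φ₂.ker ⊓ C(V)).map φ₁ := s1 ▸ mem_top _
    obtain ⟨y, hy, rfl⟩ : b ∈ (φ₁.ker ⊓ C(V)).map φ₂ := s2 ▸ mem_top b
    obtain ⟨u, hu, ou⟩ := cauchy pp (pV.dvd_card V1)
    exact fin hs Nat.prime_five d2 ds d5 (by decide) j0 j1 u x y ou hx.1 hy.1 (o0 ▸ ds) (ob ▸ dvd_rfl) (mem_C.1 hx.2 u hu)
      (mem_C.1 hy.2 u hu)
  obtain ⟨E, hE, aE, cE⟩ := hL'.e4
  obtain ⟨P, PY, hP, e, -⟩ := lift t2 Nat.prime_two hE (one_mem _) (PiElt.one (π := {2}))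
  have inj : ∀ x ∈ P, φ₂ x = 1 → x = 1 := fun x hx c => (hP.elt hx).eq_one' (PiGrp.elt (k2.p'_of_ne p2) (mem_inf.2 ⟨PY hx, c⟩))
  have aP : Abel P := fun a ha => mem_C.2 fun b hb => commutatorElement_eq_one_iff_mul_comm.1
    (inj _ (der_le (commutator_mem_commutator hb ha)) (by
      rw [map_commutatorElement, commutatorElement_eq_one_iff_mul_comm]
      exact mem_C.1 (aE (e ▸ mem_map_of_mem φ₂ ha)) _ (e ▸ mem_map_of_mem φ₂ hb)))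
  obtain ⟨y, hy, y1, h0⟩ := exists_cent1_ne_bot aP (fun c => cE (e ▸ isCyclic_of_surjective _ (φ₂.subgroupMap_surjective P)))
    (nV _) (hP.coprime (pV.p'_of_ne p2)) V1
  have oy : 2 ∣ orderOf (φ₂ y) := by
    obtain ⟨t, ht, d⟩ := Nat.exists_prime_and_dvd fun c => y1 (inj y hy (orderOf_eq_one_iff.1 c))
    obtain rfl : t = 2 := hP.elt hy t ht (d.trans (orderOf_map_dvd _ _))
    exact d
  have n1 : φ₂.ker ≤ N(V ⊓ C1(y)) := norm_iff.2 fun a ha v hv => by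
    refine ⟨conj_mem_N (nV _ (mem_top a)) hv.1, mem_C1.2 ?_⟩
    have h1 : a⁻¹ * y * a * y⁻¹ ∈ V := i2 ▸ ⟨φ₁.ker.mul_mem (conj_mem' norm_of_normal (mem_top a) (PY hy))
      (φ₁.ker.inv_mem (PY hy)), by simp [MonoidHom.mem_ker, show φ₂ a = 1 from ha]⟩
    have h2 := comm_of_cent eV.abel hv.1 h1
    have h3 := mem_C1.1 hv.2
    calc _ = a * (v * (a⁻¹ * y * a * y⁻¹)) * y * a⁻¹ := by group
      _ = a * (a⁻¹ * y * a * y⁻¹) * (v * y) * a⁻¹ := by rw [h2]; group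
      _ = _ := by rw [h3]; group
  have aW : Abel (V ⊓ C1(y)) := eV.abel.mono inf_le_left
  have pW : PiGrp {p} (V ⊓ C1(y)) := pV.inf_left
  have w2 : V ⊓ C1(y) ≤ φ₂.ker := inf_le_left.trans (i1.ge.trans inf_le_left)
  have w1 : V ⊓ C1(y) ≤ φ₁.ker := inf_le_left.trans (i1.ge.trans inf_le_right)
  obtain ⟨u, hu, ou⟩ := cauchy pp (pW.dvd_card h0)
  obtain ⟨i, di⟩ := h.cls pp (ou ▸ dvd_rfl : p ∣ orderOf u)
  have i0 : i ≠ 0 := by
    rintro rfl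
    exact p2 ((Nat.prime_dvd_prime_iff_eq pp Nat.prime_two).1 (pp.dvd_of_dvd_pow (n := 2) di))
  have ox : PiElt {2}ᶜ x0 := piNat_two_compl.2 (o0 ▸ hL.odd)
  by_cases i1' : i = 1
  · subst i1'
    obtain ⟨k, hk⟩ : ∃ k, cm m 1 = k + 1 := ⟨cm m 1 - 1, by omega⟩
    obtain ⟨g, hg, -, e, c⟩ := cov (k := k) hL.simple t1 k1 aW pW n1 Nat.prime_two p2 hU U1 hx0 piNat_univ
      fun i i0 i1 f hf e => (hL.cit _ _ (hU.elt hf) (ox.pow' i) e.symm).resolve_right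
        (pow_ne_one_of_lt_orderOf i0.ne' (o0 ▸ hk ▸ i1))
    have q : ∀ z ∈ φ₂.ker, φ₁ z = x0 → z ^ (k + 1) = 1 := fun z hz e => orderOf_dvd_iff_pow_eq_one.1
      (hk ▸ h.over (i := 1) dvd_rfl fun s hs d => (ord_pi k1 hz hs d).elim (fun c => c ▸ di) fun c => o0 ▸ e ▸ c)
    have t := c fun w hw => by rw [q g hg e, q _ (mul_mem (w2 hw) hg) (by rw [map_mul, w1 hw, one_mul, e])]
    obtain ⟨a, oa⟩ := hL.five
    obtain ⟨x, hx, rfl⟩ : a ∈ (φ₂.ker ⊓ C(V ⊓ C1(y))).map φ₁ := t ▸ mem_top _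
    exact fin Nat.prime_five Nat.prime_two di d5 d2 j1 (by decide) j0.symm u x y ou hx.1 (PY hy) (oa ▸ dvd_rfl) oy
      (mem_C.1 hx.2 u hu) (mem_C1.1 hu.2)
  obtain ⟨x1, hx1, o1⟩ := cauchy (H := zpowers x0) hs (by rw [card_zpowers', o0]; exact ds)
  obtain ⟨k, rfl⟩ : ∃ k, s = k + 1 := ⟨s - 1, by have := hs.pos; omega⟩
  obtain ⟨g, hg, pg, e, c⟩ := cov (k := k) hL.simple t1 k1 aW pW n1 Nat.prime_two p2 hU U1 (zpowers_le.2 hx0 hx1)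
    (H28.SS.pie o1 hs) fun i i0 i1 f hf e => (hL.cit _ _ (hU.elt hf) ((ox.of_mem_zpowers hx1).pow' i) e.symm).resolve_right
      (pow_ne_one_of_lt_orderOf i0.ne' (o1 ▸ i1))
  have sp : p ≠ k + 1 := fun c => i1' (cls_eq pp di (c ▸ ds))
  by_cases b : V ⊓ C1(y) ⊓ C1(g) = ⊥
  · have g1 : g ^ (k + 1) = 1 := (pg.pow' _).eq_one' (PiGrp.elt (k1.p'_of_ne sp) (mem_inf.2 ⟨pow_mem hg _, by
      rw [MonoidHom.mem_ker, map_pow, e, ← o1, pow_orderOf_eq_one]⟩))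
    have t := c fun w hw => by
      have m : (w * g) ^ (k + 1) ∈ V := i1 ▸ mem_inf.2 ⟨pow_mem (mul_mem (w2 hw) hg) _, by
        rw [MonoidHom.mem_ker, map_pow, map_mul, w1 hw, one_mul, e, ← o1, pow_orderOf_eq_one]⟩
      have key : ∀ j : ℕ, (w * g) ^ j * (g ^ j)⁻¹ ∈ V ⊓ C1(y) := fun j => by
        induction j with
        | zero => simp
        | succ j ih =>
          have e1 : (w * g) ^ (j + 1) * (g ^ (j + 1))⁻¹ = (w * g) ^ j * (g ^ j)⁻¹ * (g ^ j * w * (g ^ j)⁻¹) := by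
            rw [pow_succ, pow_succ]; group
          rw [e1]; exact mul_mem ih (conj_mem n1 (pow_mem hg j) hw)
      have m2 := key (k + 1)
      rw [g1, inv_one, mul_one] at m2
      have m3 : (w * g) ^ (k + 1) ∈ C1(g) := by
        have a1 : w * g ∈ C1((w * g) ^ (k + 1)) := C1_pow_le _ C1_self
        exact mem_C1_comm.1 ((Subgroup.mul_mem_cancel_left _ (C_le_C1 m2 (aW hw))).1 a1)
      rw [g1]; exact b.le (mem_inf.2 ⟨m2, m3⟩)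
    obtain ⟨x, hx, rfl⟩ : x1 ∈ (φ₂.ker ⊓ C(V ⊓ C1(y))).map φ₁ := t ▸ mem_top _
    exact fin hs Nat.prime_two di ds d2 i1' i0 (by decide) u x y ou hx.1 (PY hy) (o1 ▸ dvd_rfl) oy
      (mem_C.1 hx.2 u hu) (mem_C1.1 hu.2)
  · obtain ⟨v, hv, ov⟩ := H28.SS.ex_p pW b
    exact fin hs Nat.prime_two di ds d2 i1' i0 (by decide) v g y ov hg (PY hy) (e ▸ o1 ▸ dvd_rfl) oy
      (mem_C1.1 hv.2) (mem_C1.1 hv.1.2)

theorem K3 {m : ℕ} {L' : Type*} [Group L'] [Finite L'] (hL : D (cm m 1) L) (hL' : D n L') (m1 : 1 ≤ m) (c : ℕ) :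
    ∀ (X : Type u) [Group X] [Finite X] (ψ : X →* L × L'), Nat.card X = c → Ok m X → Function.Surjective ψ →
      ψ.ker = ⊥ := by
  induction' c using Nat.strong_induction_on with c ih
  intro X _ _ ψ e h hs
  by_contra k1
  obtain ⟨q, hq, d⟩ := H18.exists_prime_dvd_card k1
  obtain ⟨P, hP⟩ := exists_sylow hq ψ.ker
  have P1 := hP.ne_bot_p hq d
  have nP : N(P) = ⊤ := by_contra fun b => P1 (eq_bot_iff.2 fun x hx => by
    have := ih _ (e ▸ card_top (G := X) ▸ card_lt (lt_top_iff_ne_top.2 b)) N(P) (ψ.comp N(P).subtype) rfl (h.sub _)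
      fun a => by
        obtain ⟨g, rfl⟩ := hs a
        obtain ⟨k, hk, n, hn, rfl⟩ := frattini_elt hq hP (g := g) (norm_of_normal (H := ⊤) (mem_top g))
        exact ⟨⟨n, hn⟩, by rw [map_mul, show ψ k = 1 from hk, one_mul]; rfl⟩
    exact congrArg Subtype.val (mem_bot.1 (this.le (show (⟨x, H18.le_N hx⟩ : N(P)) ∈ (ψ.comp N(P).subtype).ker from hP.le hx))))
  obtain ⟨p, V, pp, eV, V1, nV, nV'⟩ := exists_elem_nml hP.pi.solv P1 (A := ⊤) nP.ge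
  have := norm_top_iff.1 nV'
  have l := nV.le.trans hP.le
  have kV : ψ.ker = V := by
    have := ih _ (e ▸ (by
      rw [← V.index_eq_card, ← V.card_mul_index]
      exact lt_mul_left (Nat.pos_of_ne_zero V.index_ne_zero_of_finite) (one_lt_card V1))) _ (H28.SS.ql ψ V l) rfl (h.quot V)
      (H28.SS.ql_surj hs)
    exact le_antisymm (relIndex_eq_one_iff.1 (by rw [← H28.SS.ql_card (h := l), this, card_bot])) l
  exact K2 hL hL' h ψ hs m1 pp (kV ▸ eV) k1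

theorem pB : PB.{u} := fun {F F'} _ _ _ _ {m m'} hF _ {G} _ _ h _ f hf =>
  (MonoidHom.ker_eq_bot_iff f).1 (K3 (dSz F m) (dSz F' m') hF.hm _ G f rfl h hf)

end H7.SqB
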