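import Cfsg.Agent.H7.TameF

/-! Tame 2-blocks, local part: the datum `DH` of a block with dihedral defect group, the Klein four
case `dh_klein`, and the structure `HS` of a block with defect group of maximal class whose central
involution is central in the group (`exists_hs`). -/

open H5 Cfsg MonoidAlgebra Subgroup
open H8 (cC nN c1 cA mp io St Le Sp BP cw)
open H7.Had
open scoped ComplexConjugate Classical

namespace H7

variable {M : Ideal AlgInt} {G K L : Type*} [Group G] [Finite G] [Group K] [Finite K] [Group L]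
  [Finite L] {p : ℕ}

/-- The generalized character with given coordinates. -/
noncomputable def cf (c : IrrCharacter G → ℤ) : G → ℂ :=
  ∑ χ : IrrCharacter G, (c χ : ℂ) • (χ : G → ℂ)

theorem cf_single (χ : IrrCharacter G) : cf (Pi.single χ 1) = χ := by
  simp [cf, Pi.single_apply]

theorem inner_cf [Fintype G] (c : IrrCharacter G → ℤ) (χ : IrrCharacter G) :
    classInner (cf c) χ = c χ := classInner_sum_irr_left _ _

theorem cls_cf (c : IrrCharacter G → ℤ) : IsClassFunction G (cf c) :=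
  have := Fintype.ofFinite G; isClassFunction_sum_irr _

theorem inner_cf_cf [Fintype G] (c c' : IrrCharacter G → ℤ) : classInner (cf c) (cf c') = ip c c' := by
  rw [(cls_cf c).classInner_eq_sum]; simp [inner_cf, ip]

theorem card_eq_fl (B : Set (IrrCharacter G)) : Nat.card B = (Finset.univ.filter (· ∈ B)).card := by
  rw [← Fintype.card_subtype, Nat.card_eq_fintype_card]

/-- The sign of a central involution. -/
noncomputable def sg (z : G) (χ : IrrCharacter G) : ℤ := if cw z χ = 1 then 1 else -1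

omit [Finite G] in
theorem sg_cases (z : G) (χ : IrrCharacter G) : sg z χ = 1 ∨ sg z χ = -1 := by
  rw [sg]; split_ifs <;> simp

theorem coe_sg {z : G} (hz : ∀ a, a * z = z * a) (h2 : z * z = 1) (χ : IrrCharacter G) :
    (sg z χ : ℂ) = cw z χ := by
  have := Fintype.ofFinite G
  have h := H8.cw_pow hz χ 2
  rw [sq, h2, H8.cw_one, eq_comm, sq_eq_one_iff] at h
  rw [sg]; split_ifs with e
  · simp [e]
  · simp [h.resolve_left e]

theorem sg_eq_one_iff {z : G} (hz : ∀ a, a * z = z * a) (h2 : z * z = 1) {π : G →* L}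
    (hπ : Function.Surjective π) (hk : π.ker = zpowers z) {χ : IrrCharacter G} :
    sg z χ = 1 ↔ ∃ ψ, icomp π hπ ψ = χ := by
  rw [← exists_icomp_eq, hk, ← Int.cast_inj (α := ℂ), coe_sg hz h2, Int.cast_one, cw,
    div_eq_one_iff_eq χ.2.apply_one_ne_zero]
  exact ⟨fun h n hn => by rcases H9.eq_one_or_eq_of_mem_zpowers h2 hn with rfl | rfl; exacts [rfl, h],
    fun h => h z (mem_zpowers z)⟩

/-- The characters of `b` not containing the central involution `z` in their kernel. -/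
noncomputable def Fa (b : Set (IrrCharacter G)) (z : G) : Finset (IrrCharacter G) :=
  Finset.univ.filter fun χ => χ ∈ b ∧ sg z χ = -1

theorem mem_Fa {b : Set (IrrCharacter G)} {z : G} {χ : IrrCharacter G} :
    χ ∈ Fa b z ↔ χ ∈ b ∧ sg z χ = -1 := by simp [Fa]

variable [hp : Fact p.Prime]

omit [Finite K] [Finite L] in
theorem inner_reg_comp [Fintype K] [Fintype L] {π : K →* L} (hπ : Function.Surjective π)
    (hN : IsPGroup p π.ker) (hc : ∀ y, ¬ p ∣ orderOf y → y ∈ cC π.ker) (α β : L → ℂ) :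
    Nat.card π.ker * classInner (reg p fun x => α (π x)) (fun x => β (π x)) =
      classInner (reg p α) β := by
  have e2 : (Nat.card K : ℂ) = Nat.card π.ker * Nat.card L := by
    rw [← π.ker.card_mul_index, Subgroup.index_ker, MonoidHom.range_eq_top.2 hπ,
      Subgroup.card_top, Nat.cast_mul]
  rw [classInner, classInner, e2, mul_inv, ← mul_assoc, mul_inv_cancel_left₀ card_ne_zero_complex]
  congr 1
  simp only [reg, ite_mul, zero_mul, ← ite_not (p ∣ _), ← Finset.sum_filter]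
  refine Finset.sum_bij (fun y _ => π y) (fun y hy => ?_) (fun y hy y' hy' e => ?_)
    (fun y hy => ?_) fun y hy => rfl
  · simpa using not_dvd_orderOf_map π (by simpa using hy)
  · exact eq_of_map_eq hN (by simpa using hy) (by simpa using hy') (hc _ (by simpa using hy')) e
  · obtain ⟨g, h1, h2⟩ := exists_pRegular_lift (p := p) hπ (h := y) (by simpa using hy)
    exact ⟨g, by simpa using h1, h2⟩

variable [PM p M]

theorem exists_coord {π : K →* L} (hπ : Function.Surjective π) (hN : IsPGroup p π.ker)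
    (hc : ∀ y, ¬ p ∣ orderOf y → y ∈ cC π.ker) {b : Set (IrrCharacter K)} (hb : IsSat M b)
    (χ : IrrCharacter K) : ∃ ν : IrrCharacter L → ℤ, (∀ ψ, icomp π hπ ψ ∉ b → ν ψ = 0) ∧
      (χ ∉ b → ν = 0) ∧ (χ ∈ b → reg p (χ : K → ℂ) = reg p fun x => cf ν (π x)) ∧
      ∀ ψ, icomp π hπ ψ = χ → χ ∈ b → ν = Pi.single ψ 1 := by
  by_cases h : χ ∈ b
  swap
  · exact ⟨0, fun _ _ => rfl, fun _ => rfl, fun e => absurd e h, fun _ _ e => absurd e h⟩
  by_cases h' : ∃ ψ, icomp π hπ ψ = χ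
  · obtain ⟨ψ, rfl⟩ := h'
    exact ⟨Pi.single ψ 1, fun ψ' e => Pi.single_eq_of_ne (by rintro rfl; exact e h) _,
      fun e => absurd h e, fun _ => by rw [cf_single]; rfl,
      fun ψ' e _ => by rw [icomp_injective π hπ e]⟩
  have := Fintype.ofFinite K
  have := Fintype.ofFinite L
  obtain ⟨γ, hγ, e⟩ := H8.exists_gen_quot hπ hN hc χ.2.isGen
  obtain ⟨n, hn, -⟩ := hγ.exists_int
  refine ⟨fun ψ => if icomp π hπ ψ ∈ b then n ψ else 0, fun ψ e => if_neg e, fun e => absurd h e,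
    fun _ => ?_, fun ψ e => absurd ⟨ψ, e⟩ h'⟩
  have e1 : reg p (χ : K → ℂ) = reg p fun x => γ (π x) := funext fun y => by
    simp only [reg]; split_ifs with hy; exacts [rfl, (e y hy).symm]
  rw [← funext (blockPart_irr_of_mem h), ← blockPart_reg hb, e1, blockPart_reg hb]
  congr 1
  funext x
  rw [H8.blockPart_comp hπ b hγ.isClassFunction, blockPart_eq_sum, cf, Finset.sum_apply]
  refine Finset.sum_congr rfl fun ψ _ => ?_
  by_cases e : icomp π hπ ψ ∈ b
  · rw [if_pos e, if_pos (show ψ ∈ icomp π hπ ⁻¹' b from e), hn]; rfl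
  · rw [if_neg e, if_neg (show ψ ∉ icomp π hπ ⁻¹' b from e)]; simp

namespace MP

variable {B : Set (IrrCharacter G)} {P : Subgroup G} {m : MP p M B P} {v : P} {κ : Type*}
  [Fintype κ] {N : ℕ} {c : κ → ℕ} {τ : κ → IrrCharacter G → ℤ}

theorem Rp.cf (h : m.Rp v N c τ) (a b : IrrCharacter G → ℤ) :
    N * m.ct v (cf a) (cf b) = ∑ i, (c i : ℂ) * ip a (τ i) * ip b (τ i) := by
  rw [H7.cf, H7.cf, ct_sum_right, Finset.mul_sum, Finset.sum_congr rfl fun ψ _ => by
    rw [ct_sum_left, mul_left_comm, h.sum, map_intCast, Finset.mul_sum], Finset.sum_comm]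
  refine Finset.sum_congr rfl fun i _ => ?_
  rw [ip.eq_def b, Int.cast_sum, Finset.mul_sum]
  exact Finset.sum_congr rfl fun _ _ => by push_cast; ring

theorem ct_one_cf [Fintype G] {a : IrrCharacter G → ℤ} (ha : ∀ χ ∉ B, a χ = 0) {θ : G → ℂ}
    (hθ : IsClassFunction G θ) : m.ct 1 (cf a) θ = classInner (reg p (cf a)) θ := by
  rw [classInner_reg, cf, ct_sum_left, classInner_sum_left]
  refine Finset.sum_congr rfl fun χ _ => ?_
  by_cases h : χ ∈ B
  · rw [m.ct_one h hθ, classInner_smul_left, classInner_reg]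
  · simp [ha χ h]

theorem Rp.exists_ne (h : m.Rp v N c τ) (hv : (v : G) ∈ cC P) {χ : IrrCharacter G} (hχ : χ ∈ B) :
    ∃ i, τ i χ ≠ 0 := by
  by_contra! e
  exact mul_ne_zero (Nat.cast_ne_zero.2 h.ne) (m.ct_self_major_ne_zero hv hχ) (by simp [h.eq, e])

theorem sum_ct_self_eq [Fintype P] {χ : IrrCharacter G} (hχ : χ ∈ B) :
    ∑ v, (m.cl v : ℂ)⁻¹ * m.ct v (χ : G → ℂ) χ = 1 := by
  have := Fintype.ofFinite G
  rw [m.sum_ct hχ χ.2.isClassFunction, χ.2.classInner_self]

end MP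

variable [PM 2 M]

/-- The first column block of a 2-block with dihedral defect group of order `2^(j+2)`. -/
structure DH {B : Set (IrrCharacter G)} {P : Subgroup G} (m : MP 2 M B P) (j n : ℕ)
    (S : Finset (IrrCharacter G)) (τ : Option (Fin n) → IrrCharacter G → ℤ) : Prop where
  rp : m.Rp 1 (2 ^ (j + 2)) (wt j) τ
  card : S.card = 4
  tS : ∀ χ ∈ S, τ none χ ^ 2 = 1
  tO : ∀ χ ∈ B, χ ∉ S → τ none χ ^ 2 = 4
  yS : ∀ a, Pt S (τ (some a))
  num : Nat.card B = 2 ^ j + 3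
  rank : blockRank 2 B = n + 1
  ev : Even (2 ^ j * n)

theorem dh_klein {B : Set (IrrCharacter G)} {P : Subgroup G} (m : MP 2 M B P) (h : IsKleinFour P) :
    ∃ n S τ, DH m 0 n S τ := by
  have := Fintype.ofFinite G
  have := Fintype.ofFinite P
  have hab := kl_comm h
  obtain ⟨hE, a, ζ, δ, α, sf⟩ := m.exists_sf_r2 (r2_of_klein h)
  have h4 : Nat.card B = 4 := by rw [sf.card_eq, h.card_four]; rcases hE with e | e <;> rw [e]
  have hd : blockDefect 2 B = 2 := Nat.pow_right_injective le_rfl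
    ((IsDefectGroup.card m.blk m.dfc).symm.trans h.card_four)
  set S := Finset.univ.filter (· ∈ B)
  have hS : S.card = 4 := (card_eq_fl B).symm.trans h4
  have hc : ∀ v : P, P ⊓ c1 (v : G) = P := fun v => inf_eq_left.2 fun a ha =>
    mem_centralizer_singleton_iff.2 (hab ha v v.2).symm
  have gi : ∀ A : Subgroup P, IsGeneralizedCharacter P fun v => if v ∈ A then (A.index : ℂ) else 0 :=
    fun A => isGen_ind A (hA := ⟨fun a ha g => by
      rwa [show g * a = a * g from Subtype.ext (hab a.2 g g.2), mul_inv_cancel_right]⟩)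
  have hr : ∀ v : P, v ≠ 1 → blockRank 2 (m.bu v) = 1 := fun v hv => by
    have v1 : (v : G) ≠ 1 := fun e => hv (Subtype.ext e)
    refine m.rank_bu_of (hc v) (by rw [m.defect_bu (hab v.2), hd, h.card_four]; rfl)
      (fun a ha b hb => hab hb a ha) fun t ht ho hn a ha => ?_
    have := kl_sq_mem h v.2 v1 (mem_normalizer_fintype hn) (mul_inv_eq_iff_eq_mul.2
      (mem_centralizer_singleton_iff.1 ht))
    exact ((H8.mem_of_pow_mem (p := 2) (n := 1) ho (by simpa using this) : t ∈ cC P) a ha).symm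
  have key : ∀ (κ : Type) [Fintype κ] (r : κ → P) (n : ℕ), (∀ k, r k ≠ 1) →
      (∀ k, IsGeneralizedCharacter P fun w => (4 : ℕ) * m.ind (r k) w) →
      (∀ v ≠ 1, ∃! k, m.FC v (r k)) → Fintype.card κ + (n + 1) = 4 → blockRank 2 B = n + 1 →
      Even n → ∃ n S τ, DH m 0 n S τ := fun κ _ r n h1 h2 h3 h5 h6 h7 => by
    choose q q1 q2 using fun k => m.exists_pat hS (fun χ hχ => ⟨(Finset.mem_filter.1 hχ).2, sf.height
      m.blk (by rw [hd, h.card_four]; rfl) (Finset.mem_filter.1 hχ).2⟩)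
      ((m.defect_bu (hab (r k).2)).trans hd) (hr _ (h1 k)) (h2 k)
    obtain ⟨y, y1, y2, -, y4⟩ := exists_compl hS (n + 1) q1 (fun k l e => (q2 l).ip_eq
      ((q2 k).kl_of_not (fun e' => e ((h3 _ (h1 k)).unique (.refl m _) e')) ()) ()) h5
    refine ⟨n, S, fun i => y ((finSuccEquiv n).symm i), ⟨fun χ ψ => ?_, by simp, fun i => ?_,
      fun i j e => y2 ((finSuccEquiv n).symm.injective.ne e)⟩, hS, fun χ hχ => (y1 _).sq hχ,
      fun χ h1 h2 => absurd (by simpa [S] using h1) h2, fun a => y1 _, h4, h6, by simpa using h7⟩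
    · have w1 : ∀ i : Option (Fin n), wt 0 i = 1 := by rintro (_ | _) <;> rfl
      simp only [w1, Nat.cast_one, one_mul]
      rw [(finSuccEquiv n).symm.sum_comp fun i => (y i χ : ℂ) * y i ψ]
      by_cases hχ : χ ∈ B
      · have e1 := m.sum_ct hχ ψ.2.isClassFunction
        rw [m.sum_weight (ρ := fun w => (if w = 1 then 1 else 0) + ∑ k, if w = r k then 1 else 0)
          (fun v => ?_) fun _ _ e => e.ct_eq χ.2.isClassFunction ψ.2.isClassFunction] at e1
        · have e2 := congrArg (Int.cast (R := ℂ)) (congrFun (y4 χ (by simpa [S] using hχ)) ψ)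
          simp only [add_mul, Finset.sum_add_distrib, Finset.sum_mul, ite_mul, one_mul, zero_mul,
            Finset.sum_ite_eq', Finset.mem_univ, if_true, classInner_irr] at e1
          rw [Finset.sum_comm] at e1
          simp only [Finset.sum_ite_eq', Finset.mem_univ, if_true] at e1
          have e3 := fun k => (q2 k).eq χ ψ
          simp only [Finset.univ_unique, Finset.sum_singleton, Nat.cast_one, one_mul] at e3
          simp only [Pi.add_apply, Finset.sum_apply, Pi.smul_apply, smul_eq_mul, Pi.single_apply,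
            Int.cast_add, Int.cast_sum, Int.cast_mul, ← e3, ← Finset.mul_sum, eq_comm (a := ψ)] at e2
          split_ifs at e1 e2 <;> push_cast at e2 ⊢ <;> linear_combination 4 * e1 - e2
        · have e : ∀ (a : ℂ) (f : κ → ℂ) (q : Prop), (if q then a + ∑ k, f k else 0) =
            (if q then a else 0) + ∑ k, if q then f k else 0 := fun a f q => by split_ifs <;> simp
          simp only [e, Finset.sum_add_distrib, ← ite_and, and_comm (a := m.FC v _)]
          rw [Finset.sum_comm]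
          simp only [ite_and, Finset.sum_ite_eq', Finset.mem_univ, if_true]
          by_cases hv : v = 1
          · simp [hv, m.fc_one_iff, h1]
          · obtain ⟨k, k1, k2⟩ := h3 v hv
            rw [if_neg fun e => hv (m.fc_one_iff.1 e.symm), Finset.sum_eq_single k
              (fun l _ e => if_neg fun e' => e (k2 l e')) (by simp), if_pos k1, zero_add]
      · simp [m.ct_of_notMem hχ, (y1 _).zero (show χ ∉ S by simpa [S] using hχ)]
    · rcases i with _ | i <;> simp [wt, (y1 _).ip_self, hS]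
  have g1 := gi ⊥
  rw [index_bot, h.card_four] at g1
  rcases hE with e | e
  · have fc : ∀ v w, m.FC v w ↔ v = w := fun v w => by
      rw [m.fc_iff_ec hab, card_eq_one.1 e]; simp [EC]
    obtain ⟨σ⟩ : Nonempty (Fin 3 ≃ {v : P // v ≠ 1}) := ⟨(Fintype.equivFinOfCardEq
      (by simp [← h.card_four.symm.trans Nat.card_eq_fintype_card])).symm⟩
    refine key (Fin 3) (fun k => (σ k).1) 0 (fun k => (σ k).2)
      (fun k => ?_) (fun v hv => ?_) (by simp) (by rw [sf.rank (isSat_of_isPBlock m.blk), e]) (by simp)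
    · generalize σ k = v
      obtain ⟨v, hv⟩ := v
      have o2 : orderOf v = 2 := by rw [← orderOf_coe]; exact kl_ord h v.2 fun e => hv (Subtype.ext e)
      have g2 := gi (zpowers v)
      rw [show (zpowers v).index = 2 by
        have := (zpowers v).card_mul_index; rw [Nat.card_zpowers, o2, h.card_four] at this; omega] at g2
      convert (g2.natCast_smul 2).sub g1 using 1
      funext w
      have : w ∈ zpowers v ↔ w = 1 ∨ w = v := ⟨H9.eq_one_or_eq_of_mem_zpowers
        (H9.mul_self_of_orderOf o2), by rintro (rfl | rfl) <;> simp⟩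
      by_cases e1 : w = 1
      · simp [MP.ind, fc, e1, hv]; norm_num
      · by_cases e2 : w = v
        · simp [MP.ind, fc, e2, hv]; norm_num
        · simp [MP.ind, fc, this, e1, e2, Ne.symm e2]
    · simp only [fc]
      exact ⟨σ.symm ⟨v, hv⟩, by simp, fun k e => σ.eq_symm_apply.2 (Subtype.ext e.symm)⟩
  · have fc : ∀ v w : P, v ≠ 1 → w ≠ 1 → m.FC v w := fun v w hv hw => by
      have c3 : m.cl v = 3 := ((m.fe_of_fr hab sf.fam.fr).cl_eq hv).trans e
      have := Finset.eq_of_subset_of_card_le (s := Finset.univ.filter (m.FC v))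
        (t := Finset.univ.erase 1) (fun u hu => by
          simpa using fun e : u = 1 => hv (m.fc_one_iff.1 (e ▸ (Finset.mem_filter.1 hu).2).symm)) (by
          rw [← Fintype.card_subtype, ← Nat.card_eq_fintype_card, ← MP.cl, c3]
          simp [← Nat.card_eq_fintype_card, h.card_four])
      exact (Finset.mem_filter.1 (this.ge (by simpa using hw))).2
    obtain ⟨v, hv, v1, -⟩ := kl_exists h 1
    have v2 : (⟨v, hv⟩ : P) ≠ 1 := fun e => v1 (congrArg Subtype.val e)
    refine key Unit (fun _ => ⟨v, hv⟩) 2 (fun _ => v2) (fun _ => ?_) (fun u hu => ⟨(), fc _ _ hu v2,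
      fun _ _ => rfl⟩) (by simp) (by rw [sf.rank (isSat_of_isPBlock m.blk), e]) (by simp)
    convert (isGen_one.natCast_smul 4).sub g1 using 1
    funext w
    by_cases e1 : w = 1
    · simp [MP.ind, e1, show ¬ m.FC ⟨v, hv⟩ 1 from fun e => v2 (m.fc_one_iff.1 e.symm)]
    · simp [MP.ind, e1, fc _ _ v2 e1]

theorem Tm.card_eq {B : Set (IrrCharacter G)} {P : Subgroup G} {k : ℕ} {x z : P} {g : Fin 2 → P}
    (h : Tm P k x z g) (m : MP 2 M B P) : Nat.card B + 1 = blockRank 2 B + blockRank 2 (m.bu z) +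
      2 ^ (k + 1) + (Finset.univ.filter fun i => m.U x (g i)).card := by
  have := Fintype.ofFinite P
  apply Nat.cast_injective (R := ℂ)
  have h1 := congrArg (Nat.cast (R := ℂ)) h.card_Xs
  push_cast at h1 ⊢
  rw [m.card_eq, h.sum_cls m fun _ _ e => by rw [e.rank_eq], m.rank_bu_one,
    Finset.sum_congr rfl fun v hv => by rw [h.rank_X m (mem_Xs.1 hv).1 (mem_Xs.1 hv).2],
    Finset.sum_congr rfl fun i _ => if_ctx_congr Iff.rfl (fun e => by rw [h.rank_U e]) fun _ => rfl]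
  simp only [Finset.sum_const, nsmul_eq_mul, Nat.cast_one, Finset.sum_boole]
  linear_combination 2⁻¹ * h1

/-- The structure of a block with defect group of maximal class and central involution `z`. -/
structure HS {b : Set (IrrCharacter K)} {P : Subgroup K} (m : MP 2 M b P) (k : ℕ) (x z : P)
    (g : Fin 2 → P) (n : ℕ) (S E : Finset (IrrCharacter K)) (ξ : Fin n → IrrCharacter K)
    (τ : Option (Fin n) → IrrCharacter K → ℤ) : Prop where
  rp : m.Rp 1 (2 ^ (k + 3)) (wt k) τ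
  shp : Shp S E ξ (τ none) fun a => τ (some a)
  mem : ∀ χ, χ ∈ b ↔ χ ∈ S ∨ χ ∈ E ∨ ∃ a, χ = ξ a
  ht : ∀ χ ∈ S, blockHeight 2 b (χ : K → ℂ) = 0
  w1 : ∀ χ ∈ S, sg (z : K) χ = 1
  w2 : ∀ a, sg (z : K) (ξ a) = -1
  w3 : ∑ χ ∈ E, sg (z : K) χ = -1
  card : E.card + 1 = 2 ^ (k + 1)
  rank : blockRank 2 (m.bu z) = n + 1
  ev : Even (2 ^ k * n)
  cnt : n + (Finset.univ.filter fun i => m.U x (g i)).card = 2

section central

variable {b : Set (IrrCharacter K)} {P : Subgroup K} {k : ℕ} {x z v : P} {g : Fin 2 → P}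
  (h : Tm P k x z g) (m : MP 2 M b P) (hz : ∀ a : K, a * z = z * a)
include h hz m

theorem Tm.ct_mul (v : P) (χ ψ : IrrCharacter K) :
    m.ct (z * v) (χ : K → ℂ) ψ = sg (z : K) χ * sg (z : K) ψ * m.ct v (χ : K → ℂ) ψ := by
  rw [m.ct_mul_central hz, ← coe_sg hz h.zz, ← coe_sg hz h.zz, map_intCast]

theorem Tm.sum_sg (e : ¬ m.FC v (z * v)) (χ ψ : IrrCharacter K) :
    ∑ ξ : IrrCharacter K, sg (z : K) ξ * (m.ct v (χ : K → ℂ) ξ * m.ct v (ξ : K → ℂ) ψ) = 0 := by
  have := m.sum_ct_mul_of_not e χ ψ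
  simp only [h.ct_mul m hz] at this
  apply mul_left_cancel₀ (Int.cast_ne_zero.2 (show sg (z : K) ψ ≠ 0 by
    rcases sg_cases (z : K) ψ with e | e <;> simp [e]) : (sg (z : K) ψ : ℂ) ≠ 0)
  rw [mul_zero, ← this, Finset.mul_sum]
  exact Finset.sum_congr rfl fun _ _ => by ring

theorem Tm.sum_faith (e : ¬ m.FC v (z * v)) :
    2 * ∑ χ ∈ Fa b z, m.ct v (χ : K → ℂ) χ = blockRank 2 (m.bu v) := by
  have h1 : ∑ χ : IrrCharacter K, sg (z : K) χ * m.ct v (χ : K → ℂ) χ = 0 := by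
    rw [Finset.sum_congr rfl fun χ _ => by rw [← m.sum_ct_mul' v χ χ, Finset.mul_sum],
      Finset.sum_comm]
    exact Finset.sum_eq_zero fun ξ _ => (Finset.sum_congr rfl fun _ _ => by ring).trans
      (h.sum_sg m hz e ξ ξ)
  rw [← m.sum_ct_self', ← sub_zero (∑ χ, _), ← h1, ← Finset.sum_sub_distrib, Fa, Finset.sum_filter,
    Finset.mul_sum]
  refine Finset.sum_congr rfl fun χ _ => ?_
  by_cases e : χ ∈ b
  · rcases sg_cases (z : K) χ with e' | e' <;> simp [e, e']; ring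
  · simp [e, m.ct_of_notMem e]

theorem Tm.U_of_sq (hv : (v : K) ∉ zpowers (x : K)) (h2 : (v : K) * v = 1) : m.U x v :=
  fun w e hw => by
    rcases h.eq_or hw (e.mul_self_iff.1 h2) with rfl | rfl
    · exact hv (m.fc_one_iff.1 e.symm ▸ one_mem _)
    · obtain ⟨a, -, e⟩ := e.symm
      rw [hz, mul_inv_cancel_right] at e
      exact hv (e ▸ hw)

theorem Tm.sg_eq {χ ψ : IrrCharacter K} (h1 : χ ∈ b) (h2 : ψ ∈ b)
    (h3 : blockHeight 2 b (χ : K → ℂ) = 0) (h4 : blockHeight 2 b (ψ : K → ℂ) = 0) :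
    sg (z : K) χ = sg (z : K) ψ := by
  have e1 : (x : K) ^ 2 ^ k * x ^ 2 ^ k = z := by rw [h.hz, ← pow_add, pow_succ, mul_two]
  have e2 : m.FC (x ^ 2 ^ k) (z * x ^ 2 ^ k) := m.fc_of_conj (g 0).2 (by
    rcases h.mc.conj_cases (g 0).2 (h.out 0) (npow_mem_zpowers (x : K) (2 ^ k)) with e | ⟨e, e', -⟩
    · rw [coe_pow, e, coe_mul, coe_pow, inv_eq_iff_mul_eq_one, ← mul_assoc, hz, mul_assoc, e1, h.zz]
    · obtain ⟨k, rfl⟩ := Nat.exists_eq_add_of_le' e
      exact absurd (by rw [pow_succ' 2, pow_mul]; exact npow_mem_zpowers _ _) e')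
  have e3 := e2.ct_eq χ.2.isClassFunction ψ.2.isClassFunction
  rw [h.ct_mul m hz, eq_comm, mul_eq_right₀ (m.ct_ne_zero _ h1 h2 h3 h4)] at e3
  norm_cast at e3
  rcases sg_cases (z : K) χ with e | e <;> rcases sg_cases (z : K) ψ with e' | e' <;> simp_all

theorem Tm.le_card_faith : blockRank 2 b + 2 ^ k ≤ (Fa b z).card + 1 := by
  have := Fintype.ofFinite P
  set F := Fa b z
  set φ : P → ℂ := fun v => ∑ χ ∈ F, m.ct v (χ : K → ℂ) χ
  have h0 : ∀ v, 0 ≤ (φ v).re := fun v => by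
    rw [Complex.re_sum]; exact Finset.sum_nonneg fun _ _ => m.ct_self_nonneg _ _
  have h1 : (F.card : ℂ) = ∑ v, (m.cl v : ℂ)⁻¹ * φ v := by
    simp only [φ, Finset.mul_sum]
    rw [Finset.sum_comm, Finset.sum_congr rfl fun χ hχ =>
      MP.sum_ct_self_eq (mem_Fa.1 hχ).1]
    simp [F]
  have h2 : ∀ v, ¬ m.FC v (z * v) → 2 * (φ v).re = blockRank 2 (m.bu v) := fun v e => by
    simpa [φ] using congrArg Complex.re (h.sum_faith m hz e)
  have h3 := h2 1 fun e => h.z_ne (by simpa using m.fc_one_iff.1 e)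
  have h4 : φ z = φ 1 := Finset.sum_congr rfl fun χ hχ => by
    rw [← mul_one z, h.ct_mul m hz, (mem_Fa.1 hχ).2]; simp
  rw [h.sum_cls m (φ := φ) fun _ _ e => Finset.sum_congr rfl fun χ _ =>
    e.ct_eq χ.2.isClassFunction χ.2.isClassFunction, h4] at h1
  have h5 := congrArg Complex.re h1
  have h6 : 0 ≤ (∑ i, if m.U x (g i) then φ (g i) else 0).re := by
    rw [Complex.re_sum]; exact Finset.sum_nonneg fun _ _ => by split_ifs; exacts [h0 _, le_rfl]
  have u : ((x ^ 2 ^ k : P) : K) * (x ^ 2 ^ k : P) = z := by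
    rw [h.hz, coe_pow, ← pow_add, pow_succ, mul_two]
  have h7 : ∑ v ∈ Xs x \ {x ^ 2 ^ k, z * x ^ 2 ^ k}, (2⁻¹ : ℝ) ≤ ∑ v ∈ Xs x, (φ v).re := by
    refine le_trans (Finset.sum_le_sum fun v hv => ?_) (Finset.sum_le_sum_of_subset_of_nonneg
      Finset.sdiff_subset fun _ _ _ => h0 _)
    simp only [Finset.mem_sdiff, mem_Xs, Finset.mem_insert, Finset.mem_singleton, not_or] at hv
    have := h2 v fun e => ?_
    · rw [h.rank_X m hv.1.1 hv.1.2] at this; push_cast at this; linarith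
    · have e1 : (v : K) * v = z := by
        rcases (h.fc_X m hv.1.1 (mul_mem h.zX hv.1.1)).1 e with e | e
        · exact absurd (by simpa using e) h.z_ne
        · have e' := congrArg Subtype.val e
          rcases h.mc.conj_cases (g 0).2 (h.out 0) hv.1.1 with e2 | ⟨-, -, e2⟩ <;>
            simp only [coe_mul, coe_inv, e2, ← h.hz] at e'
          · rw [eq_inv_iff_mul_eq_one, mul_assoc, ← h.zz, mul_right_inj] at e'; exact e'
          · rw [← hz, mul_left_inj, eq_inv_iff_mul_eq_one] at e'; exact absurd e' hv.1.2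
      have hx : ((x ^ 2 ^ k : P) : K) ∈ _ := npow_mem_zpowers (x : K) (2 ^ k)
      rcases h.eq_or (v := v * (x ^ 2 ^ k)⁻¹) (mul_mem hv.1.1 (inv_mem hx)) (by
        rw [coe_mul, coe_inv, mul_assoc, ← mul_assoc _ (v : K), zp_comm (inv_mem hx) hv.1.1,
          mul_assoc, ← mul_assoc, e1, ← u]; group) with e2 | e2
      · exact hv.2.1 (mul_inv_eq_one.1 e2)
      · exact hv.2.2 (mul_inv_eq_iff_eq_mul.1 e2)
  have h8 := Finset.le_card_sdiff {x ^ 2 ^ k, z * x ^ 2 ^ k} (Xs x)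
  have h9 := Finset.card_le_two (a := x ^ 2 ^ k) (b := z * x ^ 2 ^ k)
  have h10 := h.card_Xs
  have h11 : ((2 ^ (k + 2) : ℕ) : ℝ) ≤ ((Xs x \ {x ^ 2 ^ k, z * x ^ 2 ^ k}).card + 4 : ℕ) :=
    Nat.cast_le.2 (by omega)
  rw [m.rank_bu_one] at h3
  simp only [Complex.natCast_re, Complex.add_re, ← Complex.ofReal_ofNat 2, ← Complex.ofReal_inv,
    Complex.re_ofReal_mul, Complex.re_sum (Xs x)] at h5
  simp only [Finset.sum_const, nsmul_eq_mul] at h7
  push_cast [pow_add] at h11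
  exact_mod_cast (by push_cast; linarith : ((blockRank 2 b + 2 ^ k : ℕ) : ℝ) ≤ (F.card + 1 : ℕ))

theorem Tm.exists_hs {π : K →* L} (hπ : Function.Surjective π) (hk : π.ker = zpowers (z : K))
    {P' : Subgroup L} {m' : MP 2 M (icomp π hπ ⁻¹' b) P'} {n : ℕ} {S' : Finset (IrrCharacter L)}
    {τ' : Option (Fin n) → IrrCharacter L → ℤ} (d : DH m' k n S' τ') :
    ∃ S E ξ τ, HS m k x z g n S E ξ τ := by
  have := Fintype.ofFinite K
  have := Fintype.ofFinite L
  have hN : IsPGroup 2 π.ker := hk ▸ (m.isPE z).isPGroup_zpowers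
  have hc : ∀ y, ¬ 2 ∣ orderOf y → y ∈ cC π.ker := fun y _ => hk ▸
    (centralizer_zpowers _).ge (mem_centralizer_singleton_iff.2 (hz y))
  have hs := isSat_of_isPBlock m.blk
  choose ν n1 n2 n3 n4 using exists_coord hπ hN hc hs
  set τ : Option (Fin n) → IrrCharacter K → ℤ := fun i χ => ip (ν χ) (τ' i) with hτ
  have t0 : ∀ i, ∀ χ ∉ b, τ i χ = 0 := fun i χ e => by simp [hτ, n2 χ e, ip]
  have t1 : ∀ i ψ, τ i (icomp π hπ ψ) = τ' i ψ := fun i ψ => by
    by_cases e : icomp π hπ ψ ∈ b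
    · simp [hτ, n4 _ ψ rfl e, ip_single]
    · rw [t0 i _ e, d.rp.of_notMem i e]
  have eq : ∀ χ ψ : IrrCharacter K, (2 ^ (k + 3) : ℕ) * m.ct 1 (χ : K → ℂ) ψ =
      ∑ i, (wt k i : ℂ) * τ i χ * τ i ψ := fun χ ψ => by
    by_cases h1 : χ ∈ b
    · by_cases h2 : ψ ∈ b
      · rw [← d.rp.cf, MP.ct_one_cf (n1 χ) (cls_cf _), ← inner_reg_comp hπ hN hc, hk,
          Nat.card_zpowers, h.hz, h.mc.orderOf_u, m.ct_one h1 ψ.2.isClassFunction, ← n3 χ h1,
          classInner_reg, classInner_reg, n3 ψ h2]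
        push_cast; ring
      · simp [m.ct_of_notMem' h2, t0 _ ψ h2]
    · simp [m.ct_of_notMem h1, t0 _ χ h1]
  set F := Fa b z
  have mF : ∀ {χ}, χ ∈ F ↔ χ ∈ b ∧ sg (z : K) χ = -1 := mem_Fa
  have s1 := fun χ => sg_eq_one_iff hz h.zz hπ hk (χ := χ)
  have split : ∀ f : IrrCharacter K → ℤ, (∀ χ ∉ b, f χ = 0) →
      ∑ χ, f χ = ∑ ψ, f (icomp π hπ ψ) + ∑ χ ∈ F, f χ := fun f hf => by
    rw [← Finset.sum_image (g := icomp π hπ) fun _ _ _ _ e => icomp_injective π hπ e,
      ← Finset.sum_union (Finset.disjoint_right.2 fun χ h1 h2 => by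
        have := (s1 χ).2 (by simpa using h2); rw [(mF.1 h1).2] at this; omega)]
    refine (Finset.sum_subset (Finset.subset_univ _) fun χ _ e => hf χ fun e' => e ?_).symm
    rcases sg_cases (z : K) χ with e2 | e2
    · exact Finset.mem_union_left _ (by simpa using (s1 χ).1 e2)
    · exact Finset.mem_union_right _ (mF.2 ⟨e', e2⟩)
  have t2 : ∀ i ξ, (τ i ξ : ℂ) = ∑ ψ, 2 * τ' i ψ * m.ct 1 (icomp π hπ ψ : K → ℂ) ξ := fun i ξ => by
    apply mul_left_cancel₀ (Nat.cast_ne_zero.2 (pow_ne_zero (k + 3) two_ne_zero) :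
      ((2 ^ (k + 3) : ℕ) : ℂ) ≠ 0)
    rw [Finset.mul_sum, Finset.sum_congr rfl fun ψ _ => by
      rw [mul_left_comm, eq, Finset.mul_sum], Finset.sum_comm, Finset.sum_eq_single i
        (fun j _ e => ?_) (by simp)]
    · have := congrArg (Int.cast (R := ℂ)) (d.rp.nrm i)
      simp only [t1, ip, Int.cast_mul, Int.cast_sum, Finset.mul_sum] at this ⊢
      rw [pow_succ, Nat.cast_mul, ← Int.cast_natCast (2 ^ (k + 2)), ← this, Finset.sum_mul,
        Finset.sum_mul]
      exact Finset.sum_congr rfl fun _ _ => by push_cast; ring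
    · have := congrArg (Int.cast (R := ℂ)) (d.rp.orth e)
      simp only [ip, Int.cast_mul, Int.cast_sum] at this
      rw [← mul_zero (2 * (wt k j : ℂ) * τ j ξ), ← Int.cast_zero, ← this, Finset.mul_sum]
      exact Finset.sum_congr rfl fun _ _ => by rw [t1]; ring
  have gF : ∀ i j, ∑ χ ∈ F, τ i χ * τ j χ = ip (τ' i) (τ' j) := fun i j => by
    have e1 : ∑ ξ, sg (z : K) ξ * (τ i ξ * τ j ξ) = 0 := Int.cast_injective (α := ℂ) (by
      have e2 : ∀ ξ, (τ j ξ : ℂ) = ∑ ψ, 2 * τ' j ψ * m.ct 1 (ξ : K → ℂ) (icomp π hπ ψ) := fun ξ => by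
        simpa only [map_intCast, map_sum, map_mul, map_ofNat, m.ct_conj] using congrArg conj (t2 j ξ)
      rw [Int.cast_sum, Finset.sum_congr rfl fun ξ _ => by
        rw [Int.cast_mul, Int.cast_mul, t2 i, e2, Finset.sum_mul_sum, Finset.mul_sum],
        Finset.sum_comm, Int.cast_zero]
      refine Finset.sum_eq_zero fun ψ _ => ?_
      simp only [Finset.mul_sum]
      rw [Finset.sum_comm]
      refine Finset.sum_eq_zero fun ψ' _ => ?_
      rw [← mul_zero (4 * (τ' i ψ * τ' j ψ' : ℂ)), ← h.sum_sg m hz (v := 1) (fun e => h.z_ne (by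
        simpa using m.fc_one_iff.1 e)) (icomp π hπ ψ) (icomp π hπ ψ'), Finset.mul_sum]
      exact Finset.sum_congr rfl fun _ _ => by ring)
    rw [split _ fun χ e => by simp [t0 i χ e], Finset.sum_congr rfl fun ψ _ => by
      rw [(s1 _).2 ⟨ψ, rfl⟩, one_mul, t1, t1], Finset.sum_congr (s₁ := F) rfl fun χ e => by
      rw [(mF.1 e).2, neg_one_mul], Finset.sum_neg_distrib] at e1
    exact (add_neg_eq_zero.1 e1).symm
  have gT : ∀ i j, ip (τ i) (τ j) = 2 * ip (τ' i) (τ' j) := fun i j => by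
    rw [ip, split _ fun χ e => by simp [t0 i χ e], gF]; simp only [t1, two_mul, ip]
  have rp : m.Rp 1 (2 ^ (k + 3)) (wt k) τ := ⟨eq, by simp, fun i => by
    rw [gT, mul_left_comm, d.rp.nrm]; push_cast; ring, fun i j e => (gT i j).trans (by rw [d.rp.orth e, mul_zero])⟩
  have par : ∀ χ a, Even (τ none χ - τ (some a) χ) := fun χ a => by
    simp only [hτ, ← ip_sub']
    refine Finset.even_sum _ fun ψ _ => Even.mul_left ?_ _
    by_cases e : ψ ∈ S'
    · exact (odd_of_sq (d.tS ψ e)).sub_odd (odd_of_sq ((d.yS a).sq e))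
    · rw [Pi.sub_apply, (d.yS a).zero e, sub_zero]
      by_cases e' : ψ ∈ icomp π hπ ⁻¹' b
      exacts [even_of_sq (d.tO ψ e' e), by simp [d.rp.of_notMem _ e']]
  have od : ∀ χ, Odd (τ none χ) ↔ χ ∈ b ∧ blockHeight 2 b (χ : K → ℂ) = 0 := fun χ => by
    rw [← odd_wt (τ := fun i => τ i χ) d.ev (par χ), m.odd_iff (v := 1) (χ := χ) (ψ := χ)
      ((m.defect_bu (one_mem _)).trans (h.defect m)) (by rw [eq]; push_cast; rfl), and_self]
  set S := S'.image (icomp π hπ) with hS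
  have mS : ∀ χ ∈ S, τ none χ ^ 2 = 1 ∧ sg (z : K) χ = 1 ∧ ∀ a, τ (some a) χ ^ 2 = 1 := by
    simp only [hS, Finset.mem_image]
    rintro _ ⟨ψ, e, rfl⟩
    exact ⟨by rw [t1, d.tS ψ e], (s1 _).2 ⟨ψ, rfl⟩, fun a => by rw [t1, (d.yS a).sq e]⟩
  have cS : S.card = 4 := (Finset.card_image_of_injective _ (icomp_injective π hπ)).trans d.card
  have Sb : ∀ χ ∈ S, χ ∈ b ∧ blockHeight 2 b (χ : K → ℂ) = 0 := fun χ e =>
    (od χ).1 (odd_of_sq (mS χ e).1)
  have te : ∀ χ ∈ F, Even (τ none χ) := fun χ e => Int.not_odd_iff_even.1 fun o => by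
    obtain ⟨s, hs⟩ : S.Nonempty := Finset.card_pos.1 (by omega)
    have := h.sg_eq m hz (Sb s hs).1 ((od χ).1 o).1 (Sb s hs).2 ((od χ).1 o).2
    rw [(mS s hs).2.1, (mF.1 e).2] at this; omega
  have rk : blockRank 2 b = n + 1 := (blockRank_quot hπ hN hc hs).trans d.rank
  obtain ⟨ξ, x1, x2, x3, x4, x5, x6, x7⟩ := faith (F := F) (t := τ none) (y := fun a => τ (some a))
    (m := 2 ^ k) te (fun a χ e => by simpa using (te χ e).sub (par χ a))
    (by rw [gF, ← one_mul (ip _ _)]; exact (d.rp.nrm none).trans (by push_cast; ring))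
    (fun a => by rw [gF, (d.yS a).ip_self, d.card]; rfl) (fun a => by rw [gF, d.rp.orth (by simp)])
    (fun a b e => (gF _ _).trans (d.rp.orth (by simpa))) (fun χ e => by
      obtain ⟨_ | a, e⟩ := rp.exists_ne (one_mem _) (mF.1 e).1
      exacts [.inl e, .inr ⟨a, e⟩]) (by
      have : _ ≤ F.card + 1 := h.le_card_faith m hz; rw [rk] at this; simp only [Fintype.card_fin]; omega)
  set E := Finset.univ.filter fun χ => χ ∈ b ∧ χ ∉ S ∧ ∀ a, χ ≠ ξ a with hE
  have mE : ∀ {χ}, χ ∈ E ↔ χ ∈ b ∧ χ ∉ S ∧ ∀ a, χ ≠ ξ a := by simp [hE]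
  have mem : ∀ χ, χ ∈ b ↔ χ ∈ S ∨ χ ∈ E ∨ ∃ a, χ = ξ a := fun χ => ⟨fun e => by
    rw [mE]; by_contra! e'; obtain ⟨a, e2⟩ := e'.2.1 e e'.1; exact e'.2.2 a e2, by
    rintro (e | e | ⟨a, rfl⟩); exacts [(Sb χ e).1, (mE.1 e).1, (mF.1 (x2 a)).1]⟩
  have shp : Shp S E ξ (τ none) fun a => τ (some a) := by
    refine ⟨cS, fun χ e => (mE.1 e).2.1, fun a e => ?_, fun a e => (mE.1 e).2.2 a rfl, x1,
      fun χ e => (mS χ e).1, fun χ e => ?_, fun χ e1 e2 => ?_, fun a χ e => (mS χ e).2.2 a, x5,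
      fun a χ e1 e2 => ?_⟩
    · have := (mS _ e).2.1; rw [(mF.1 (x2 a)).2] at this; omega
    · rcases sg_cases (z : K) χ with e' | e'
      · obtain ⟨ψ, rfl⟩ := (s1 χ).1 e'
        rw [t1, d.tO ψ (mE.1 e).1 fun e2 => (mE.1 e).2.1 (Finset.mem_image_of_mem _ e2)]
      · exact x7 χ (mF.2 ⟨(mE.1 e).1, e'⟩) (mE.1 e).2.2
    · by_cases e : χ ∈ b
      · obtain ⟨a, rfl⟩ := (((mem χ).1 e).resolve_left e1).resolve_left e2
        exact x4 a
      · exact t0 _ χ e
    · by_cases e : χ ∈ b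
      · rcases sg_cases (z : K) χ with e' | e'
        · obtain ⟨ψ, rfl⟩ := (s1 χ).1 e'
          rw [t1, (d.yS a).zero fun e2 => e1 (Finset.mem_image_of_mem _ e2)]
        · exact x6 a χ (mF.2 ⟨e, e'⟩) e2
      · exact t0 _ χ e
  have sb : ∀ f : IrrCharacter K → ℤ, ∑ χ ∈ S, f χ + ∑ χ ∈ E, f χ + ∑ a, f (ξ a) =
      ∑ ψ with ψ ∈ icomp π hπ ⁻¹' b, f (icomp π hπ ψ) + ∑ χ ∈ F, f χ := fun f => by
    rw [← shp.sum (F := Finset.univ.filter (· ∈ b)) (by simpa using mem), Finset.sum_filter,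
      split _ fun χ e => if_neg e, Finset.sum_congr (s₁ := F) rfl fun χ e => if_pos (mF.1 e).1,
      Finset.sum_filter]
    rfl
  have c1 := sb 1
  have c2 := sb (sg (z : K))
  have c3 := shp.sum (F := Finset.univ.filter (· ∈ b)) (by simpa using mem) fun _ => 1
  rw [Finset.sum_congr rfl fun χ e => (mS χ e).2.1, Finset.sum_congr rfl fun a _ => (mF.1 (x2 a)).2,
    Finset.sum_congr rfl fun ψ _ => (s1 _).2 ⟨ψ, rfl⟩,
    Finset.sum_congr rfl fun χ e => (mF.1 e).2] at c2
  have c4 := h.card_eq m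
  have rz : blockRank 2 (m.bu z) = n + 1 := by
    rw [← rk, ← m.rank_bu_one, ← Nat.cast_inj (R := ℂ), ← m.sum_ct_self', ← m.sum_ct_self']
    refine Finset.sum_congr rfl fun χ _ => ?_
    rw [← mul_one z, h.ct_mul m hz]
    rcases sg_cases (z : K) χ with e | e <;> simp [e]
  simp only [Pi.one_apply, Finset.sum_const, ← card_eq_fl, d.num, cS, x3, Finset.card_univ,
    Fintype.card_fin, smul_eq_mul, nsmul_eq_mul] at c1 c2 c3
  rw [pow_succ] at c4
  exact ⟨S, E, ξ, τ, rp, shp, mem, fun χ e => (Sb χ e).2, fun χ e => (mS χ e).2.1,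
    fun a => (mF.1 (x2 a)).2, by omega, by omega, rz, d.ev, by omega⟩

end central

end H7
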