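import Cfsg.Agent.H7.Loc
import Cfsg.Agent.H7.Had
import Cfsg.Agent.H9.MC

/-! Fusion in 2-blocks with defect groups of maximal class (`Tm`): classes, defects and ranks of the
subsections, the sign patterns of the unfused outer classes (`Tm.exists_pat`), the class sum
`Tm.sum_cls`; integral representations `Rp` of contribution matrices. -/

open H5 Cfsg MonoidAlgebra Subgroup
open H8 (cC nN c1 cA mp io St Le Sp BP)
open H7.Had (ip Pt)
open scoped ComplexConjugate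

namespace H7

variable {M : Ideal AlgInt} {G : Type*} [Group G] [Finite G] {p : ℕ}

open Classical in
theorem isGen_ind (A : Subgroup G) [hA : A.Normal] :
    IsGeneralizedCharacter G fun v => if v ∈ A then (A.index : ℂ) else 0 := by
  have := Fintype.ofFinite G
  convert (isGen_one (G := A)).indFun using 1
  funext v
  split_ifs with h
  · rw [indFun_apply_of_normal A _ ⟨v, h⟩, Finset.sum_const, Finset.card_univ, nsmul_eq_mul, mul_one,
      ← Nat.card_eq_fintype_card, ← A.card_mul_index, Nat.cast_mul,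
      inv_mul_cancel_left₀ card_ne_zero_complex]
  · rw [indFun_eq_zero_of_normal A _ h]

open Classical in
theorem isGen_ind' {A P : Subgroup G} (h : ∀ g ∈ P, ∀ a ∈ A, g * a * g⁻¹ ∈ A) {n : ℕ}
    (hn : A.relIndex P = n) :
    IsGeneralizedCharacter P fun v => if (v : G) ∈ A then (n : ℂ) else 0 :=
  hn ▸ isGen_ind (A.subgroupOf P) (hA := ⟨fun a ha g => h g g.2 a ha⟩)

variable [hp : Fact p.Prime] [PM p M]

namespace MP

variable {B : Set (IrrCharacter G)} {P : Subgroup G} (m : MP p M B P) {u v w : P}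
  {χ ψ : IrrCharacter G}

include m in
theorem rank_one_of (hab : P ≤ cC P)
    (h : ∀ t ∈ nN P, ¬ p ∣ orderOf t → t ∈ cC P) : blockRank p B = 1 := by
  refine (m.nl_of_nil ((m.nil_iff hab).2 fun t ht => ?_)).rank
  rw [← pp_mul_pr (p := p) t]
  exact mul_mem ((sup_le inf_le_right hab : _ ⊔ P ≤ cC P) (m.mx.mem_sup_of_isPE
    (pp_mem (⟨⟨trivial, ht.1⟩, ht.2⟩ : t ∈ ⊤ ⊓ nN P ⊓ St m.e)) (isPE_pp t)))
    (h _ (pr_mem ht.1) (not_dvd_orderOf_pr t))

theorem defect_bu_of (h : ∀ w, m.FC v w → Nat.card (P ⊓ c1 (w : G) : Subgroup G) ≤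
    Nat.card (P ⊓ c1 (v : G) : Subgroup G)) :
    Nat.card (P ⊓ c1 (v : G) : Subgroup G) = p ^ blockDefect p (m.bu v) := by
  obtain ⟨w, h1, h2⟩ := m.exists_fc_defect v
  have := h w h1
  rw [card_inf_c1, card_inf_c1] at *
  exact le_antisymm (m.card_le_pow_bu v) (by rw [h1.defect_eq, ← h2]; exact this)

theorem rank_bu_of {D : Subgroup G} (hD : P ⊓ c1 (v : G) = D)
    (hd : Nat.card D = p ^ blockDefect p (m.bu v)) (hab : ∀ a ∈ D, ∀ b ∈ D, a * b = b * a)
    (h : ∀ t ∈ c1 (v : G), ¬ p ∣ orderOf t → (∀ a ∈ D, t * a * t⁻¹ ∈ D) → ∀ a ∈ D, Commute t a) :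
    blockRank p (m.bu v) = 1 := by
  obtain ⟨D', h1, -, h3, h4⟩ := m.exists_def_bu v
  obtain rfl : D = D' := eq_of_le_of_card_ge (hD ▸ h1) (h4.trans hd.symm).le
  obtain ⟨m'⟩ := nonempty_mp (m.bu_blk v) h3
  refine m'.rank_one_of (fun a ha b hb => Subtype.ext (hab b hb a ha)) fun t ht ho a ha =>
    Subtype.ext (h t t.2 (by rwa [orderOf_coe]) (fun b hb => ?_) a ha).eq.symm
  exact (mem_normalizer_iff.1 ht ⟨b, (hD.ge hb).2⟩).1 hb

open Classical in
theorem sum_weight [Fintype P] {ρ φ : P → ℂ} (hρ : ∀ v, ∑ w, (if m.FC v w then ρ w else 0) = 1)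
    (hφ : m.Stb φ) : ∑ v, (m.cl v : ℂ)⁻¹ * φ v = ∑ w, ρ w * φ w := by
  rw [Finset.sum_congr rfl fun w _ => (m.sum_fc w (ρ w * φ w)).symm, Finset.sum_comm]
  refine Finset.sum_congr rfl fun v _ => ?_
  rw [← mul_one (_ * _), ← hρ v, Finset.mul_sum]
  refine Finset.sum_congr rfl fun w _ => ?_
  by_cases h : m.FC v w
  · rw [if_pos h, if_pos h.symm, hφ v w h]; ring
  · rw [if_neg h, if_neg fun e => h e.symm, mul_zero]

theorem exists_int {c : ℂ} (h : IsGeneralizedCharacter P fun w => c * m.ind v w)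
    (χ ψ : IrrCharacter G) : ∃ n : ℤ, c * m.ct v (χ : G → ℂ) ψ = n := by
  have := Fintype.ofFinite G
  rw [← m.inner_star_ind χ.2.isClassFunction ψ.2.isClassFunction]
  exact (((m.stb_const c).mul (m.stb_ind v)).isGen_star h χ.2.isGen).exists_classInner_int ψ.2.isGen

theorem ct_self_nonneg (v : P) (θ : G → ℂ) : 0 ≤ (m.ct v θ θ).re := by
  rw [← m.sum_ct_mul', Complex.re_sum]
  refine Finset.sum_nonneg fun χ _ => ?_
  rw [← m.ct_conj v θ χ, Complex.mul_conj, Complex.ofReal_re]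
  exact Complex.normSq_nonneg _

theorem apply_eq_bu (h : ∀ w : P, IsConj (v : G) w → m.FC v w) (hχ : χ ∈ B) :
    (χ : G → ℂ) v = blockPart (m.bu v) (fun x : c1 (v : G) => (χ : G → ℂ) x) (selfC (v : G)) := by
  classical
  have := Fintype.ofFinite (c1 (v : G))
  have e : pp p ((selfC (v : G) : c1 (v : G)) : G) = v := pp_of_isPE (m.isPE v)
  refine (apply_eq_sum_blocks (M := M) (χ.2.isClassFunction.restrict _) (selfC (v : G))).trans
    (Finset.sum_eq_single _ (fun b hb hne => ?_) fun h => ?_)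
  · obtain ⟨ξ, -, rfl⟩ := Finset.mem_image.1 hb
    have hb := isPBlock_blockOf (M := M) ξ
    refine blockPart_res_of_mem m.blk hb (fun hi => hne ?_) hχ e
    obtain ⟨x, hx⟩ := (m.exists_gd_iff' (m.isPE v) hb).2 hi
    obtain ⟨y, h1, h2⟩ := h ⟨_, hx.mem⟩ (isConj_iff.2 ⟨x, rfl⟩)
    have h3 : x⁻¹ * y ∈ c1 (v : G) := mem_centralizer_singleton_iff.2 (by
      rw [mul_assoc, mul_inv_eq_iff_eq_mul.1 h2]; group)
    have h4 := (m.gd_iff (v := v) (by
      rw [mem_centralizer_singleton_iff.1 h3, mul_inv_cancel_right])).1 (m.gd_of_mem_c1 v h3)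
    refine H8.io_inj' hb (m.bu_blk v) ?_
    rw [m.io_bu, ← h4, ← H8.cA_cA, (m.gd_iff h2).1 h1,
      ← (m.gd_iff (v := ⟨_, hx.mem⟩) rfl).1 hx, H8.cA_cA, inv_mul_cancel, H8.cA_one]
  · obtain ⟨ξ, hξ⟩ := m.bu_blk v
    exact absurd (Finset.mem_image.2 ⟨ξ, Finset.mem_univ _, hξ.symm⟩) h

theorem pow_mul_star_ind_div {θ : G → ℂ} (hθ : IsGeneralizedCharacter G θ) (v : P) (g : G) :
    m.star (fun w => (p : ℂ) ^ blockDefect p (m.bu v) * m.ind v w) θ g / Nat.card (c1 g) ∈ O M := by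
  classical
  have := Fintype.ofFinite (c1 (pp p g))
  have h1 := apply_eq_sum_blocks (M := M) ((m.isClassFunction_star
    (fun w => (p : ℂ) ^ blockDefect p (m.bu v) * m.ind v w) θ).restrict _) (inC p g)
  rw [coe_inC] at h1
  rw [h1, Finset.sum_div]
  refine sum_mem fun b hb => ?_
  obtain ⟨χ, -, rfl⟩ := Finset.mem_image.1 hb
  have hb := isPBlock_blockOf (M := M) χ
  rw [m.blockPart_star hθ.isClassFunction _ hb rfl]
  by_cases h' : ∃ x, m.Gd (pp p g) (io M _ (blockOf M (χ : c1 (pp p g) → ℂ))) x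
  · obtain ⟨x, hx⟩ := h'
    rw [Stb.et_eq (η := fun w => _ * m.ind v w) ((m.stb_const _).mul (m.stb_ind v))
      (v := ⟨_, hx.mem⟩) hx rfl, ind]
    split_ifs with h
    · have e : cj x (c1 (pp p g)) = c1 ((⟨_, hx.mem⟩ : P) : G) := cj_c1 _ _
      rw [h.defect_eq, ← (m.gd_iff_cB (v := ⟨_, hx.mem⟩) rfl hb).1 hx, H8.cB_eq e,
        blockDefect_ieq _ hb, mul_one, ← card_c1_inC (p := p)]
      exact pow_mul_blockPart_div_mem_O (hθ.restrict _) _
    · simp
  · rw [m.et_zero (not_exists.1 h')]; simp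

/-- The contribution matrix of `v` kills the vector `c`. -/
def Kl (v : P) (c : IrrCharacter G → ℤ) : Prop :=
  ∀ ψ : IrrCharacter G, ∑ χ : IrrCharacter G, c χ * m.ct v (χ : G → ℂ) ψ = 0

/-- An integral representation of a contribution matrix. -/
structure Rp {κ : Type*} [Fintype κ] (v : P) (N : ℕ) (c : κ → ℕ) (τ : κ → IrrCharacter G → ℤ) :
    Prop where
  eq : ∀ χ ψ : IrrCharacter G, N * m.ct v (χ : G → ℂ) ψ = ∑ i, (c i : ℂ) * τ i χ * τ i ψ
  ne : N ≠ 0
  nrm : ∀ i, c i * ip (τ i) (τ i) = N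
  orth : Pairwise fun i j => ip (τ i) (τ j) = 0

variable {m} {κ : Type*} [Fintype κ] {N : ℕ} {c : κ → ℕ} {τ : κ → IrrCharacter G → ℤ}
  {a : IrrCharacter G → ℤ}

theorem Rp.sum (h : m.Rp v N c τ) (a : IrrCharacter G → ℤ) (ψ : IrrCharacter G) :
    N * ∑ χ : IrrCharacter G, a χ * m.ct v (χ : G → ℂ) ψ = ∑ i, (c i : ℂ) * ip a (τ i) * τ i ψ := by
  simp only [Finset.mul_sum, mul_left_comm (N : ℂ), h.eq, ip, Int.cast_sum, Finset.sum_mul]
  rw [Finset.sum_comm]
  exact Finset.sum_congr rfl fun _ _ => Finset.sum_congr rfl fun _ _ => by push_cast; ring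

theorem Rp.fix (h : m.Rp v N c τ) (i : κ) (ψ : IrrCharacter G) :
    ∑ χ : IrrCharacter G, τ i χ * m.ct v (χ : G → ℂ) ψ = τ i ψ := by
  apply mul_left_cancel₀ (Nat.cast_ne_zero.2 h.ne : (N : ℂ) ≠ 0)
  rw [h.sum, Finset.sum_eq_single i (fun j _ e => by rw [h.orth e.symm]; simp) (by simp)]
  exact congrArg (· * _) (by exact_mod_cast h.nrm i)

theorem Rp.kl (h : m.Rp v N c τ) (e : ∀ i, ip a (τ i) = 0) : m.Kl v a := fun ψ => by
  apply mul_left_cancel₀ (Nat.cast_ne_zero.2 h.ne : (N : ℂ) ≠ 0)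
  simp [h.sum, e]

theorem Rp.ip_eq (h : m.Rp v N c τ) (e : m.Kl v a) (i : κ) : ip a (τ i) = 0 := by
  apply Int.cast_injective (α := ℂ)
  have h1 : ∀ χ : IrrCharacter G, (τ i χ : ℂ) = ∑ ψ : IrrCharacter G, τ i ψ * m.ct v (χ : G → ℂ) ψ :=
    fun χ => by simpa [ct_conj] using (congrArg conj (h.fix i χ)).symm
  rw [ip, Int.cast_sum, Finset.sum_congr rfl fun χ _ => by rw [Int.cast_mul, h1, Finset.mul_sum],
    Finset.sum_comm]
  simp only [mul_left_comm (a _ : ℂ), ← Finset.mul_sum, e _, mul_zero, Finset.sum_const_zero,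
    Int.cast_zero]

theorem Rp.kl_of_not (h : m.Rp v N c τ) (e : ¬ m.FC v w) (i : κ) : m.Kl w (τ i) := fun ψ => by
  rw [Finset.sum_congr rfl fun χ _ => by rw [← h.fix i, Finset.sum_mul], Finset.sum_comm]
  simp only [mul_assoc, ← Finset.mul_sum, m.sum_ct_mul_of_not e, mul_zero, Finset.sum_const_zero]

theorem Rp.of_notMem (h : m.Rp v N c τ) (i : κ) (hχ : χ ∉ B) : τ i χ = 0 := by
  apply Int.cast_injective (α := ℂ)
  simp [← h.fix i χ, m.ct_of_notMem' hχ]

end MP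

namespace MP

variable [PM 2 M] {B : Set (IrrCharacter G)} {P : Subgroup G} (m : MP 2 M B P) {u v w : P}
  {χ ψ : IrrCharacter G}

theorem odd_iff {d : ℕ} (hd : blockDefect 2 (m.bu v) = d) {n : ℤ}
    (h : (2 ^ d : ℕ) * m.ct v (χ : G → ℂ) ψ = n) : Odd n ↔
      (χ ∈ B ∧ blockHeight 2 B (χ : G → ℂ) = 0) ∧ ψ ∈ B ∧ blockHeight 2 B (ψ : G → ℂ) = 0 := by
  rw [← m.red_ct_ne_zero_iff v, hd, ← Nat.cast_pow, h, red_intCast, Ne,
    CharP.intCast_eq_zero_iff (F M) 2, ← Int.not_even_iff_odd, even_iff_two_dvd]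
  rfl

theorem exists_pat {S : Finset (IrrCharacter G)} (hS : S.card = 4)
    (h0 : ∀ χ ∈ S, χ ∈ B ∧ blockHeight 2 B (χ : G → ℂ) = 0) (hd : blockDefect 2 (m.bu v) = 2)
    (hr : blockRank 2 (m.bu v) = 1) (h : IsGeneralizedCharacter P fun w => (4 : ℕ) * m.ind v w) :
    ∃ q, Pt S q ∧ m.Rp v 4 (fun _ : Unit => 1) fun _ => q := by
  classical
  choose C hC using m.exists_int h
  obtain ⟨q, h1, h2⟩ := Had.exists_pat hS (C := C) (fun i j => Int.cast_injective (α := ℂ) (by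
    have : ∀ l, (C j l : ℂ) = (4 : ℕ) * m.ct v (l : G → ℂ) j := fun l => by
      simpa only [map_mul, map_natCast, map_intCast, ct_conj] using (congrArg conj (hC j l)).symm
    simp only [ip, Int.cast_sum, Int.cast_mul, this, ← hC, mul_mul_mul_comm (↑(4 : ℕ) : ℂ),
      ← Finset.mul_sum, m.sum_ct_mul']
    push_cast; ring)) (Int.cast_injective (α := ℂ) (by
      simp only [Int.cast_sum, ← hC, ← Finset.mul_sum, m.sum_ct_self', hr]; simp))
    fun i hi j hj => (m.odd_iff hd (hC i j)).2 ⟨h0 i hi, h0 j hj⟩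
  exact ⟨q, h1, fun χ ψ => by rw [hC, h2]; simp, four_ne_zero, fun _ => by simp [h1.ip_self, hS],
    fun _ _ h => absurd rfl h⟩

theorem fc_conj (h : m.FC v w) (e : (w : G) ∈ zpowers (v : G)) (hn : P ≤ nN (zpowers (v : G))) :
    ∃ u ∈ P, u * v * u⁻¹ = w := by
  obtain ⟨g, h1, h2⟩ := h
  have e1 : zpowers (w : G) = zpowers (v : G) := eq_of_le_of_card_ge (zpowers_le.2 e)
    (by rw [Nat.card_zpowers, Nat.card_zpowers, ← h2, orderOf_conj'])
  have hf := m.le_fv v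
  set Q := zpowers (v : G)
  have h3 : g ∈ ⊤ ⊓ nN Q ⊓ St (m.fv v) := ⟨⟨trivial, H8.mem_nN_iff.2 (by rw [cj_zpowers, h2, e1])⟩,
    H8.mem_St.2 (((m.gd_iff h2).1 h1).trans (m.mx.unique (e1 ▸ m.le_fv w) hf))⟩
  have t1 : ⊤ ⊓ cC Q ≤ ⊤ ⊓ nN Q ⊓ St (m.fv v) := inf_le_right.trans (m.cent_le_stab hf)
  obtain ⟨D, hD, hle⟩ := m.mx.exists_def_le hf t1 le_rfl
  obtain ⟨x, -, -, hx⟩ := m.mx.exists_cj (m.mx.bp_of_le hf) hD.le hD.pg hD.ne
  rw [m.mx.inf_stab hf, inf_eq_left.2 hn] at hle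
  obtain rfl : P = D := eq_of_le_of_card_ge hle (by rw [← card_cj x D]; exact card_le_of_le hx)
  obtain ⟨y, hy, h4⟩ := (H8.fong (H8.loc_tw m.mx.tw t1 le_rfl) (hf.lo m.mx.pair).blk
    (H8.mem_Inv_iff_le.2 inf_le_right) hD).2 _ (zpowers_le.2 (pp_mem h3)) (isPE_pp g).isPGroup_zpowers
  rw [cj_zpowers, zpowers_le, top_inf_eq] at h4
  rw [← SetLike.mem_coe, coe_mul_of_right_le_normalizer_left _ _ (hn.trans (H8.nN_le_nN_cC Q))] at h4
  obtain ⟨c, hc, u, hu, h5⟩ := h4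
  have cm : ∀ {t : G}, t ∈ nN Q → ∀ a ∈ Q, t * a * t⁻¹ ∈ Q := fun ht a ha =>
    (mem_normalizer_iff.1 ht a).1 ha
  obtain ⟨k, hk⟩ := (m.isPE v).exists_pow
  have h6 := H9.commute_of_odd_of_conj_mem hk (Nat.odd_iff.2 (Nat.two_dvd_ne_zero.1
    (not_dvd_orderOf_pr g))) (cm (pr_mem h3).1.2 _ (mem_zpowers _))
  have h7 : pp 2 g * v * (pp 2 g)⁻¹ = w := by
    rw [← h2]; conv_rhs => rw [← pp_mul_pr (p := 2) g]
    rw [mul_assoc (pp 2 g) _ (v : G), h6.eq]; group
  obtain ⟨i, hi⟩ := e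
  obtain ⟨j, hj⟩ := cm (inv_mem hy.1.2) _ (mem_zpowers (v : G))
  refine ⟨u, hu, ?_⟩
  have h8 : c * u * v * (c * u)⁻¹ = w := by
    have : pp 2 g * (y⁻¹ * v * y⁻¹⁻¹) * (pp 2 g)⁻¹ = y⁻¹ * w * y⁻¹⁻¹ := by
      simp only at hi hj
      rw [← hj, ← conj_zpow, h7, ← hi, ← conj_zpow, ← hj, ← zpow_mul, ← zpow_mul, mul_comm]
    rw [show c * u = _ from h5, show (w : G) = y * (y⁻¹ * w * y⁻¹⁻¹) * y⁻¹ by group, ← this]; group
  rw [← h8, show c * u * v * (c * u)⁻¹ = c * (u * v * u⁻¹) * c⁻¹ by group,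
    ← hc _ (cm (hn hu) _ (mem_zpowers _)), mul_inv_cancel_right]

/-- `v` is not fused into the cyclic subgroup generated by `x`. -/
def U (x v : P) : Prop := ∀ w, m.FC v w → (w : G) ∉ zpowers (x : G)

variable {m} in
theorem FC.mul_self_iff (h : m.FC v w) : (v : G) * v = 1 ↔ (w : G) * w = 1 :=
  ⟨fun e => mul_self_of_isConj e h.isConj, fun e => mul_self_of_isConj e h.symm.isConj⟩

theorem fc_of_conj {a : G} (ha : a ∈ P) (h : a * v * a⁻¹ = w) : m.FC v w :=
  m.fc_of_isConj (isConj_iff.2 ⟨⟨a, ha⟩, Subtype.ext h⟩)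

end MP

/-- A 2-group of maximal class with its central involution and two outer representatives. -/
structure Tm (P : Subgroup G) (k : ℕ) (x z : P) (g : Fin 2 → P) : Prop where
  mc : H9.MC P k x
  hz : (z : G) = x ^ 2 ^ (k + 1)
  out : ∀ i, (g i : G) ∉ zpowers (x : G)
  uniq : ∀ v : P, (v : G) ∉ zpowers (x : G) → ∃! i, (g i : G) * (v : G)⁻¹ ∈ zpowers ((x : G) ^ 2)

theorem exists_tm {P : Subgroup G} {k : ℕ} {x : G} (h : H9.MC P k x) :
    ∃ z g, Tm P k ⟨x, h.xmem⟩ z g := by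
  obtain ⟨y, hy, hy'⟩ := h.exists_out
  refine ⟨⟨_, h.umem⟩, ![⟨y, hy⟩, ⟨x * y, mul_mem h.xmem hy⟩], h, rfl, fun i => ?_, fun v hv => ?_⟩
  · fin_cases i
    · exact hy'
    · exact fun e => hy' ((Subgroup.mul_mem_cancel_left _ (mem_zpowers x)).1 e)
  · have h1 := h.mul_inv_mem hy v.2 hy' hv
    have h2 : ¬ (y * (v : G)⁻¹ ∈ zpowers (x ^ 2) ∧ x * y * (v : G)⁻¹ ∈ zpowers (x ^ 2)) :=
      fun ⟨a, b⟩ => h.x_notMem_sq ((Subgroup.mul_mem_cancel_right _ a).1 (mul_assoc x y _ ▸ b))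
    by_cases e : y * (v : G)⁻¹ ∈ zpowers (x ^ 2)
    · exact ⟨0, e, fun i hi => by fin_cases i; exacts [rfl, absurd ⟨e, hi⟩ h2]⟩
    · exact ⟨1, (mul_assoc x y _ ▸ H9.mul_mem_of_relIndex_two h.relIndex_sq (mem_zpowers x) h1
        h.x_notMem_sq e : x * y * (v : G)⁻¹ ∈ _), fun i hi => by fin_cases i; exacts [absurd hi e, rfl]⟩

omit [Finite G] in
theorem zp_comm {x a b : G} (ha : a ∈ zpowers x) (hb : b ∈ zpowers x) : a * b = b * a := by
  obtain ⟨i, rfl⟩ := ha; obtain ⟨j, rfl⟩ := hb; exact (Commute.zpow_zpow_self x i j).eq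

open Classical in
/-- The elements of order at least four in the cyclic subgroup. -/
noncomputable def Xs {P : Subgroup G} [Fintype P] (x : P) : Finset P :=
  Finset.univ.filter fun v : P => (v : G) ∈ zpowers (x : G) ∧ (v : G) * v ≠ 1

omit [Finite G] in
theorem mem_Xs {P : Subgroup G} [Fintype P] {x v : P} :
    v ∈ Xs x ↔ (v : G) ∈ zpowers (x : G) ∧ (v : G) * v ≠ 1 := by simp [Xs]

namespace Tm

variable {P : Subgroup G} {k : ℕ} {x z v w : P} {g : Fin 2 → P} (h : Tm P k x z g)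
include h

omit [Finite G] in
theorem zz : (z : G) * z = 1 := h.hz ▸ h.mc.u_mul_u

omit [Finite G] in
theorem z_ne : z ≠ 1 := fun e => h.mc.u_ne_one (h.hz ▸ congrArg Subtype.val e)

omit [Finite G] in
theorem zX : (z : G) ∈ zpowers (x : G) := h.hz ▸ h.mc.u_mem_x

omit [Finite G] in
theorem zc {a : G} (ha : a ∈ P) : a * z = z * a := h.hz ▸ (h.mc.commute_u ha).eq

omit [Finite G] in
theorem le_cC : P ≤ cC (zpowers (z : G)) := fun _ ha =>
  (centralizer_zpowers _).ge (mem_centralizer_singleton_iff.2 (h.zc ha))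

theorem eq_or (hv : (v : G) ∈ zpowers (x : G)) (h2 : (v : G) * v = 1) : v = 1 ∨ v = z :=
  (h.mc.eq_one_or_eq_u hv h2).imp Subtype.ext fun e => Subtype.ext (e.trans h.hz.symm)

theorem inf_X (hv : (v : G) ∈ zpowers (x : G)) (h2 : (v : G) * v ≠ 1) :
    P ⊓ c1 (v : G) = zpowers (x : G) :=
  le_antisymm (fun _ ha => h.mc.mem_zpowers_of_commute ha.1 hv h2
    (mem_centralizer_singleton_iff.1 ha.2)) fun _ ha => ⟨h.mc.zpowers_le ha,
      mem_centralizer_singleton_iff.2 (zp_comm ha hv)⟩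

theorem mem_out (hv : (v : G) ∉ zpowers (x : G)) {a : G} :
    a ∈ P ⊓ c1 (v : G) ↔ a = 1 ∨ a = z ∨ a = v ∨ a = z * v := by
  refine ⟨fun ha => h.hz ▸ h.mc.cent_out v.2 hv ha.1 (mem_centralizer_singleton_iff.1 ha.2), ?_⟩
  have h1 : (z : G) ∈ P ⊓ c1 (v : G) := ⟨z.2, mem_centralizer_singleton_iff.2 (h.zc v.2).symm⟩
  have h2 : (v : G) ∈ P ⊓ c1 (v : G) := ⟨v.2, mem_centralizer_singleton_iff.2 rfl⟩
  rintro (rfl | rfl | rfl | rfl)
  exacts [one_mem _, h1, h2, mul_mem h1 h2]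

theorem card_out (hv : (v : G) ∉ zpowers (x : G)) : Nat.card (P ⊓ c1 (v : G) : Subgroup G) = 4 := by
  classical
  have h1 : (z : G) ≠ 1 := fun e => h.z_ne (Subtype.ext e)
  have h2 : ∀ a ∈ zpowers (x : G), a ≠ v := fun a ha e => hv (e ▸ ha)
  have h3 : ∀ a ∈ zpowers (x : G), a ≠ z * v := fun a ha e =>
    hv ((Subgroup.mul_mem_cancel_left _ h.zX).1 (e ▸ ha))
  rw [← SetLike.coe_sort_coe, Nat.card_coe_set_eq, show ((P ⊓ c1 (v : G) : Subgroup G) : Set G) =
    ({1, (z : G), (v : G), (z : G) * v} : Finset G) from Set.ext fun a => by simp [← h.mem_out hv],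
    Set.ncard_coe_finset, Finset.card_eq_four]
  exact ⟨_, _, _, _, h1.symm, h2 _ (one_mem _), h3 _ (one_mem _), h2 _ h.zX, h3 _ h.zX,
    by simpa using h1, rfl⟩

theorem z_mem_iff : (z : G) ∈ zpowers (v : G) ↔
    ¬ (v = 1 ∨ (v : G) ∉ zpowers (x : G) ∧ (v : G) * v = 1) := by
  refine ⟨fun hz => ?_, fun hv => ?_⟩
  · rintro (rfl | ⟨h1, h2⟩)
    · exact h.z_ne (Subtype.ext (by simpa using hz))
    · rcases H9.eq_one_or_eq_of_mem_zpowers h2 hz with e | e
      exacts [h.z_ne (Subtype.ext e), h1 (e ▸ h.zX)]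
  · rw [not_or] at hv
    by_cases e : (v : G) ∈ zpowers (x : G)
    · refine H9.mem_zpowers_of_orderOf_dvd h.zX e ?_
      obtain ⟨n, hn⟩ := isPE_of_mem h.mc.isPGroup v.2
      rw [h.hz, h.mc.orderOf_u, hn]
      exact dvd_pow_self 2 fun e => hv.1 (Subtype.ext (by rwa [e, pow_zero, orderOf_eq_one_iff] at hn))
    · rw [h.hz, ← (h.mc.sq_cases v.2 e).resolve_left fun e' => hv.2 ⟨e, e'⟩]
      exact mul_mem (mem_zpowers _) (mem_zpowers _)

theorem wc : MP.Lv.WC (zpowers (z : G)) := fun a u h1 h2 => by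
  have h3 : a * z * a⁻¹ ∈ zpowers (a * u * a⁻¹) :=
    cj_zpowers a u ▸ conj_mem_cj.2 (h1 (mem_zpowers _))
  rcases H9.eq_one_or_eq_of_mem_zpowers h.zz (H9.mem_zpowers_of_orderOf_dvd h3 (h2 (mem_zpowers _))
    (orderOf_conj' _ _).dvd) with e | e
  · exact absurd (Subtype.ext (conj_eq_one_iff.1 e)) h.z_ne
  · exact (centralizer_zpowers _).ge (mem_centralizer_singleton_iff.2 (mul_inv_eq_iff_eq_mul.1 e))

theorem card_Xs [Fintype P] : (Xs x).card + 2 = 2 ^ (k + 2) := by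
  classical
  have h1 : (Finset.univ.filter fun v : P => (v : G) ∈ zpowers (x : G)).card = 2 ^ (k + 2) := by
    rw [← h.mc.ordx, ← Nat.card_zpowers, ← Fintype.card_subtype, ← Nat.card_eq_fintype_card]
    exact Nat.card_congr (subgroupOfEquivOfLe h.mc.zpowers_le).toEquiv
  rw [← h1, ← Finset.card_filter_add_card_filter_not (s := Finset.univ.filter _)
    (fun v : P => (v : G) * v ≠ 1), Finset.filter_filter, Finset.filter_filter, Xs]
  congr 1
  rw [eq_comm, Finset.card_eq_two]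
  refine ⟨1, z, h.z_ne.symm, Finset.ext fun v => ?_⟩
  simp only [Finset.mem_filter, Finset.mem_univ, true_and, not_not, Finset.mem_insert,
    Finset.mem_singleton]
  exact ⟨fun e => h.eq_or e.1 e.2, by rintro (rfl | rfl); exacts [by simp, ⟨h.zX, h.zz⟩]⟩

variable [PM 2 M] {B : Set (IrrCharacter G)} (m : MP 2 M B P)

include m in
theorem defect : blockDefect 2 B = k + 3 :=
  Nat.pow_right_injective le_rfl ((IsDefectGroup.card m.blk m.dfc).symm.trans h.mc.card_eq)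

theorem fc_X (hv : (v : G) ∈ zpowers (x : G)) (hw : (w : G) ∈ zpowers (x : G)) :
    m.FC v w ↔ w = v ∨ w = g 0 * v * (g 0)⁻¹ := by
  refine ⟨fun e => ?_, fun e => e.elim (· ▸ .refl m _) fun e => m.fc_of_conj (g 0).2 (by simp [e])⟩
  obtain ⟨u, hu, h1⟩ := m.fc_conj e (H9.mem_zpowers_of_orderOf_dvd hw hv (by
    obtain ⟨a, -, e⟩ := e; rw [← e, orderOf_conj'])) fun a ha => H8.mem_nN_iff.2 (by
      have := H9.mem_zpowers_of_orderOf_dvd (h.mc.conj_mem ha hv) hv (orderOf_conj' _ _).dvd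
      rw [cj_zpowers]
      exact eq_of_le_of_card_ge (zpowers_le.2 this)
        (by rw [Nat.card_zpowers, Nat.card_zpowers, orderOf_conj']))
  by_cases h2 : u ∈ zpowers (x : G)
  · exact .inl (Subtype.ext (by rw [← h1, zp_comm h2 hv, mul_inv_cancel_right]))
  · exact .inr (Subtype.ext (h1.symm.trans (h.mc.conj_eq_conj hu (g 0).2 h2 (h.out 0) hv)))

theorem defect_X (hv : (v : G) ∈ zpowers (x : G)) (h2 : (v : G) * v ≠ 1) :
    blockDefect 2 (m.bu v) = k + 2 := by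
  refine Nat.pow_right_injective le_rfl ((m.defect_bu_of fun w e => ?_).symm.trans ?_)
  · by_cases hw : (w : G) ∈ zpowers (x : G)
    · rw [h.inf_X hv h2, h.inf_X hw (mt e.mul_self_iff.2 h2)]
    · rw [h.inf_X hv h2, h.card_out hw, Nat.card_zpowers, h.mc.ordx, pow_add]
      exact Nat.le_mul_of_pos_left _ (by positivity)
  · rw [h.inf_X hv h2, Nat.card_zpowers, h.mc.ordx]

theorem rank_X (hv : (v : G) ∈ zpowers (x : G)) (h2 : (v : G) * v ≠ 1) :
    blockRank 2 (m.bu v) = 1 :=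
  m.rank_bu_of (h.inf_X hv h2) (by rw [h.defect_X m hv h2, Nat.card_zpowers, h.mc.ordx])
    (fun _ ha _ hb => zp_comm ha hb) fun t _ ho hn _ ⟨i, hi⟩ =>
      hi ▸ (H9.commute_of_odd_of_conj_mem h.mc.x_pow (Nat.odd_iff.2 (Nat.two_dvd_ne_zero.1 ho))
        (hn _ (mem_zpowers _))).zpow_right i

variable {m}

theorem defect_U (hv : m.U x v) : blockDefect 2 (m.bu v) = 2 :=
  Nat.pow_right_injective le_rfl ((m.defect_bu_of fun w e => by
    rw [h.card_out (hv w e), h.card_out (hv v (.refl m v))]).symm.trans (h.card_out (hv v (.refl m v))))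

theorem rank_U (hv : m.U x v) : blockRank 2 (m.bu v) = 1 := by
  have h1 := hv v (.refl m v)
  have h2 : Commute (z : G) v := (h.zc v.2).symm
  refine m.rank_bu_of rfl (by rw [h.card_out h1, h.defect_U hv]; rfl) (fun a ha b hb => ?_)
    fun t ht ho hn a ha => ?_
  · have : Commute a z ∧ Commute a v := ⟨h.zc ha.1, mem_centralizer_singleton_iff.1 ha.2⟩
    rcases (h.mem_out h1).1 hb with rfl | rfl | rfl | rfl
    exacts [by simp, this.1, this.2, this.1.mul_right this.2]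
  · have h3 : Commute t v := mem_centralizer_singleton_iff.1 ht
    have h4 : Commute t z := by
      refine H9.commute_of_odd_of_stable (m.isPE v).isPGroup_zpowers
        (Nat.odd_iff.2 (Nat.two_dvd_ne_zero.1 ho)) (fun _ ⟨i, hi⟩ => hi ▸ h3.zpow_right i) ?_
      rcases (h.mem_out h1).1 (hn _ ((h.mem_out h1).2 (.inr (.inl rfl)))) with e | e | e | e
      · exact absurd (Subtype.ext (conj_eq_one_iff.1 e)) h.z_ne
      · rw [e, mul_inv_cancel]; exact one_mem _
      · rw [mul_inv_eq_iff_eq_mul, ← h3.eq, mul_right_inj] at e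
        exact absurd (e ▸ h.zX) h1
      · rw [e, h2.eq, mul_inv_cancel_right]; exact mem_zpowers _
    rcases (h.mem_out h1).1 ha with rfl | rfl | rfl | rfl
    exacts [Commute.one_right _, h4, h3, h4.mul_right h3]

theorem fc_U (hv : m.U x v) : m.FC v w ↔ (w : G) * (v : G)⁻¹ ∈ zpowers ((x : G) ^ 2) := by
  classical
  have key : ∀ {v w : P}, (v : G) ∉ zpowers (x : G) → (w : G) * (v : G)⁻¹ ∈ zpowers ((x : G) ^ 2) →
      m.FC v w := fun {v w} h1 h2 => by
    obtain ⟨a, ha, e⟩ := h.mc.exists_conj_of_mem_sq v.2 h1 h2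
    exact m.fc_of_conj (h.mc.zpowers_le ha) e
  have h1 := hv v (.refl m v)
  refine ⟨fun e => by_contra fun h2 => ?_, key h1⟩
  obtain ⟨χ, hχ⟩ := exists_height_zero (p := 2) (block_nonempty m.blk)
  obtain ⟨n, hn⟩ := m.exists_int (v := v) (c := 2) (by
    convert (isGen_one.natCast_smul 2).sub (isGen_ind' (fun _ hg _ ha => h.mc.conj_mem hg ha)
      h.mc.idx) using 1
    funext u
    by_cases h3 : (u : G) ∈ zpowers (x : G)
    · simp [MP.ind, h3, mt (hv u) (not_not.2 h3)]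
    · have : m.FC v u := by_contra fun h4 => h4 (e.trans (key (hv w e) (by
        simpa [mul_assoc] using H9.mul_inv_mem_of_relIndex_two h.mc.relIndex_sq
          (h.mc.mul_inv_mem u.2 v.2 h3 h1) (h.mc.mul_inv_mem w.2 v.2 (hv w e) h1)
          (mt (key h1) h4) h2)))
      simp [MP.ind, h3, this]) χ χ
  exact absurd ((m.odd_iff (n := 2 * n) (h.defect_U hv) (by
    push_cast; rw [← hn]; ring)).2 ⟨hχ, hχ⟩) (by simp)

omit [PM 2 M] in
open Classical in
theorem isGen_sq : IsGeneralizedCharacter P fun u =>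
    if (u : G) ∈ zpowers ((x : G) ^ 2) then ((4 : ℕ) : ℂ) else 0 :=
  isGen_ind' (fun a ha b hb => (Subgroup.mul_mem_cancel_right _ (inv_mem hb)).1
    (h.mc.conj_mul_inv_mem (h.mc.zpowers_le (h.mc.sq_le hb)) ha)) (by
      rw [← relIndex_mul_relIndex _ _ _ h.mc.sq_le h.mc.zpowers_le, h.mc.relIndex_sq, h.mc.idx])

theorem exists_pat (hv : m.U x v) {S : Finset (IrrCharacter G)} (hS : S.card = 4)
    (h0 : ∀ χ ∈ S, χ ∈ B ∧ blockHeight 2 B (χ : G → ℂ) = 0) :
    ∃ q, Pt S q ∧ m.Rp v 4 (fun _ : Unit => 1) fun _ => q := by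
  classical
  have h1 := hv v (.refl m v)
  have h2 := fun a (ha : a ∈ zpowers ((x : G) ^ 2)) => h.mc.inverts_sq v.2 h1 ha
  have h3 := h.mc.sq_mem_sq v.2
  let A : Subgroup G :=
    { carrier := {a | a ∈ zpowers ((x : G) ^ 2) ∨ a * (v : G)⁻¹ ∈ zpowers ((x : G) ^ 2)}
      one_mem' := .inl (one_mem _)
      mul_mem' := by
        rintro a b (ha | ha) (hb | hb)
        · exact .inl (mul_mem ha hb)
        · exact .inr (mul_assoc a b _ ▸ mul_mem ha hb)
        · exact .inr (by convert mul_mem ha (h2 b hb ▸ inv_mem hb) using 1; group)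
        · exact .inl (by convert mul_mem (mul_mem ha (h2 _ hb ▸ inv_mem hb)) h3 using 1; group)
      inv_mem' := by
        rintro a (ha | ha)
        · exact .inl (inv_mem ha)
        · refine .inr ?_
          convert inv_mem (mul_mem (h2 _ ha ▸ inv_mem ha) h3) using 1; group }
  have h4 : A ≤ P := by
    rintro a (ha | ha)
    · exact h.mc.zpowers_le (h.mc.sq_le ha)
    · exact (Subgroup.mul_mem_cancel_right _ (inv_mem v.2)).1 (h.mc.zpowers_le (h.mc.sq_le ha))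
  refine m.exists_pat hS h0 (h.defect_U hv) (h.rank_U hv) ?_
  convert ((isGen_ind' (A := A) (n := 2) (fun a ha b hb => (Subgroup.mul_mem_cancel_right _
    (inv_mem hb)).1 (.inl (h.mc.conj_mul_inv_mem (h4 hb) ha))) (H9.relIndex_eq_two_of x.2 (fun e =>
      e.elim h.mc.x_notMem_sq fun e => h1 (by
        simpa using mul_mem (inv_mem (h.mc.sq_le e)) (mem_zpowers _))) fun a ha => ?_)).natCast_smul
    2).sub h.isGen_sq using 1
  · funext u
    have h5 : (u : G) ∈ A ↔ (u : G) ∈ zpowers ((x : G) ^ 2) ∨ m.FC v u := by rw [h.fc_U hv]; rfl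
    by_cases h6 : m.FC v u
    · simp [MP.ind, h5, h6, mt (h.mc.sq_le ·) (hv u h6)]; norm_num
    · by_cases h7 : (u : G) ∈ zpowers ((x : G) ^ 2) <;> simp [MP.ind, h5, h6, h7]; norm_num
  · by_cases e : a ∈ zpowers (x : G)
    · exact (h.mc.mem_sq_or e).imp .inl .inl
    · have e1 : a * (x : G)⁻¹ ∉ zpowers (x : G) := fun e' =>
        e ((Subgroup.mul_mem_cancel_right _ (inv_mem (mem_zpowers _))).1 e')
      by_contra! e2
      refine h.mc.x_notMem_sq ?_
      have := H9.mul_inv_mem_of_relIndex_two h.mc.relIndex_sq (h.mc.mul_inv_mem ha v.2 e h1)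
        (h.mc.mul_inv_mem (mul_mem ha (inv_mem x.2)) v.2 e1 h1) (fun e => e2.1 (.inr e))
        fun e => e2.2 (.inr e)
      have h6 := h.mc.conj_mul_inv_mem x.2 ha
      exact (Subgroup.mul_mem_cancel_left _ h6).1 (by convert this using 1; group)

variable (m)

open Classical in
theorem sum_cls [Fintype P] {φ : P → ℂ} (hφ : m.Stb φ) : ∑ v, (m.cl v : ℂ)⁻¹ * φ v = φ 1 + φ z +
    2⁻¹ * ∑ v ∈ Xs x, φ v + ∑ i, if m.U x (g i) then φ (g i) else 0 := by
  rw [m.sum_weight (ρ := fun w => (if w = 1 then 1 else 0) + (if w = z then 1 else 0) +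
    (if (w : G) ∈ zpowers (x : G) ∧ (w : G) * w ≠ 1 then 2⁻¹ else 0) +
    ∑ i, if w = g i then (if m.U x (g i) then 1 else 0) else 0) (fun v => ?_) hφ]
  · simp only [add_mul, Finset.sum_add_distrib, Finset.sum_mul, ite_mul, one_mul, zero_mul,
      Finset.sum_ite_eq', Finset.mem_univ, if_true, Xs, Finset.sum_filter, Finset.mul_sum, mul_ite,
      mul_zero]
    rw [Finset.sum_comm]; simp
  · have e : ∀ (a b : ℂ) (q : Prop), (if q then a + b else 0) = (if q then a else 0) +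
      if q then b else 0 := fun a b q => by split_ifs <;> simp
    have e' : ∀ (f : Fin 2 → ℂ) (q : Prop), (if q then ∑ i, f i else 0) =
      ∑ i, if q then f i else 0 := fun f q => by split_ifs <;> simp
    simp only [e, e', Finset.sum_add_distrib, ← ite_and]
    rw [Finset.sum_comm]
    simp only [and_comm (a := m.FC v _), and_assoc, ite_and (_ = _), Finset.sum_ite_eq',
      Finset.mem_univ, if_true, ← Finset.sum_filter, Finset.sum_const, nsmul_eq_mul]
    by_cases hv : m.U x v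
    · obtain ⟨i, h1, h2⟩ := h.uniq v (hv v (.refl m v))
      have h3 := (h.fc_U hv).2 h1
      rw [if_neg fun e => hv _ e (one_mem _), if_neg fun e => hv _ e h.zX,
        Finset.filter_false_of_mem fun w _ e => hv w e.2.2 e.1,
        Finset.eq_singleton_iff_unique_mem.2 ⟨Finset.mem_filter.2 ⟨Finset.mem_univ i,
          fun w e => hv w (h3.trans e), h3⟩,
          fun j e => h2 j ((h.fc_U hv).1 (Finset.mem_filter.1 e).2.2)⟩]
      simp
    · simp only [MP.U, not_forall, not_not] at hv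
      obtain ⟨u, h1, h2⟩ := hv
      rw [Finset.filter_false_of_mem (s := Finset.univ) (p := fun i => m.U x (g i) ∧ _)
        fun i _ e => e.1 u (e.2.symm.trans h1) h2]
      simp only [fun w => (⟨h1.symm.trans, h1.trans⟩ : m.FC v w ↔ m.FC u w)]
      by_cases h3 : (u : G) * u = 1
      · rw [Finset.filter_false_of_mem fun w _ e => e.2.1 (e.2.2.mul_self_iff.1 h3)]
        rcases h.eq_or h2 h3 with rfl | rfl
        · simp [m.fc_one_iff, h.z_ne]
        · simp [MP.FC.refl, show ¬ m.FC u 1 from fun e => h.z_ne (m.fc_one_iff.1 e.symm)]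
      · have h4 : u ≠ g 0 * u * (g 0)⁻¹ := fun e => h.out 0 (h.mc.mem_zpowers_of_commute (g 0).2 h2 h3
          (mul_inv_eq_iff_eq_mul.1 (congrArg Subtype.val e).symm))
        rw [if_neg fun e => h3 (e.mul_self_iff.2 (by simp)), if_neg fun e => h3
          (e.mul_self_iff.2 h.zz), show Finset.filter _ _ = {u, g 0 * u * (g 0)⁻¹} from
            Finset.ext fun w => ?_, Finset.card_pair h4]
        · simp
        · simp only [Finset.mem_filter, Finset.mem_univ, true_and, Finset.mem_insert,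
            Finset.mem_singleton]
          refine ⟨fun e => (h.fc_X m h2 e.1).1 e.2.2, fun e => ?_⟩
          have h5 : (w : G) ∈ zpowers (x : G) := by
            rcases e with rfl | rfl
            exacts [h2, h.mc.conj_mem (g 0).2 h2]
          have h6 := (h.fc_X m h2 h5).2 e
          exact ⟨h5, mt h6.mul_self_iff.2 h3, h6⟩

end Tm

end H7
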