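import Cfsg.Agent.H7.TameX
import Cfsg.Agent.H9.IsoP

/-! Brauer's and Olsson's theorems on 2-blocks with dihedral, semidihedral and generalized
quaternion defect groups: `exists_ts` (characters, heights and ranks, structure `TS`). -/

open H5 Cfsg MonoidAlgebra Subgroup
open H8 (cC nN c1 cA mp io St Le Sp BP cw)
open H7.Had
open scoped ComplexConjugate Classical

namespace H7

variable {M : Ideal AlgInt} {G K L : Type*} [Group G] [Finite G] [Group K] [Finite K] [Group L]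
  [Finite L] [PM 2 M] {B : Set (IrrCharacter G)} {P : Subgroup G}

theorem MP.height_of (m : MP 2 M B P) {v : P} (hv : (v : G) ∈ cC P) {χ ψ : IrrCharacter G}
    (hχ : χ ∈ B) (hψ : ψ ∈ B) (h0 : blockHeight 2 B (ψ : G → ℂ) = 0) {d j : ℕ} {N : ℤ}
    (hd : blockDefect 2 B = d) (h : (2 ^ d : ℕ) * m.ct v (χ : G → ℂ) ψ = N)
    (hN : N ^ 2 = (2 ^ j) ^ 2) : blockHeight 2 B (χ : G → ℂ) = j := by
  obtain ⟨y, -, h1, h2⟩ := m.exists_ct_major hv hχ hψ h0
  rw [hd, ← Nat.cast_pow, h, ← Nat.cast_pow] at h2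
  rw [eq_div_of_mul_eq (Nat.cast_ne_zero.2 (pow_ne_zero _ two_ne_zero))
    ((mul_comm _ _).trans h2.symm),
    red_intCast_div_ne_zero_iff (p := 2) (by positivity), padicValInt,
    Nat.prime_two.factorization_pow, Finsupp.single_eq_same] at h1
  rw [← h1.2, show N.natAbs = 2 ^ j by
    rcases sq_eq_sq_iff_eq_or_eq_neg.1 hN with rfl | rfl <;> simp, padicValNat.prime_pow]

/-- The characters of a tame block and their heights. -/
structure TS (m : MP 2 M B P) (k : ℕ) (x z : P) (g : Fin 2 → P) (n : ℕ)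
    (S E : Finset (IrrCharacter G)) (ξ : Fin n → IrrCharacter G) : Prop where
  cS : S.card = 4
  cE : E.card + 1 = 2 ^ (k + 1)
  inj : Function.Injective ξ
  num : Nat.card B = 4 + E.card + n
  mem : ∀ χ, χ ∈ B ↔ χ ∈ S ∨ χ ∈ E ∨ ∃ a, χ = ξ a
  hS : ∀ χ ∈ S, blockHeight 2 B (χ : G → ℂ) = 0
  hE : ∀ χ ∈ E, blockHeight 2 B (χ : G → ℂ) = 1
  hξ : ∀ a, blockHeight 2 B (ξ a : G → ℂ) = k + 1
  rank : blockRank 2 B + (Finset.univ.filter fun i => m.U x (g i)).card = 3
  cnt : n + (Finset.univ.filter fun i => (g i : G) * g i = 1 ∨ m.U x (g i)).card = 2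
  ev : Even (2 ^ k * n)

theorem Tm.fc_z {k : ℕ} {x z v : P} {g : Fin 2 → P} (h : Tm P k x z g) (m : MP 2 M B P)
    (hv : ¬ m.U x v) (h1 : v ≠ 1) (h2 : (v : G) * v = 1) : m.FC v z := by
  simp only [MP.U, not_forall, not_not] at hv
  obtain ⟨w, e, hw⟩ := hv
  rcases h.eq_or hw (e.mul_self_iff.1 h2) with rfl | rfl
  exacts [absurd (m.fc_one_iff.1 e.symm) h1, e]

theorem Tm.exists_fc {k : ℕ} {x z v : P} {g : Fin 2 → P} (h : Tm P k x z g) (m : MP 2 M B P)
    (hv : (v : G) ∉ zpowers (x : G)) : ∃ i, m.FC v (g i) := by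
  obtain ⟨i, hi, -⟩ := h.uniq v hv
  obtain ⟨a, ha, e⟩ := h.mc.exists_conj_of_mem_sq v.2 hv hi
  exact ⟨i, m.fc_of_conj (h.mc.zpowers_le ha) e⟩

theorem Tm.exists_pats {k : ℕ} {x z : P} {g : Fin 2 → P} (h : Tm P k x z g) (m : MP 2 M B P)
    {S : Finset (IrrCharacter G)} (hS : S.card = 4)
    (h0 : ∀ χ ∈ S, χ ∈ B ∧ blockHeight 2 B (χ : G → ℂ) = 0) :
    ∃ p : {i // m.U x (g i)} → IrrCharacter G → ℤ, (∀ i, Pt S (p i)) ∧
      (∀ i, m.Rp (g i.1) 4 (fun _ : Unit => 1) fun _ => p i) ∧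
      Pairwise fun i j => ip (p i) (p j) = 0 := by
  choose p p1 p2 using fun i : {i // m.U x (g i)} => h.exists_pat i.2 hS h0
  exact ⟨p, p1, p2, fun i j e => (p2 j).ip_eq ((p2 i).kl_of_not (fun e' => e (Subtype.ext
    ((h.uniq _ (h.out i)).unique (by simp) ((h.fc_U i.2).1 e')))) ()) ()⟩

section level

variable {m : MP 2 M B P} {φ : K →* G} {b : Set (IrrCharacter K)} {P' : Subgroup K}
  {m' : MP 2 M b P'} {k : ℕ} {x z : P'} {g : Fin 2 → P'} {Q : Subgroup G}

theorem MP.Lv.mem_zp (l : m.Lv Q φ m') {u v : K} : φ v ∈ zpowers (φ u) ↔ v ∈ zpowers u := by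
  rw [← MonoidHom.map_zpowers, mem_map_iff_mem l.inj]

theorem MP.Lv.tm_iff (l : m.Lv Q φ m') :
    Tm P k (l.im x) (l.im z) (fun i => l.im (g i)) ↔ Tm P' k x z g := by
  have e : ∀ (v : P') i, (l.im (g i) : G) * (l.im v : G)⁻¹ ∈ zpowers ((l.im x : G) ^ 2) ↔
      (g i : K) * (v : K)⁻¹ ∈ zpowers ((x : K) ^ 2) := fun v i => by
    rw [← l.mem_zp]; simp
  refine ⟨fun h => ⟨.of_map l.inj (l.map ▸ h.mc), l.inj (by simpa using h.hz),
    fun i => mt l.mem_zp.2 (h.out i), fun v hv => ?_⟩, fun h => ⟨l.map ▸ h.mc.map φ l.inj,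
      by simp [h.hz], fun i => mt l.mem_zp.1 (h.out i), fun v hv => ?_⟩⟩
  · simpa only [e] using h.uniq (l.im v) (mt l.mem_zp.1 hv)
  · obtain ⟨v, rfl⟩ := l.im_surj v
    simpa only [e] using h.uniq v (mt l.mem_zp.2 hv)

variable (l : m.Lv (zpowers (φ z)) φ m') (h : Tm P' k x z g)
include l

theorem MP.Lv.central (a : K) : a * z = z * a := l.inj (by
  simpa using (l.rng.le ⟨a, rfl⟩ _ (mem_zpowers _)).symm)

include h

theorem MP.Lv.U_iff {v : P'} (hv : (v : K) ∉ zpowers (x : K)) :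
    m'.U x v ↔ (l.im v : G) * l.im v = 1 ∨ m.U (l.im x) (l.im v) := by
  have e : (l.im v : G) * l.im v = 1 ↔ (v : K) * v = 1 := by
    rw [MP.Lv.coe_im, ← map_mul, map_eq_one_iff φ l.inj]
  by_cases h2 : (v : K) * v = 1
  · exact iff_of_true (h.U_of_sq m' l.central hv h2) (.inl (e.2 h2))
  have h3 : ∀ {w : P'}, (w : K) * w ≠ 1 → zpowers (φ z) ≤ zpowers (φ w) := fun hw =>
    zpowers_le.2 (l.mem_zp.2 (h.z_mem_iff.2 (by rintro (rfl | e); exacts [hw (by simp), hw e.2])))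
  rw [e, or_iff_right h2]
  refine ⟨fun u w e' hw => ?_, fun u w e' hw => u _ (l.fc_im (h3 h2) e') (l.mem_zp.2 hw)⟩
  obtain ⟨w, rfl⟩ := l.im_surj w
  refine u w ((l.fc_im_iff (l.tm_iff.2 h).wc (h3 h2) (h3 fun e2 => h2 (e.1
    (e'.mul_self_iff.2 ?_)))).1 e') (l.mem_zp.1 hw)
  rw [MP.Lv.coe_im, ← map_mul, e2, map_one]

theorem MP.Lv.sup_cf [Fintype K] {c : IrrCharacter K → ℤ} (h0 : ∀ ξ ∉ b, c ξ = 0) (h1 : m'.Kl 1 c)
    (h2 : ∀ i, m'.U x (g i) → m'.Kl (g i) c) : l.Sup (cf c) := by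
  refine ⟨cls_cf c, fun ξ e => by simp [inner_cf, h0 ξ e], fun v hv ξ => ?_⟩
  rw [zpowers_le, l.mem_zp, h.z_mem_iff, not_not] at hv
  rw [cf, MP.ct_sum_left]
  rcases hv with rfl | hv
  · exact h1 ξ
  · obtain ⟨i, e⟩ := h.exists_fc m' hv.1
    simp only [fun χ : IrrCharacter K => e.ct_eq χ.2.isClassFunction ξ.2.isClassFunction]
    exact h2 i (fun w e' => h.U_of_sq m' l.central hv.1 hv.2 w (e.trans e')) ξ

theorem MP.Lv.exists_ts {n : ℕ} {S' E' : Finset (IrrCharacter K)} {ξ' : Fin n → IrrCharacter K}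
    {τ : Option (Fin n) → IrrCharacter K → ℤ} (s : HS m' k x z g n S' E' ξ' τ) :
    ∃ S E ξ, TS m k (l.im x) (l.im z) (fun i => l.im (g i)) n S E ξ ∧
      ((∀ v : P, (v : G) ∉ zpowers (φ x) → (v : G) * v = 1) → ∃ n τ, DH m (k + 1) n S τ) := by
  have := Fintype.ofFinite G
  have := Fintype.ofFinite K
  have hG := l.tm_iff.2 h
  have hz := l.central
  choose R R1 R2 using fun χ : IrrCharacter G => (χ.2.isGen.comp φ).exists_int
  set Φ : (IrrCharacter K → ℤ) → IrrCharacter G → ℤ := fun c χ => ip c (R χ) with hΦ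
  have f1 : ∀ c (χ : IrrCharacter G), classInner (cf c) (fun y => (χ : G → ℂ) (φ y)) = Φ c χ :=
    fun c χ => by rw [R2]; exact inner_cf_cf _ _
  have iso : ∀ {c c'}, l.Sup (cf c) → l.Sup (cf c') → ip (Φ c) (Φ c') = ip c c' :=
    fun h1 h2 => Int.cast_injective (α := ℂ) (by
      rw [← inner_cf_cf _ _ (G := K), ← h1.inner h2 hG.wc]; simp [f1, ip])
  have kl : ∀ {c u}, l.Sup (cf c) → (∀ v : P', (z : K) ∈ zpowers (v : K) → ¬ m.FC (l.im v) u) →
      m.Kl u (Φ c) := fun h1 h2 ψ => by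
    simpa only [f1] using h1.orth (fun v e => h2 v (l.mem_zp.1 (zpowers_le.1 e))) ψ
  have k1 : ∀ {c}, l.Sup (cf c) → m.Kl 1 (Φ c) := fun h1 => kl h1 fun v e e' => h.z_mem_iff.1 e
    (.inl (Subtype.ext (l.inj (by simpa using congrArg Subtype.val (m.fc_one_iff.1 e'.symm)))))
  have dg : ∀ {c}, l.Sup (cf c) → ip (Φ c) (fun χ => charDegree (χ : G → ℂ)) = 0 :=
    fun h1 => Int.cast_injective (α := ℂ) (by
      simp only [ip, Int.cast_sum, Int.cast_mul, Int.cast_natCast,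
        fun χ : IrrCharacter G => χ.2.coe_charDegree, Int.cast_zero]
      exact m.sum_mul_one_eq_zero (fun χ e => by rw [← f1, h1.of_notMem e]) (k1 h1))
  obtain ⟨p, p1, p2, p3⟩ := h.exists_pats m' s.shp.card fun χ e => ⟨(s.mem χ).2 (.inl e), s.ht χ e⟩
  have pt : ∀ i j, ip (p i) (τ j) = 0 := fun i => s.rp.ip_eq ((p2 i).kl_of_not
    (fun e => i.2 1 e (one_mem _)) ())
  obtain ⟨w, u, v, a1, a2, a3, a4, a5, a6, a7, a8, gw, gu, gv, b1, b2⟩ := s.shp.vec
    (fun a => s.rp.orth (by simp)) (fun a b e => s.rp.orth (by simpa)) p1 (fun i => pt i _)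
    (fun i a => pt i _) p3 (by rw [Fintype.card_fin, Fintype.card_subtype, s.cnt]) s.w1 s.w2 s.w3
    (Gd := fun c => l.Sup (cf c)) fun c c0 c1 c2 c3 => l.sup_cf h (fun χ e => by
      rw [s.mem, not_or, not_or, not_exists] at e; exact c0 χ e.1 e.2.1 e.2.2)
      (s.rp.kl (by rintro (_ | a); exacts [c1, c2 a])) fun i e => (p2 ⟨i, e⟩).kl fun _ => c3 _
  have sq1 : ∀ χ, sg (z : K) χ * sg (z : K) χ = 1 := fun χ => by
    rcases sg_cases (z : K) χ with e | e <;> simp [e]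
  have i1 : ∀ i j, ip (sg (z : K) * τ i) (sg (z : K) * τ j) = ip (τ i) (τ j) := fun i j =>
    Finset.sum_congr rfl fun χ _ => by
      rw [Pi.mul_apply, Pi.mul_apply, mul_mul_mul_comm, sq1, one_mul]
  have rz' : m'.Rp z (2 ^ (k + 3)) (wt k) fun i => sg (z : K) * τ i := ⟨fun χ ψ => by
    rw [← mul_one z, h.ct_mul m' hz, mul_left_comm, s.rp.eq, Finset.mul_sum]
    exact Finset.sum_congr rfl fun _ _ => by simp only [mul_one, Pi.mul_apply]; push_cast; ring,
    s.rp.ne, fun i => by rw [i1, s.rp.nrm], fun i j e => (i1 i j).trans (s.rp.orth e)⟩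
  have gz : ∀ i, l.Sup (cf (sg (z : K) * τ i)) := fun i => l.sup_cf h (fun χ => rz'.of_notMem i)
    (rz'.kl_of_not (fun e => h.z_ne (m'.fc_one_iff.1 e.symm)) i)
    fun j e => rz'.kl_of_not (fun e' => e _ e'.symm h.zX) i
  have rz : m.Rp (l.im z) (2 ^ (k + 3)) (wt k) fun i => Φ (sg (z : K) * τ i) := ⟨fun χ ψ => by
    rw [l.ct_im le_rfl, R2, R2]
    simpa only [hΦ, ip_comm (R _), cf] using rz'.cf (R χ) (R ψ), s.rp.ne,
    fun i => by rw [iso (gz i) (gz i), rz'.nrm], fun i j e => (iso (gz i) (gz j)).trans (rz'.orth e)⟩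
  have hT : Φ (sg (z : K) * τ none) = -Φ w - (2 : ℤ) • ∑ j ∈ E', sg (z : K) j • Φ (u j) :=
    funext fun χ => by simp [hΦ, b1, ip_sub, ip_neg, ip_smul, ip_sum, -zsmul_eq_mul]
  have hY : ∀ a, Φ (sg (z : K) * τ (some a)) = (2 : ℤ) • Φ (v a) - Φ w :=
    fun a => funext fun χ => by simp [hΦ, b2, ip_sub, ip_smul, -zsmul_eq_mul]
  have zc : (l.im z : G) ∈ cC P := fun a => hG.zc
  have od : ∀ χ, Odd (Φ w χ) ↔ χ ∈ B ∧ blockHeight 2 B (χ : G → ℂ) = 0 := fun χ => by
    rw [← and_self_iff (a := _ ∧ _), ← m.odd_iff (χ := χ) (ψ := χ) ((m.defect_bu zc).trans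
      (hG.defect m)) (n := ∑ i, wt k i * Φ (sg (z : K) * τ i) χ * Φ (sg (z : K) * τ i) χ)
      (by rw [rz.eq]; push_cast; rfl), odd_wt (τ := fun i => Φ (sg (z : K) * τ i) χ) s.ev fun a => by
        simp only [hT, hY, Pi.sub_apply, Pi.neg_apply, Pi.smul_apply, smul_eq_mul]; grind]
    simp only [hT, Pi.sub_apply, Pi.neg_apply, Pi.smul_apply, smul_eq_mul]; grind
  have cE := s.card
  have rk : blockRank 2 (m.bu (l.im z)) = n + 1 := (l.rank_im le_rfl).trans s.rank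
  have cnt : n + (Finset.univ.filter fun i => (l.im (g i) : G) * l.im (g i) = 1 ∨
      m.U (l.im x) (l.im (g i))).card = 2 := by
    simpa only [fun i => l.U_iff h (h.out i)] using s.cnt
  have c4 := hG.card_eq m
  obtain ⟨χ₀, h₀⟩ := exists_height_zero (p := 2) (block_nonempty m.blk)
  obtain ⟨S, cS, pW, ⟨E, ξ, sh, cE', q, t, q1, q2, q3, q4, q5, q6⟩ | ⟨e3, e0, ex⟩⟩ := exists_shp
    (U := fun j => Φ (u j)) (V := fun a => Φ (v a)) ((iso gw gw).trans a1) ⟨χ₀, (od χ₀).2 h₀⟩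
    (fun j e => (iso (gu j e) (gu j e)).trans (a2 j e)) (fun j e => (iso (gu j e) gw).trans (a3 j e))
    (fun i e j e' hh => (iso (gu i e) (gu j e')).trans (a4 i e j e' hh))
    (fun a => (iso (gv a) (gv a)).trans (a5 a)) (fun a => (iso (gv a) gw).trans (a6 a))
    (fun a b e => (iso (gv a) (gv b)).trans (a7 e))
    (fun a j e => (iso (gv a) (gu j e)).trans (a8 a j e))
    (fun χ => Int.natCast_pos.2 χ.2.charDegree_pos) (dg gw) (fun j e => dg (gu j e))
    (fun a => dg (gv a)) (fun j _ => by rw [sq, sq1]) s.w3 (by rw [pow_succ] at cE; omega) hT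
  all_goals have hS := fun χ e => (od χ).1 (odd_of_sq (pW.sq (i := χ) e))
  · simp only [← hY] at sh
    have mem : ∀ χ, χ ∈ B ↔ χ ∈ S ∨ χ ∈ E ∨ ∃ a, χ = ξ a := fun χ => ⟨fun e => by
      by_contra! e'
      obtain ⟨_ | a, e⟩ := rz.exists_ne zc e
      exacts [e (sh.t0 χ e'.1 e'.2.1), e (sh.y0 a χ e'.1 (e'.2.2 a))], by
      rintro (e | e | ⟨a, rfl⟩) <;> by_contra e'
      · exact e' (hS χ e).1
      · simpa [rz.of_notMem none e'] using sh.tE χ e
      · simpa [rz.of_notMem (some a) e'] using sh.yξ a⟩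
    have num : Nat.card B = 4 + E.card + n := by
      have := sh.sum (F := Finset.univ.filter (· ∈ B)) (fun χ => by
        rw [Finset.mem_filter, mem, and_iff_right (Finset.mem_univ _)]) fun _ => (1 : ℕ)
      simp only [Finset.sum_const, smul_eq_mul, mul_one, Finset.card_univ, Fintype.card_fin] at this
      rw [card_eq_fl, this, cS]
    obtain ⟨ψ, hψ⟩ : S.Nonempty := Finset.card_pos.1 (by omega)
    have ht := fun χ e j => m.height_of (χ := χ) zc e (hS ψ hψ).1 (hS ψ hψ).2 (hG.defect m) (j := j)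
      (N := ∑ i, wt k i * Φ (sg (z : K) * τ i) χ * Φ (sg (z : K) * τ i) ψ)
      (by rw [rz.eq]; push_cast; rfl)
    refine ⟨S, E, ξ, ⟨cS, by omega, sh.inj, num, mem, fun χ e => (hS χ e).2,
      fun χ e => ht χ ((mem χ).2 (.inr (.inl e))) 1 ?_,
      fun a => ht _ ((mem _).2 (.inr (.inr ⟨a, rfl⟩))) _ ?_, by omega, cnt, s.ev⟩, fun hd => ?_⟩
    · simp [wt, fun a => sh.y0 a χ (sh.disj χ e) fun e' => sh.nE a (e' ▸ e), mul_pow, sh.tE χ e,
        sh.tS ψ hψ]
    · rw [Fintype.sum_option, sh.t0 _ (sh.nS a) (sh.nE a), Finset.sum_eq_single a (fun b _ e => by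
        rw [sh.y0 b _ (sh.nS a) (sh.inj.ne e.symm)]; simp) (by simp)]
      simp [wt, mul_pow, sh.yξ a, sh.yS a ψ hψ]; ring
    · obtain rfl : n = 0 := by
        rw [Finset.filter_true_of_mem fun i _ => .inl (hd _ (hG.out i))] at cnt; simpa using cnt
      obtain ⟨p, p1, p2, p3⟩ := hG.exists_pats m cS hS
      have pk : ∀ {c} i, l.Sup (cf c) → ip (p i) (Φ c) = 0 := fun i hc => (ip_comm _ _).trans
        ((p2 i).ip_eq (kl hc fun v e e' => i.2 _ e'.symm (by_contra fun e2 => hG.z_mem_iff.1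
          (l.mem_zp.2 e) (.inr ⟨e2, hd _ e2⟩))) ())
      obtain ⟨n, rn⟩ : ∃ n, blockRank 2 B = n + 1 :=
        Nat.exists_eq_add_one.2 (blockRank_pos (isSat_of_isPBlock m.blk) (block_nonempty m.blk))
      obtain ⟨y, y1, y2, y3, y4, y5⟩ := dh_vec (n := n) cS pW q1 q2 q3 q4 q5 sh.disj
        (Finset.card_pos.1 (by have := Nat.one_lt_two_pow k.succ_ne_zero; omega)) q6 p1
        (fun i => pk i gw) (fun i j e => pk i (gu j e)) p3 (by rw [Fintype.card_subtype]; omega)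
      have c5 : (E.card + 1 : ℤ) = 2 ^ (k + 1) := by exact_mod_cast cE' ▸ cE
      have nr : ∀ i : Option (Fin n), wt (k + 1) i * ip (i.elim t y) (i.elim t y) =
          (2 ^ (k + 1 + 2) : ℕ) := by
        rintro (_ | a) <;> simp [wt, y4, c5, (y1 _).ip_self, cS] <;> ring
      refine ⟨n, fun i => i.elim t y, ⟨fix_of_trace (A := fun χ ψ : IrrCharacter G =>
        m.ct 1 (χ : G → ℂ) ψ) (fun _ _ => m.ct_conj _ _ _) (fun _ _ => m.sum_ct_mul' _ _ _)
        (by rintro (_ | _) <;> simp [wt]) nr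
        (by rw [m.sum_ct_self', m.rank_bu_one, rn]; simp) fun χ ψ => ?_, by simp, nr, ?_⟩, cS,
        fun χ e => (congrArg (· ^ 2) (q3 χ e)).trans (q1.sq e),
        fun χ e e' => q4 χ (by simpa [e'] using (mem χ).1 e), y1, by omega, rn,
        by simp [pow_succ, mul_assoc]⟩
      · by_cases e : χ ∈ B
        · have := y5 ⟨⟨fun c => ∑ ξ, c ξ * m.ct 1 (ξ : G → ℂ) ψ, by simp⟩, fun _ _ => by
            simp [add_mul, Finset.sum_add_distrib]⟩ (k1 gw ψ) (fun j e => k1 (gu j e) ψ)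
            (fun i => (p2 i).kl_of_not (fun e => i.2 1 e (one_mem _)) () ψ) χ
            (by simpa using (mem χ).1 e)
          have c6 : (E.card + 1 : ℂ) = 2 ^ (k + 1) := by exact_mod_cast c5
          simp only [AddMonoidHom.coe_mk, ZeroHom.coe_mk, Pi.single_apply, Int.cast_ite, ite_mul,
            Int.cast_one, Int.cast_zero, one_mul, zero_mul, Finset.sum_ite_eq', Finset.mem_univ,
            if_true, c6] at this
          simp only [Fintype.sum_option, wt, Option.elim, mul_assoc, ← Finset.mul_sum _ _ (_ : ℂ)]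
          push_cast
          rw [one_mul, ← this]; ring
        · have e' := mt (mem χ).2 e
          simp only [not_or] at e'
          simp [m.ct_of_notMem e, q5 χ e'.1 e'.2.1, (y1 _).zero e'.1]
      · rintro (_ | a) (_ | a') e
        exacts [absurd rfl e, y3 a', (ip_comm _ _).trans (y3 a), y2 (by simpa using e)]
  · exfalso
    obtain rfl : k = 1 := by
      have := Nat.pow_right_injective le_rfl (show 2 ^ (k + 1) = 2 ^ 2 by omega); omega
    obtain rfl : n = 0 := (Fintype.card_fin n).symm.trans (Fintype.card_eq_zero_iff.2 e0)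
    have t0 : ∀ χ ∈ B, Φ (sg (z : K) * τ none) χ ≠ 0 := fun χ e => by
      obtain ⟨_ | a, e⟩ := rz.exists_ne zc e
      exacts [e, a.elim0]
    have c5 : Nat.card B ≤ 5 := by
      obtain ⟨e, e1, -⟩ := ex
      rw [card_eq_fl]
      refine (Finset.card_le_card (t := insert e S) fun χ hχ => by_contra fun e' => ?_).trans
        ((Finset.card_insert_le _ _).trans (by omega))
      rw [Finset.mem_insert, not_or] at e'
      exact t0 χ (Finset.mem_filter.1 hχ).2 (e1 χ e'.2 e'.1)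
    have c6 := blockRank_pos (isSat_of_isPBlock m.blk) (block_nonempty m.blk)
    have nU : ∀ i, ¬ m.U (l.im x) (l.im (g i)) := fun i e => by
      have := (Finset.card_pos (s := Finset.univ.filter fun i => m.U (l.im x) (l.im (g i)))).2
        ⟨i, by simpa using e⟩
      omega
    have hg : ∀ i, (l.im (g i) : G) * l.im (g i) = 1 := fun i => by
      have := (Finset.card_eq_iff_eq_univ _).1 (((zero_add _).symm.trans cnt).trans
        (Fintype.card_fin 2).symm)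
      exact (Finset.mem_filter.1 (this.ge (Finset.mem_univ i))).2.resolve_right (nU i)
    set β := (∑ ψ : IrrCharacter K, τ none ψ * (ψ : K → ℂ) 1) / 16
    have d1 : ∀ ξ ∈ b, ((ξ : IrrCharacter K) : K → ℂ) 1 = τ none ξ * β := fun ξ e => by
      rw [← m'.sum_ct_one_mul e, ← mul_div_assoc, Finset.mul_sum, Finset.sum_div]
      refine Finset.sum_congr rfl fun ψ _ => ?_
      have := s.rp.eq ξ ψ
      simp only [Fintype.sum_option, wt, Option.elim, Finset.univ_eq_empty, Finset.sum_empty] at this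
      push_cast at this
      linear_combination (ψ : K → ℂ) 1 / 16 * this
    obtain ⟨ψ, hψ⟩ : S'.Nonempty := Finset.card_pos.1 (by have := s.shp.card; omega)
    have hψ' := (s.mem ψ).2 (.inl hψ)
    refine hG.not_exo m hg cS hS t0 ex (β := β) (fun χ e => ?_) ψ.2.charDegree_pos.ne' (by
      rw [ψ.2.coe_charDegree, d1 ψ hψ', mul_pow, ← Int.cast_pow, s.shp.tS ψ hψ]; simp) ?_
    · obtain ⟨π, e1, e2⟩ := l.exists_eqv (v := z) le_rfl
      rw [m.apply_eq_bu (fun w e' => ?_) e, e2, show selfC (l.im z : G) = π (selfC (z : K)) from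
        Subtype.ext (e1 (selfC (z : K))).symm, ← blockPart_equiv]
      · simp only [e1, congrFun (R2 χ), Finset.sum_apply, Pi.smul_apply, smul_eq_mul,
          blockPart_sum_mul, hΦ, ip, Int.cast_sum, Finset.mul_sum]
        refine Finset.sum_congr rfl fun ξ _ => ?_
        by_cases e : ξ ∈ b
        · rw [← m'.apply_eq_bu (fun w e' => by
            obtain ⟨a, e'⟩ := isConj_iff.1 e'
            rw [hz, mul_inv_cancel_right] at e'
            exact Subtype.ext e' ▸ .refl m' z) e, ← mul_one (z : K), irr_mul_cw ξ hz, d1 ξ e, mul_one,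
            ← coe_sg hz h.zz, Pi.mul_apply]
          push_cast; ring
        · rw [blockPart_res_of_notMem (m'.indB_bu z) e (pp_of_isPE (m'.isPE z)), rz'.of_notMem _ e]
          simp
      · have e2 := mul_self_of_isConj hG.zz e'
        have e3 : w ≠ 1 := fun e => hG.z_ne (Subtype.ext (by simpa [e] using e'))
        refine (hG.fc_z m (fun u => ?_) e3 e2).symm
        obtain ⟨i, e4⟩ := hG.exists_fc m (u w (.refl m w))
        exact nU i fun w' e5 => u w' (e4.trans e5)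
    · have := factorization_add_defect (M := M) (p := 2) hψ'
      rw [h.defect m', s.ht ψ hψ] at this
      rw [this, ← top_inf_cC_zpowers, top_inf_eq, MP.Lv.coe_im, ← l.rng,
        ← Nat.card_congr (MonoidHom.ofInjective l.inj).toEquiv, add_zero]

end level

theorem mc_map_dih {k : ℕ} {x : G} (h : H9.MC P k x) (f : G →* K)
    (hf : f.ker = zpowers (x ^ 2 ^ (k + 1))) : Nonempty (P.map f ≃* DihedralGroup (2 ^ (k + 1))) := by
  obtain ⟨g, hg, hg'⟩ := h.exists_out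
  have hu : f (x ^ 2 ^ (k + 1)) = 1 := hf.ge (mem_zpowers _)
  rw [← h.closure_eq hg hg', MonoidHom.map_closure, Set.image_pair]
  refine H9.nonempty_closure_equiv_dihedral (by positivity) (orderOf_eq_prime_pow (fun e => ?_)
    (by rw [← map_pow, hu])) ?_ ?_ fun e => ?_
  · have := orderOf_dvd_of_mem_zpowers (hf.le ((map_pow f x _).trans e))
    rw [h.orderOf_u, orderOf_dvd_iff_pow_eq_one, ← pow_mul, ← pow_succ] at this
    exact h.u_ne_one this
  · rw [← map_mul]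
    rcases h.sq_cases hg hg' with e | e <;> simp [e, ← map_pow, hu]
  · rw [← map_inv, ← map_mul, ← map_mul]
    rcases h.act g hg hg' with e | e
    · rw [e, map_inv]
    · rw [e.2, map_mul, hu, mul_one, map_inv]
  · obtain ⟨j, hj⟩ := mem_zpowers_iff.1 e
    have := hf.le (show (x ^ j)⁻¹ * g ∈ f.ker by simp [hj])
    exact hg' (by simpa using mul_mem (zpow_mem_zpowers x j) (zpowers_le.2 h.u_mem_x this))

universe u

/-- The structure `DH` exists for all blocks with dihedral defect groups of order `2^(j+2)`. -/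
def DHA (M : Ideal AlgInt) [PM 2 M] (j : ℕ) : Prop :=
  ∀ (G : Type u) [Group G] [Finite G] (B : Set (IrrCharacter G)) (P : Subgroup G) (m : MP 2 M B P),
    Nonempty (P ≃* DihedralGroup (2 ^ (j + 1))) → ∃ n S τ, DH m j n S τ

theorem Tm.step {G : Type u} [Group G] [Finite G] {B : Set (IrrCharacter G)} {P : Subgroup G}
    {k : ℕ} {x z : P} {g : Fin 2 → P} (h : Tm P k x z g) (m : MP 2 M B P) (ih : DHA.{u} M k) :
    ∃ n S E ξ, TS m k x z g n S E ξ ∧
      ((∀ v : P, (v : G) ∉ zpowers (x : G) → (v : G) * v = 1) → ∃ n τ, DH m (k + 1) n S τ) := by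
  obtain ⟨f, hf, e⟩ := ((m.le_fv z).lo m.mx.pair).exists_io
  obtain ⟨m', e'⟩ := m.exists_loc h.le_cC hf (e ▸ m.le_fv z)
  have l : m.Lv _ (cC (zpowers (z : G))).subtype m' := ⟨Subtype.val_injective, range_subtype _,
    zpowers_le.2 z.2, map_subgroupOf_eq_of_le h.le_cC, e'⟩
  clear e e'
  revert l
  generalize (cC (zpowers (z : G))).subtype = φ
  intro l
  obtain ⟨x, rfl⟩ := l.im_surj x
  obtain ⟨z', hz'⟩ := l.im_surj z
  choose g' hg' using fun i => l.im_surj (g i)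
  obtain rfl := funext hg'
  have l' : m.Lv (zpowers (φ z')) φ m' := by rwa [← l.coe_im, hz']
  have h' : Tm _ k x z' g' := l.tm_iff.1 (by rwa [hz'])
  obtain ⟨L, _, _, π, hπ, hk, h1, h2⟩ := H8.exists_quot_central (p := 2) l'.central (m'.isPE z')
  obtain ⟨b1, b2, -⟩ := H8.dominated hπ h1 (fun y _ => h2 y) hf
  obtain ⟨m''⟩ := nonempty_mp b1 (b2 _ m'.dfc)
  obtain ⟨n, S, τ, d⟩ := ih L _ _ m'' (mc_map_dih h'.mc π (h'.hz ▸ hk))
  obtain ⟨S, E, ξ, τ, s⟩ := h'.exists_hs m' l'.central hπ hk d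
  have := l'.exists_ts h' s
  rw [show l'.im z' = z from hz'] at this
  exact ⟨n, this⟩

theorem dha (j : ℕ) : DHA.{u} M j := by
  induction j with
  | zero => exact fun G _ _ B P m ⟨e⟩ => dh_klein m (H9.isKleinFour_of_equiv (H := DihedralGroup 2) e)
  | succ k ih =>
    intro G _ _ B P m ⟨e⟩
    obtain ⟨x, h, hd⟩ := H9.exists_mc_of_dihedral e
    obtain ⟨z, g, h⟩ := exists_tm h
    obtain ⟨-, S, -, -, -, h⟩ := h.step m ih
    obtain ⟨n, τ, h⟩ := h fun v => hd v v.2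
    exact ⟨n, S, τ, h⟩

/-- **Brauer–Olsson**: the characters of a block whose defect groups have maximal class. -/
theorem Tm.exists_ts {k : ℕ} {x z : P} {g : Fin 2 → P} (h : Tm P k x z g) (m : MP 2 M B P) :
    ∃ n S E ξ, TS m k x z g n S E ξ :=
  have ⟨n, S, E, ξ, s, _⟩ := h.step m (dha k)
  ⟨n, S, E, ξ, s⟩

theorem exists_tame {k : ℕ} {x : G} (hB : IsPBlock M B) (hP : IsDefectGroup 2 M B P)
    (h : H9.MC P k x) : ∃ (m : MP 2 M B P) (z : P) (g : _) (n : ℕ) (S E : _) (ξ : _),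
      Tm P k ⟨x, h.xmem⟩ z g ∧ TS m k ⟨x, h.xmem⟩ z g n S E ξ :=
  have ⟨m⟩ := nonempty_mp hB hP
  have ⟨z, g, t⟩ := exists_tm h
  have ⟨n, S, E, ξ, s⟩ := t.exists_ts m
  ⟨m, z, g, n, S, E, ξ, t, s⟩

omit [PM 2 M] in
theorem Tm.exists_sq {k : ℕ} {x z : P} {g : Fin 2 → P} (h : Tm P k x z g) {v : G} (hv : v ∈ P)
    (hv' : v ∉ zpowers (x : G)) : ∃ i, (g i : G) * g i = v * v := by
  obtain ⟨i, hi, -⟩ := h.uniq ⟨v, hv⟩ hv'
  exact ⟨i, by simpa using h.mc.sq_mul_sq hv hv' hi⟩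

namespace TS

variable {m : MP 2 M B P} {k n : ℕ} {x z : P} {g : Fin 2 → P} {S E : Finset (IrrCharacter G)}
  {ξ : Fin n → IrrCharacter G} (s : TS m k x z g n S E ξ)
include s

theorem num' : Nat.card B = 2 ^ (k + 1) + 3 + n := by have := s.num; have := s.cE; omega

theorem ht {χ : IrrCharacter G} (h : χ ∈ B) : blockHeight 2 B (χ : G → ℂ) = 0 ∨
    blockHeight 2 B (χ : G → ℂ) = 1 ∨ n ≠ 0 ∧ blockHeight 2 B (χ : G → ℂ) = k + 1 := by
  rcases (s.mem χ).1 h with e | e | ⟨a, rfl⟩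
  exacts [.inl (s.hS χ e), .inr (.inl (s.hE χ e)), .inr (.inr ⟨a.pos.ne', s.hξ a⟩)]

theorem card0 :
    Nat.card {χ : IrrCharacter G // χ ∈ B ∧ blockHeight 2 B (χ : G → ℂ) = 0} = 4 := by
  refine .trans ?_ s.cS
  rw [← Nat.card_eq_finsetCard]
  refine Nat.card_congr (Equiv.subtypeEquivRight fun χ => ⟨fun ⟨h, e⟩ => ?_, fun h =>
    ⟨(s.mem χ).2 (.inl h), s.hS χ h⟩⟩)
  rcases (s.mem χ).1 h with h | h | ⟨a, rfl⟩
  exacts [h, absurd (e.symm.trans (s.hE χ h)) zero_ne_one, absurd (e.symm.trans (s.hξ a)) (by simp)]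

theorem card1 (hk : 1 ≤ k) :
    Nat.card {χ : IrrCharacter G // χ ∈ B ∧ blockHeight 2 B (χ : G → ℂ) = 1} = 2 ^ (k + 1) - 1 := by
  rw [← s.cE, Nat.add_sub_cancel, ← Nat.card_eq_finsetCard]
  refine Nat.card_congr (Equiv.subtypeEquivRight fun χ => ⟨fun ⟨h, e⟩ => ?_, fun h =>
    ⟨(s.mem χ).2 (.inr (.inl h)), s.hE χ h⟩⟩)
  rcases (s.mem χ).1 h with h | h | ⟨a, rfl⟩
  exacts [absurd ((s.hS χ h).symm.trans e) zero_ne_one, h,
    absurd (e.symm.trans (s.hξ a)) (by omega)]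

theorem rank' : blockRank 2 B + (if m.U x (g 0) then 1 else 0) + (if m.U x (g 1) then 1 else 0) = 3 := by
  simpa only [Finset.card_filter, Fin.sum_univ_two, add_assoc] using s.rank

theorem cnt' : n + (if (g 0 : G) * g 0 = 1 ∨ m.U x (g 0) then 1 else 0) +
    (if (g 1 : G) * g 1 = 1 ∨ m.U x (g 1) then 1 else 0) = 2 := by
  simpa only [Finset.card_filter, Fin.sum_univ_two, add_assoc] using s.cnt

end TS

end H7
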