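import Cfsg.Agent.H7.Tame
import Cfsg.Agent.H7.Invol

/-! Exclusion of the exceptional configuration for 2-blocks with dihedral defect group of order 16
(`Tm.not_exo`), by counting pairs of involutions. -/

open H5 Cfsg MonoidAlgebra Subgroup
open H8 (cC nN c1 cA mp io St Le Sp BP cw)
open H7.Had
open scoped ComplexConjugate Classical

namespace H7

variable {M : Ideal AlgInt} {G : Type*} [Group G] [Finite G]

theorem orderOf_dvd_coeff {t : G} (ht : t * t = 1) (g : G) :
    ∃ n : ℕ, (cls ℂ t * cls ℂ t).coeff g = (orderOf g * n : ℕ) := by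
  have := Fintype.ofFinite G
  set T : Set G := {s | IsConj t s ∧ IsConj t (s⁻¹ * g)}
  have h1 : ∀ n : ℕ, ∀ s ∈ T, s * g ^ n ∈ T := fun n s hs => by
    induction n with
    | zero => simpa using hs
    | succ n ih =>
      have e := inv_eq_of_mul_eq_one_left (mul_self_of_isConj ht ih.1)
      exact ⟨by rw [pow_succ, ← mul_assoc, ← e]; exact ih.2, ih.1.trans (isConj_iff.2 ⟨g⁻¹, by
        rw [pow_succ, ← mul_assoc s, mul_inv_rev (s * g ^ n), e, inv_inv]⟩)⟩
  have h2 : T = QuotientGroup.mk ⁻¹' ((QuotientGroup.mk : G → G ⧸ zpowers g) '' T) :=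
    Set.Subset.antisymm (Set.subset_preimage_image _ _) fun a ⟨s, hs, e⟩ => by
      obtain ⟨n, hn⟩ := mem_powers_iff_mem_zpowers.2 (QuotientGroup.eq.1 e)
      rw [← mul_inv_cancel_left s a, ← hn]
      exact h1 n s hs
  refine ⟨Nat.card ((QuotientGroup.mk : G → G ⧸ zpowers g) '' T), ?_⟩
  rw [← Nat.card_zpowers, ← QuotientGroup.card_preimage_mk, ← h2, coeff_mul_sum,
    Nat.card_eq_fintype_card, Fintype.card_subtype]
  simp [coeff_cls, ← ite_and, T, and_comm]

theorem ev_div_mem_O [M.IsMaximal] {θ : G → ℂ} (hθ : IsClassFunction G θ) {a : ℂ[G]}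
    (ha : a ∈ Z ℂ G) {c : ℂ} (h : ∀ g, a.coeff g * θ g / Nat.card (c1 g) / c ∈ O M) :
    ev θ a / Nat.card G / c ∈ O M := by
  have := Fintype.ofFinite (ConjClasses G)
  rw [eq_sum_cls ha, map_sum, Finset.sum_div, Finset.sum_div]
  refine sum_mem fun C _ => ?_
  convert h (rep C) using 2
  have h1 := (c1 (rep C)).index_ne_zero_of_finite
  have h2 := card_ne_zero_complex (G := c1 (rep C))
  rw [map_smul, ev_cls hθ, ← (c1 (rep C)).card_mul_index, smul_eq_mul]
  push_cast
  field_simp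

variable [PM 2 M] {B : Set (IrrCharacter G)} {P : Subgroup G} {x z : P} {g : Fin 2 → P}

theorem Tm.not_exo (h : Tm P 1 x z g) (m : MP 2 M B P) (hg : ∀ i, (g i : G) * g i = 1)
    {S : Finset (IrrCharacter G)} {T : IrrCharacter G → ℤ} (hS : S.card = 4)
    (h0 : ∀ χ ∈ S, χ ∈ B ∧ blockHeight 2 B (χ : G → ℂ) = 0) (hT : ∀ χ ∈ B, T χ ≠ 0)
    (ex : Exo S T fun χ => charDegree (χ : G → ℂ)) {β : ℂ} (hβ : ∀ χ ∈ B, (χ : G → ℂ) z = β * T χ)
    {d : ℕ} (d0 : d ≠ 0) (hd : β ^ 2 = d ^ 2)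
    (hv : d.factorization 2 + 4 = (Nat.card (c1 (z : G))).factorization 2) : False := by
  have := Fintype.ofFinite G
  have hx := npow_mem_zpowers (x : G) 2
  have e1 : (x : G) ^ 2 * x ^ 2 = z := by rw [h.hz, ← pow_add]; rfl
  have e2 : ((x ^ 2 : P) : G) * (x ^ 2 : P) ≠ 1 := fun e => h.z_ne (Subtype.ext (e1.symm.trans e))
  have e3 := h.mc.inv_sq (g 0).2 (h.out 0)
  have fc : ∀ w : P, m.FC (x ^ 2) w ↔ (w : G) ∈ zpowers ((x : G) ^ 2) ∧ (w : G) ∉ zpowers (z : G) :=
    fun w => by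
      refine ⟨fun e => ⟨?_, fun e' => e2 (e.mul_self_iff.2 ?_)⟩, fun ⟨h1, h2⟩ => ?_⟩
      · by_cases hw : (w : G) ∈ zpowers (x : G)
        · rcases (h.fc_X m hx hw).1 e with rfl | rfl
          · exact mem_zpowers _
          · exact (congrArg (· ∈ _) e3).mpr (inv_mem (mem_zpowers _))
        · obtain ⟨i, hi, -⟩ := h.uniq w hw
          obtain ⟨a, -, e'⟩ := h.mc.exists_conj_of_mem_sq w.2 hw hi
          exact absurd (e.mul_self_iff.2 (mul_self_of_isConj (hg i) (isConj_iff.2 ⟨a, e'⟩).symm)) e2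
      · rcases H9.eq_one_or_eq_of_mem_zpowers h.zz e' with e' | e' <;> simp [e', h.zz]
      · rw [mem_zpowers_iff_mem_range_orderOf, h.mc.orderOf_sq, Finset.mem_image] at h1
        obtain ⟨i, hi, e⟩ := h1
        refine (h.fc_X m hx (e ▸ pow_mem hx i)).2 ?_
        rw [Finset.mem_range] at hi
        interval_cases i
        · exact absurd (by rw [← e, pow_zero]; exact one_mem _) h2
        · exact .inl (Subtype.ext (by simp [← e]))
        · exact absurd (by rw [← e, sq, e1]; exact mem_zpowers _) h2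
        · exact .inr (Subtype.ext (by
            rw [← e, coe_mul, coe_mul, coe_inv, coe_pow, e3, eq_inv_iff_mul_eq_one, ← pow_succ,
              ← pow_mul]; exact h.mc.x_pow))
  have hz : zpowers (z : G) ≤ zpowers ((x : G) ^ 2) := zpowers_le.2 (h.hz ▸ h.mc.u_mem_sq)
  have gen : IsGeneralizedCharacter P fun w => (2 ^ 3 : ℕ) * m.ind (x ^ 2) w := by
    convert (h.isGen_sq.natCast_smul 2).sub (isGen_ind' (A := zpowers (z : G)) (P := P) (n := 8)
      (fun a ha b hb => by
        rcases H9.eq_one_or_eq_of_mem_zpowers h.zz hb with rfl | rfl <;> simp [h.zc ha]) (by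
        rw [← relIndex_mul_relIndex _ _ _ hz (h.mc.sq_le.trans h.mc.zpowers_le),
          ← relIndex_mul_relIndex _ _ _ h.mc.sq_le h.mc.zpowers_le, h.mc.relIndex_sq, h.mc.idx,
          H9.relIndex_eq_two_of_card hz (by
            rw [Nat.card_zpowers, Nat.card_zpowers, h.hz, h.mc.orderOf_u, h.mc.orderOf_sq]; rfl)]))
      using 1
    funext w
    by_cases h1 : (w : G) ∈ zpowers (z : G)
    · simp [MP.ind, fc, h1, hz h1]; norm_num
    · by_cases h2 : (w : G) ∈ zpowers ((x : G) ^ 2) <;> simp [MP.ind, fc, h1, h2]; norm_num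
  have hd3 := h.defect_X m (v := x ^ 2) hx e2
  choose C hC using m.exists_int gen
  obtain ⟨s, hs, c1'⟩ := exists_row hS (C := C) (fun i => Int.cast_injective (α := ℂ) (by
    have : ∀ l, (C i l : ℂ) * C i l = 64 * (m.ct (x ^ 2) (i : G → ℂ) l * m.ct (x ^ 2) (l : G → ℂ) i) :=
      fun l => by
        have := congrArg conj (hC i l)
        simp only [map_mul, map_natCast, map_intCast, MP.ct_conj] at this
        nth_rw 1 [← hC, ← this]; push_cast; ring
    simp only [ip, Int.cast_sum, Int.cast_mul, this, ← Finset.mul_sum, m.sum_ct_mul']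
    rw [← hC]; push_cast; ring)) (Int.cast_injective (α := ℂ) (by
      simp only [Int.cast_sum, ← hC, ← Finset.mul_sum, m.sum_ct_self', h.rank_X m hx e2]; simp))
    fun i hi j hj => (m.odd_iff hd3 (hC i j)).2 ⟨h0 i hi, h0 j hj⟩
  have c0 : ∀ χ ∉ B, C s χ = 0 := fun χ e => Int.cast_injective (α := ℂ) (by
    rw [← hC, m.ct_of_notMem' e]; simp)
  obtain ⟨e, t0, s', hs', ex⟩ := ex
  obtain ⟨a, b, ha, hb, ex⟩ := ex (C s) c1' (fun χ h1 h2 => c0 χ fun e' => hT χ e' (t0 χ h1 h2))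
    (Int.cast_injective (α := ℂ) (by
      simp only [ip, Int.cast_sum, Int.cast_mul, Int.cast_natCast,
        fun χ : IrrCharacter G => χ.2.coe_charDegree, Int.cast_zero]
      refine m.sum_mul_one_eq_zero (fun χ e => by simp [c0 χ e]) fun ψ => ?_
      simp only [← hC, mul_assoc, ← Finset.mul_sum]
      rw [m.sum_ct_mul_of_not fun e => e2 (e.mul_self_iff.2 (by simp)), mul_zero]))
  set θ := m.star (fun w => (2 ^ 3 : ℕ) * m.ind (x ^ 2) w) (s : G → ℂ) with hθ
  have hA := mul_mem (cls_mem_Z (k := ℂ) (z : G)) (cls_mem_Z (z : G))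
  have h1 := ev_div_mem_O (M := M) (θ := θ) (m.isClassFunction_star _ _) hA (c := 4) fun y => by
    by_cases e : θ y = 0
    · simp [e]
    obtain ⟨v, h1, h2⟩ := m.isConj_of_star_ne_zero e
    obtain ⟨n, hn⟩ := orderOf_dvd_coeff h.zz y
    obtain ⟨r, hr⟩ : 4 ∣ orderOf y := by
      have h3 : m.FC (x ^ 2) v := by_contra fun e => h1 (by simp [MP.ind, e])
      obtain ⟨c, hc⟩ := isConj_iff.1 (h2.trans h3.isConj.symm)
      have := orderOf_dvd_of_mem_zpowers (pp_mem (p := 2) (mem_zpowers y))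
      rwa [← orderOf_conj' c, hc, coe_pow, h.mc.orderOf_sq] at this
    have := mul_mem (natCast_mem (O M) (r * n)) (m.pow_mul_star_ind_div s.2.isGen (x ^ 2) y)
    rw [hd3, ← Nat.cast_pow] at this
    have e3 : (cls ℂ (z : G) * cls ℂ (z : G)).coeff y * θ y / Nat.card (c1 y) / 4 =
        (r * n : ℕ) * (θ y / Nat.card (c1 y)) := by rw [hn, hr]; push_cast; ring
    rw [e3]; exact this
  have h2 : ev θ (cls ℂ (z : G) * cls ℂ (z : G)) = (c1 (z : G)).index ^ 2 * d ^ 2 *
      ∑ χ : IrrCharacter G, C s χ * (T χ ^ 2 / (charDegree (χ : G → ℂ) : ℤ) : ℂ) := by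
    rw [hθ, (m.isClassFunction_star _ _).eq_sum_irr, ev_sum_fun, Finset.mul_sum]
    refine Finset.sum_congr rfl fun χ _ => ?_
    rw [ev_smul_fun, m.inner_star_ind s.2.isClassFunction χ.2.isClassFunction, hC, ev_cls_mul χ.2,
      Int.cast_natCast, χ.2.coe_charDegree, ← hd]
    by_cases e : χ ∈ B
    · rw [hβ χ e]; ring
    · simp [c0 χ e]
  have h3 := factorization_add_defect (M := M) (p := 2) (h0 s' hs').1
  have s0 := s'.2.charDegree_pos.ne'
  have g0 := Nat.card_pos (α := G).ne'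
  have k0 := Nat.card_pos (α := c1 (z : G)).ne'
  have key : ∀ (ε : ℤ) (j : ℕ), 3 * a - b = ε * 2 ^ j → ε ^ 2 = 1 → j ≤ 2 → False := fun ε j e1 e2 e3 => by
    have h4 := mul_mem (intCast_mem (O M) ε) h1
    have e4 : (3 * a - b : ℂ) = ε * 2 ^ j := by exact_mod_cast e1
    have e5 : (ε : ℂ) ^ 2 = 1 := by exact_mod_cast e2
    rw [show ε * (ev θ (cls ℂ (z : G) * cls ℂ (z : G)) / Nat.card G / 4) =
      ((Nat.card G * d ^ 2 * 2 ^ (j + 1) : ℕ) : ℂ) /
      (3 * charDegree (s' : G → ℂ) * Nat.card (c1 (z : G)) ^ 2 : ℕ) by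
        rw [h2, eq_div_of_mul_eq (by simpa using s0) ((mul_comm _ _).trans ex), e4,
          ← (c1 (z : G)).card_mul_index]
        have := (c1 (z : G)).index_ne_zero_of_finite
        push_cast
        field_simp
        rw [e5]; ring, natCast_div_mem_O_iff (p := 2) (by positivity) (by positivity)] at h4
    simp only [Nat.factorization_mul, Nat.factorization_pow, ne_eq, mul_eq_zero, g0, k0, s0, d0,
      pow_eq_zero_iff', OfNat.ofNat_ne_zero, false_and, or_self, not_false_eq_true, Finsupp.add_apply,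
      Finsupp.smul_apply, smul_eq_mul, Nat.prime_two.factorization_self,
      Nat.factorization_eq_zero_of_not_dvd (show ¬ 2 ∣ 3 by decide)] at h4
    rw [h.defect m, (h0 s' hs').2] at h3
    omega
  rcases sq_eq_one_iff.1 ha with rfl | rfl <;> rcases sq_eq_one_iff.1 hb with rfl | rfl
  exacts [key 1 1 rfl rfl (by simp), key 1 2 rfl rfl le_rfl, key (-1) 2 rfl rfl le_rfl,
    key (-1) 1 rfl rfl (by simp)]

end H7
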