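import Cfsg.Agent.H7.OT

/-! Watanabe's theorem for blocks with abelian defect group: `l` and `k` do not change when passing
to the centralizer of an element fixed by the inertial group (`MP.rank_bR`, `MP.Lv.watanabe`). -/

open H5 Cfsg MonoidAlgebra
open H8 (cC nN c1 cA mp io St Le Sp BP)
open scoped ComplexConjugate

namespace H7

variable {M : Ideal AlgInt} {G K K' : Type*} [Group G] [Finite G] [Group K] [Finite K] [Group K']
  [Finite K'] {p : ℕ}

/-- The norm map of a coprime action on an abelian `p`-group. -/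
theorem exists_norm {D : Type*} [Group D] [Finite D] [Fact p.Prime] (hc : ∀ a b : D, a * b = b * a)
    (hD : IsPGroup p D) {E : Subgroup (MulAut D)} (hE : ¬ p ∣ Nat.card E) :
    ∃ ν : D →* D, (∀ v w, EC E v w → ν v = ν w) ∧ ∀ v, (∀ σ ∈ E, σ v = v) → ν v = 1 → v = 1 := by
  letI : CommGroup D := { (inferInstance : Group D) with mul_comm := hc }
  refine ⟨∏ σ : E, σ.1.toMonoidHom, ?_, fun v hv h => ?_⟩
  · rintro v _ ⟨τ, hτ, rfl⟩
    rw [MonoidHom.finset_prod_apply, MonoidHom.finset_prod_apply]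
    exact (Fintype.prod_equiv (Equiv.mulRight (⟨τ, hτ⟩ : E)) _ _ fun σ => rfl).symm
  · rw [MonoidHom.finset_prod_apply, Finset.prod_congr rfl fun σ _ => hv σ.1 σ.2, Finset.prod_const,
      Finset.card_univ, ← Nat.card_eq_fintype_card] at h
    obtain ⟨k, hk⟩ := hD v
    exact orderOf_eq_one_iff.1 (Nat.eq_one_of_dvd_coprimes
      (Nat.Coprime.pow_left k ((Nat.Prime.coprime_iff_not_dvd Fact.out).2 hE))
      (orderOf_dvd_of_pow_eq_one hk) (orderOf_dvd_of_pow_eq_one h))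

variable [hp : Fact p.Prime] [PM p M]

theorem eq_of_mp_eq {φ : K →* G} {φ' : K' →* G} (hφ : Function.Injective φ)
    (hφ' : Function.Injective φ') (h : φ.range = φ'.range) {b : Set (IrrCharacter K)}
    {b' : Set (IrrCharacter K')} (hb : IsSat M b) (hb' : IsSat M b')
    (e : mp φ (fB M b) = mp φ' (fB M b')) :
    ∃ π : K ≃* K', (∀ x, φ' (π x) = φ x) ∧ b' = icomp π.toMonoidHom π.surjective ⁻¹' b := by
  let π : K ≃* K' := (MonoidHom.ofInjective hφ).trans ((MulEquiv.subgroupCongr h).trans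
    (MonoidHom.ofInjective hφ').symm)
  have hπ : ∀ x, φ' (π x) = φ x := fun x => MonoidHom.apply_ofInjective_symm hφ' _
  refine ⟨π, hπ, H8.fB_inj hb' (hb.preimage_icomp _) (H8.mp_injective hφ' ?_)⟩
  rw [← mapDomain_fB (π := π.toMonoidHom) π.surjective hb, ← e, ← H8.mp_apply, H8.mp_mp]
  congr 2
  exact MonoidHom.ext fun x => (hπ x).symm

theorem blockRank_of_mp_eq {φ : K →* G} {φ' : K' →* G} (hφ : Function.Injective φ)
    (hφ' : Function.Injective φ') (h : φ.range = φ'.range) {b : Set (IrrCharacter K)}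
    {b' : Set (IrrCharacter K')} (hb : IsSat M b) (hb' : IsSat M b')
    (e : mp φ (fB M b) = mp φ' (fB M b')) : blockRank p b = blockRank p b' := by
  obtain ⟨π, -, rfl⟩ := eq_of_mp_eq hφ hφ' h hb hb' e
  have : π.toMonoidHom.ker = ⊥ := (MonoidHom.ker_eq_bot_iff _).2 π.injective
  exact blockRank_quot _ (this ▸ IsPGroup.of_bot) (fun y _ x hx => by
    rw [this] at hx; rw [Subgroup.mem_bot.1 hx, one_mul, mul_one]) hb

namespace MP

variable {B : Set (IrrCharacter G)} {P Q R : Subgroup G} (m : MP p M B P)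

theorem fc_iff_ab (hab : P ≤ cC P) {v w : P} :
    m.FC v w ↔ ∃ n ∈ nN P ⊓ St m.e, n * v * n⁻¹ = w :=
  ⟨fun h => h.exists_of_central (hab v.2) (hab w.2), fun ⟨_, h1, h2⟩ => m.fc_of_stab h1 h2⟩

theorem fc_iff_ec (hab : P ≤ cC P) {v w : P} :
    m.FC v w ↔ EC (autE P.subtype (nN P ⊓ St m.e)) v w :=
  (m.fc_iff_ab hab).trans (ec_autE P.subtype_injective
    (by rw [Subgroup.range_subtype]; exact inf_le_left)).symm

theorem sum_hom_rank [Fintype P] (hab : P ≤ cC P) {l : P →* ℂˣ} (hl : m.Stb fun v => l v)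
    (h1 : l ≠ 1) : ∑ v, (l v : ℂ) / m.cl v * blockRank p (m.bu v) = 0 := by
  classical
  have := Fintype.ofFinite G
  simp only [← sum_ct_self, Finset.mul_sum]
  rw [Finset.sum_comm]
  refine Finset.sum_eq_zero fun χ _ => ?_
  by_cases hχ : χ ∈ B
  · simp only [if_pos hχ]
    obtain ⟨ψ, -, e⟩ := m.exists_star_lin hl hχ
    rw [← m.inner_star χ.2.isClassFunction χ.2.isClassFunction, e, classInner_irr, if_neg]
    rintro rfl
    exact h1 (MonoidHom.ext fun v => Units.ext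
      (m.eq_of_star_eq hl ψ.2.isClassFunction e (m.ct_self_major_ne_zero (hab v.2) hχ)))
  · simp [hχ]

theorem sum_ker_rank [Fintype P] [DecidableEq P] (hab : P ≤ cC P) {ν : P →* P}
    (hν : ∀ v w, m.FC v w → ν v = ν w) (z : P) :
    ∑ w, (if ν w = 1 then (m.cl (z * w) : ℂ)⁻¹ * blockRank p (m.bu (z * w)) else 0) =
      ∑ w, if ν w = 1 then (m.cl w : ℂ)⁻¹ * blockRank p (m.bu w) else 0 := by
  have hc : ∀ a b : P, a * b = b * a := fun a b => Subtype.ext (hab b.2 a a.2)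
  have key : ∀ Φ : P → ℂ, Nat.card P * ∑ w, (if ν w = 1 then Φ w else 0) =
      ∑ l : P →* ℂˣ, ∑ w, l (ν w) * Φ w := fun Φ => by
    rw [Finset.sum_comm, Finset.mul_sum]
    refine Finset.sum_congr rfl fun w _ => ?_
    rw [← Finset.sum_mul]
    split_ifs with h
    · simp [h, -Nat.card_eq_fintype_card, ← card_hom hc, Fintype.card_eq_nat_card]
    · rw [sum_hom_apply hc h, mul_zero, zero_mul]
  refine mul_left_cancel₀ (Nat.cast_ne_zero.2 (Nat.card_pos (α := P)).ne') ?_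
  rw [key, key]
  refine Finset.sum_congr rfl fun l _ => ?_
  have e : ∑ w, (l (ν w) : ℂ) * ((m.cl (z * w) : ℂ)⁻¹ * blockRank p (m.bu (z * w))) =
      l (ν z⁻¹) * ∑ w, l (ν w) * ((m.cl w : ℂ)⁻¹ * blockRank p (m.bu w)) := by
    rw [Finset.mul_sum]
    refine Fintype.sum_equiv (Equiv.mulLeft z) _ _ fun w => ?_
    rw [Equiv.coe_mulLeft, ← mul_assoc (l (ν z⁻¹) : ℂ), ← Units.val_mul, ← map_mul, ← map_mul,
      inv_mul_cancel_left]
  rw [e]
  by_cases h : l.comp ν = 1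
  · rw [show l (ν z⁻¹) = 1 from DFunLike.congr_fun h z⁻¹, Units.val_one, one_mul]
  · have := m.sum_hom_rank hab (l := l.comp ν) (fun v w h => by simp [hν v w h]) h
    simp only [div_eq_mul_inv, mul_assoc, MonoidHom.comp_apply] at this
    rw [this, mul_zero]

theorem cl_mul_fixed (hab : P ≤ cC P) {z : P} (hz : ∀ n ∈ nN P ⊓ St m.e, n * z * n⁻¹ = z) (w : P) :
    m.cl (z * w) = m.cl w := by
  refine (Nat.card_congr (Equiv.subtypeEquiv (Equiv.mulLeft z) fun x => ?_)).symm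
  rw [m.fc_iff_ab hab, m.fc_iff_ab hab]
  refine exists_congr fun n => and_congr_right fun hn => ?_
  rw [Equiv.coe_mulLeft, Subgroup.coe_mul, Subgroup.coe_mul, ← conj_mul, hz n hn, mul_right_inj]

theorem rank_step (hab : P ≤ cC P) {z : P} (hz : ∀ n ∈ nN P ⊓ St m.e, n * z * n⁻¹ = z)
    (h : ∀ w : P, (∃ n ∈ nN P ⊓ St m.e, n * w * n⁻¹ ≠ w) →
      blockRank p (m.bu (z * w)) = blockRank p (m.bu w)) :
    blockRank p (m.bu z) = blockRank p (m.bu 1) := by
  classical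
  have := Fintype.ofFinite P
  obtain ⟨ν, h1, h2⟩ := exists_norm (fun a b : P => Subtype.ext (hab b.2 a a.2)) m.mx.pg
    (m.not_dvd_card_autE hab)
  have key := m.sum_ker_rank hab (fun v w e => h1 v w ((m.fc_iff_ec hab).1 e)) z
  rw [← Finset.add_sum_erase _ _ (Finset.mem_univ 1), ← Finset.add_sum_erase _ _ (Finset.mem_univ 1),
    Finset.sum_congr rfl fun w hw => if_ctx_congr Iff.rfl (fun e => by
      rw [m.cl_mul_fixed hab hz, h w]
      by_contra! h3
      exact (Finset.mem_erase.1 hw).1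
        (h2 w (fun σ ⟨n, hn, e⟩ => Subtype.ext ((e w).trans (h3 n hn))) e)) fun _ => rfl,
    add_left_inj, if_pos (map_one ν), if_pos (map_one ν), m.cl_mul_fixed hab hz, mul_one, m.cl_one]
    at key
  simpa using key

namespace Lv

variable {m} {φ : K →* G} {B' : Set (IrrCharacter K)} {P' S : Subgroup K} {m' : MP p M B' P'}

theorem io_eq' (l : m.Lv Q φ m') (hab : P ≤ cC P) {g : (F M)[K]} (hg : Le p ⊤ S g P' m'.e) :
    mp φ g = io M _ (m.bR (Q ⊔ S.map φ)) := by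
  have h1 := hg.mp l.inj
  have h2 := (H8.pair_mp l.inj).2 m'.mx.pair
  rw [← MonoidHom.range_eq_map, l.rng, l.map, l.e] at h1 h2
  have h3 := l.sup_le hg.le
  have c : ∀ R ≤ P, P ≤ cC R := fun R hR => hab.trans (H8.cC_anti hR)
  have n := h1.toNS h2 ((c _ l.le).trans (H8.le_nN_self _))
    ((c _ (le_sup_right.trans h3)).trans (H8.cC_le_nN _))
  exact m.mx.unique (H8.NS.toLe ⟨⟨m.mx.pg.to_le h3, by rw [top_inf_eq, H8.cC_sup]; exact n.lo.blk⟩,
    m.mx.pair, h3, (c _ h3).trans (H8.cC_le_nN _), n.inv, n.br⟩) (m.bR_spec h3).2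

theorem rank_bu (l : m.Lv Q φ m') (hab : P ≤ cC P) (v : P') :
    blockRank p (m'.bu v) = blockRank p (m.bR (Q ⊔ Subgroup.zpowers (φ v))) := by
  refine blockRank_of_mp_eq (φ := φ.comp (c1 (v : K)).subtype)
    (l.inj.comp Subtype.val_injective) (Subgroup.subtype_injective _) ?_ (m'.bu_sat v)
    (isSat_of_isPBlock (m.bR_spec (l.sup_le' v)).1) ?_
  · rw [MonoidHom.range_comp, Subgroup.range_subtype, Subgroup.range_subtype,
      map_c1_of_range l.inj l.rng]
  · rw [← H8.mp_mp, ← io, m'.io_bu, l.io_eq' hab (m'.le_fv v), MonoidHom.map_zpowers, io]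

theorem mem_stab (l : m.Lv Q φ m') {t : K} : t ∈ nN P' ⊓ St m'.e ↔ φ t ∈ nN P ⊓ St m.e := by
  rw [← l.e, Subgroup.mem_inf, Subgroup.mem_inf, H8.mem_St_mp l.inj, ← l.map, H8.mem_nN_map _ l.inj]

theorem ab (l : m.Lv Q φ m') (hab : P ≤ cC P) : P' ≤ cC P' := fun a ha b hb => l.inj (by
  rw [map_mul, map_mul]; exact hab (l.mem ⟨a, ha⟩) _ (l.mem ⟨b, hb⟩))

end Lv

theorem exists_lv (hab : P ≤ cC P) (hR : R ≤ P) {H : Subgroup G} (hH : H = cC R)
    {f : Set (IrrCharacter H)} (hf : IsPBlock M f) (h : Le p ⊤ R (io M _ f) P m.e) :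
    ∃ m' : MP p M f (P.subgroupOf H), m.Lv R H.subtype m' := by
  subst hH
  have hc := hab.trans (H8.cC_anti hR)
  obtain ⟨m', e⟩ := m.exists_loc hc hf h
  exact ⟨m', Subtype.val_injective, Subgroup.range_subtype _, hR,
    Subgroup.map_subgroupOf_eq_of_le hc, e⟩

theorem eq_fB_of_le_bot {f : (F M)[G]} (h : Le p ⊤ ⊥ f P m.e) : f = fB M B := by
  have h1 := m.mx.bp_of_le h
  have h2 := h1.pair.blk
  have h3 := h1.br
  rw [show ⊤ ⊓ cC (⊥ : Subgroup G) = ⊤ from eq_top_iff.2 fun x _ => ⟨trivial, fun y hy => by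
    rw [Subgroup.mem_bot.1 hy, one_mul, mul_one]⟩] at h2
  rw [H8.Br_bot] at h3
  exact (m.mx.prim.eq_of_mul_ne_zero (H8.comm_blk ⊤) h2 (h3.symm ▸ h2.ne)).symm

theorem fv_one : m.fv 1 = fB M B :=
  m.eq_fB_of_le_bot (by simpa using m.le_fv 1)

theorem rank_bu_one : blockRank p (m.bu 1) = blockRank p B := by
  refine blockRank_of_mp_eq (φ' := MonoidHom.id G) (Subgroup.subtype_injective _) Function.injective_id ?_
    (m.bu_sat 1) (isSat_of_isPBlock m.blk) ?_
  · rw [Subgroup.range_subtype, MonoidHom.range_eq_top.2 Function.surjective_id]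
    exact eq_top_iff.2 fun x _ => Subgroup.mem_centralizer_singleton_iff.2 (by simp)
  · rw [← io, m.io_bu, m.fv_one]
    exact (H8.mp_id _).symm

theorem rank_bR (hab : P ≤ cC P) (hR : R ≤ P) {z : G} (hz : z ∈ P)
    (h : ∀ t ∈ nN P ⊓ St m.e ⊓ cC R, t * z * t⁻¹ = z) :
    blockRank p (m.bR (R ⊔ Subgroup.zpowers z)) = blockRank p (m.bR R) := by
  induction R using WellFoundedGT.induction with
  | ind R ih =>
  obtain ⟨m', l⟩ := m.exists_lv hab hR rfl (m.bR_spec hR).1 (m.bR_spec hR).2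
  have hc := hab.trans (H8.cC_anti hR)
  have fx : ∀ {w : P.subgroupOf (cC R)}, ((w : cC R) : G) ∈ R → ∀ n : cC R, n * w * n⁻¹ = w :=
    fun {w} hw n => Subtype.ext (mul_inv_eq_of_eq_mul (n.2 _ hw).symm)
  let z' : P.subgroupOf (cC R) := ⟨⟨z, hc hz⟩, hz⟩
  have hz' : ∀ n ∈ nN (P.subgroupOf (cC R)) ⊓ St m'.e, n * z' * n⁻¹ = z' :=
    fun n hn => Subtype.ext (h n ⟨l.mem_stab.1 hn, n.2⟩)
  have key : ∀ w : P.subgroupOf (cC R), ((w : cC R) : G) ∉ R →
      blockRank p (m'.bu w) =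
        blockRank p (m.bR (R ⊔ Subgroup.zpowers ((w : cC R) : G) ⊔ Subgroup.zpowers z)) :=
    fun w hw => (l.rank_bu hab w).trans (ih _ (left_lt_sup.2 (mt Subgroup.zpowers_le.1 hw))
      (l.sup_le' w) fun t ht => h t ⟨ht.1, H8.cC_anti le_sup_left ht.2⟩).symm
  rw [← m'.rank_bu_one, ← m'.rank_step (l.ab hab) hz' fun w ⟨n, hn, e⟩ => ?_]
  · exact (l.rank_bu hab z').symm
  rw [key w fun hw => e (fx hw n), key (z' * w) fun hw => e ?_]
  · suffices e : Subgroup.zpowers (z * w) ⊔ Subgroup.zpowers z =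
        Subgroup.zpowers ((w : cC R) : G) ⊔ Subgroup.zpowers z by
      rw [sup_assoc, sup_assoc, ← e]; rfl
    refine le_antisymm (sup_le (Subgroup.zpowers_le.2 (mul_mem ?_ ?_)) le_sup_right)
      (sup_le (Subgroup.zpowers_le.2 ?_) le_sup_right)
    · exact Subgroup.mem_sup_right (Subgroup.mem_zpowers z)
    · exact Subgroup.mem_sup_left (Subgroup.mem_zpowers _)
    · exact (Subgroup.mul_mem_cancel_left _ (Subgroup.mem_sup_right (Subgroup.mem_zpowers z))).1
        (Subgroup.mem_sup_left (Subgroup.mem_zpowers _))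
  · have := fx hw n
    rwa [Subgroup.coe_mul, ← conj_mul, hz' n hn, mul_right_inj] at this

/-- Watanabe's theorem. -/
theorem Lv.watanabe {m : MP p M B P} {φ : K →* G} {B' : Set (IrrCharacter K)} {P' : Subgroup K}
    {m' : MP p M B' P'} {u : G} (l : m.Lv (Subgroup.zpowers u) φ m') (hab : P ≤ cC P)
    (h : ∀ t ∈ nN P ⊓ St m.e, t * u * t⁻¹ = u) :
    blockRank p B = blockRank p B' ∧ Nat.card B = Nat.card B' := by
  have hu := Subgroup.zpowers_le.1 l.le
  let β : P' ≃ P := ((P'.equivMapOfInjective φ l.inj).trans (MulEquiv.subgroupCongr l.map)).toEquiv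
  have hβ : ∀ v, (β v : G) = φ v := fun v => rfl
  have r : ∀ v, blockRank p (m'.bu v) = blockRank p (m.bu (β v)) := fun v => by
    rw [l.rank_bu hab, m.lv_bot.rank_bu hab, bot_sup_eq, sup_comm,
      m.rank_bR hab (Subgroup.zpowers_le.2 (l.mem v)) hu fun t ht => h t ht.1]
    rfl
  refine ⟨?_, ?_⟩
  · rw [← m'.rank_bu_one, r, ← m.rank_bu_one, show β 1 = 1 from Subtype.ext (map_one φ)]
  have := Fintype.ofFinite P
  have := Fintype.ofFinite P'
  apply Nat.cast_injective (R := ℂ)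
  rw [m.card_eq, m'.card_eq]
  refine (Fintype.sum_equiv β _ _ fun v => ?_).symm
  rw [r]
  congr 3
  refine Nat.card_congr (Equiv.subtypeEquiv β fun w => ?_)
  rw [m.fc_iff_ab hab, m'.fc_iff_ab (l.ab hab), hβ, hβ]
  refine ⟨fun ⟨n, hn, e⟩ => ⟨φ n, l.mem_stab.1 hn, by rw [← e]; simp⟩, fun ⟨n, hn, e⟩ => ?_⟩
  obtain ⟨n, rfl⟩ : n ∈ φ.range := by
    rw [l.rng, ← top_inf_eq (cC _), top_inf_cC_zpowers]
    exact Subgroup.mem_centralizer_singleton_iff.2 (mul_inv_eq_iff_eq_mul.1 (h n hn))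
  exact ⟨n, l.mem_stab.2 hn, l.inj (by rw [← e]; simp)⟩

end MP

end H7
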